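import Cfsg.Agent.H80.M12.Eval

/-! Reduction of the sixteen twisted cases to the first one. -/

set_option autoImplicit false

namespace Cfsg.Agent.H80.M12

open Cfsg.Agent.H16

/-- the automorphism of the table group with index `i` -/
noncomputable def alpha (i a : Nat) : Nat := app (alphaTabs.getD i 0) a

theorem alpha_hom_chk : allFrom (fun i => allL fun a => Nat.ble (Nat.succ (alpha i a)) 192 &&
    imp (Nat.beq (alpha i a) 0) (Nat.beq a 0) && (anyL fun b => Nat.beq (alpha i b) a) &&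
    allL fun b => Nat.beq (alpha i (mul a b)) (mul (alpha i a) (alpha i b))) 16 0 = true := by
  decide +kernel

theorem alpha_case_chk : allFrom (fun i => Nat.beq (alpha i sI) sI && Nat.beq (alpha i eI) eI &&
    Nat.beq (alpha i esI) esI && Nat.beq (alpha i 0) 0 && Nat.beq (caseAt 0).t0 0 &&
    allT (fun x => memT (alpha i x) && Nat.beq (app (caseAt i).tab (alpha i x))
      (alpha i (app (caseAt 0).tab x)) && memT (app (caseAt 0).tab x) &&
      Nat.ble (Nat.succ (app (caseAt 0).tab x)) 192) &&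
    memS (alpha i hhI) &&
    peq ((caseAt i).mm ((caseAt i).mm (0, 1) (alpha i hhI, 0))
      ((caseAt i).mm (0, 1) (alpha i hhI, 0))) (0, 0)) 16 0 = true := by
  decide +kernel

namespace Amalgam

variable {G : Type*} [Group G] {s : G} {F : Frame s} {y : G}

/-- A case among the first sixteen is the first case in other coordinates. -/
theorem canonical {i : Nat} (hi : i < 16) (A : Amalgam F (caseAt i) y) :
    ∃ F' : Frame s, Amalgam F' (caseAt 0) y := by
  have h1 := allFrom_spec alpha_hom_chk i (Nat.zero_le i) (by omega)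
  have h2 := allFrom_spec alpha_case_chk i (Nat.zero_le i) (by omega)
  simp only [Bool.and_eq_true] at h2
  obtain ⟨⟨⟨⟨⟨⟨⟨as, ae⟩, aes⟩, a0⟩, t00⟩, aT⟩, aS⟩, amm⟩ := h2
  have P : ∀ a, a < 192 → alpha i a < 192 ∧ (alpha i a = 0 → a = 0) ∧
      (∃ b, b < 192 ∧ alpha i b = a) ∧
      ∀ b, b < 192 → alpha i (mul a b) = mul (alpha i a) (alpha i b) := by
    intro a ha
    have h := allL_spec h1 ha
    simp only [Bool.and_eq_true] at h
    refine ⟨Nat.le_of_ble_eq_true h.1.1.1, fun e => Nat.eq_of_beq_eq_true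
      (imp_spec h.1.1.2 (beq_true e)), ?_, fun b hb => Nat.eq_of_beq_eq_true (allL_spec h.2 hb)⟩
    obtain ⟨b, hb, hba⟩ := anyL_spec h.1.2
    exact ⟨b, hb, Nat.eq_of_beq_eq_true hba⟩
  have hz : ∀ b, b < 192 → F.ι (alpha i (inv b)) = (F.ι (alpha i b))⁻¹ := by
    intro b hb
    rw [eq_inv_iff_mul_eq_one, mul_eq_one_comm,
      ← F.map_mul _ _ (P b hb).1 (P _ (inv_lt hb)).1, ← (P b hb).2.2.2 _ (inv_lt hb),
      mul_inv' hb, Nat.eq_of_beq_eq_true a0, F.map_zero]
  let F' : Frame s :=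
    { ι := fun a => F.ι (alpha i a)
      map_mul := fun a b ha hb => by
        rw [(P a ha).2.2.2 b hb, F.map_mul _ _ (P a ha).1 (P b hb).1]
      inj := fun a b ha hb h => by
        have e : F.ι (alpha i (mul a (inv b))) = F.ι 0 := by
          rw [(P a ha).2.2.2 _ (inv_lt hb), F.map_mul _ _ (P a ha).1 (P _ (inv_lt hb)).1, hz b hb,
            h, mul_inv_cancel, F.map_zero]
        have hm := (P _ (mul_lt ha (inv_lt hb))).2.1
          (F.inj _ _ (P _ (mul_lt ha (inv_lt hb))).1 (by norm_num) e)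
        refine F.inj a b ha hb ?_
        rw [← mul_inv_eq_one, ← F.map_inv hb, ← F.map_mul _ _ ha (inv_lt hb), hm, F.map_zero]
      surj := fun x hx => by
        obtain ⟨a, ha, rfl⟩ := F.surj x hx
        obtain ⟨b, hb, rfl⟩ := (P a ha).2.2.1
        exact ⟨b, hb, rfl⟩
      map_s := by rw [Nat.eq_of_beq_eq_true as, F.map_s] }
  have Q : ∀ x, x < 192 → memT x = true → memT (alpha i x) = true ∧
      app (caseAt i).tab (alpha i x) = alpha i (app (caseAt 0).tab x) ∧
      memT (app (caseAt 0).tab x) = true ∧ app (caseAt 0).tab x < 192 := by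
    intro x hx hT
    have h := allT_spec aT hx hT
    simp only [Bool.and_eq_true] at h
    exact ⟨h.1.1.1, Nat.eq_of_beq_eq_true h.1.1.2, h.1.2, Nat.le_of_ble_eq_true h.2⟩
  refine ⟨F', A.y_cube, ?_, ?_, fun a ha hT => ⟨(Q a ha hT).2.2.2, (Q a ha hT).2.2.1⟩, ?_, ?_, ?_⟩
  · show _ = F.ι (alpha i eI)
    rw [Nat.eq_of_beq_eq_true ae, A.y_s]
  · show y * F.ι (alpha i eI) * y⁻¹ = F.ι (alpha i esI)
    rw [Nat.eq_of_beq_eq_true ae, Nat.eq_of_beq_eq_true aes, A.y_e]
  · rw [Nat.eq_of_beq_eq_true t00]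
    exact ⟨by norm_num, by decide +kernel⟩
  · intro a ha hT
    show y * F.ι (alpha i a) * y⁻¹ = F.ι (alpha i (app (caseAt 0).tab a))
    rw [← (Q a ha hT).2.1, A.y_T _ (P a ha).1 (Q a ha hT).1]
  · have hah : alpha i hhI < 192 := (P hhI (by decide)).1
    have o1 : okP (0, 1) = true := by decide +kernel
    have o2 : okP (alpha i hhI, 0) = true := by
      simp only [okP, Bool.and_eq_true, Nat.ble_eq]
      exact ⟨⟨hah, aS⟩, by norm_num⟩
    obtain ⟨m1, m2⟩ := A.mm_spec o1 o2
    obtain ⟨-, m4⟩ := A.mm_spec m1 m1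
    rw [Amalgam.peq_spec amm, m2] at m4
    simp only [val, F.map_zero, pow_zero, pow_one, mul_one, one_mul, ← mul_assoc] at m4
    show y * F.ι (alpha i hhI) * y * F.ι (alpha i hhI) = F.ι (alpha i (caseAt 0).t0)
    rw [Nat.eq_of_beq_eq_true t00, Nat.eq_of_beq_eq_true a0, F.map_zero, ← m4]

end Amalgam

end Cfsg.Agent.H80.M12
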