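import Cfsg.Agent.H80.M12.Eval
import Cfsg.Agent.H28.ZStar
import Cfsg.Agent.S0223
import Cfsg.Agent.S1225

/-! The Sylow subgroup and the classes of involutions. -/

set_option autoImplicit false

namespace Cfsg.Agent.H80.M12

open Cfsg.Agent.H16

theorem S_facts_chk : (allL (fun a => imp (memS a) (memS (inv a))) &&
    allL (fun a => imp (memS a && allL fun b => imp (memS b) (commB a b))
      (Nat.beq a 0 || Nat.beq a sI)) &&
    allL (fun a => imp (allL fun b => imp (memS b) (memS (conj a b))) (memS a)) &&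
    memS sI && memS cI && memS 0) = true := by
  decide +kernel

namespace Frame

variable {G : Type*} [Group G] {s : G} (F : Frame s)

/-- the Sylow subgroup of the frame -/
noncomputable def syl : Subgroup G where
  carrier := {x | ∃ a, a < 192 ∧ memS a = true ∧ F.ι a = x}
  one_mem' := ⟨0, by norm_num, by decide +kernel, F.map_zero⟩
  mul_mem' := by
    rintro _ _ ⟨a, ha, hs, rfl⟩ ⟨b, hb, hs', rfl⟩
    exact ⟨mul a b, mul_lt ha hb,
      imp_spec (allL_spec (imp_spec (allL_spec S_closed ha) hs) hb) hs', F.map_mul a b ha hb⟩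
  inv_mem' := by
    rintro _ ⟨a, ha, hs, rfl⟩
    have h := S_facts_chk
    simp only [Bool.and_eq_true] at h
    exact ⟨inv a, inv_lt ha, imp_spec (allL_spec h.1.1.1.1.1 ha) hs, F.map_inv ha⟩

theorem mem_syl {a : Nat} (ha : a < 192) : F.ι a ∈ F.syl ↔ memS a = true := by
  refine ⟨fun ⟨b, hb, hs, he⟩ => ?_, fun h => ⟨a, ha, h, rfl⟩⟩
  rwa [← F.inj b a hb ha he]

theorem card_syl : Nat.card F.syl = 64 := by
  have h : ((Finset.Ico 0 (0 + 192)).filter fun a => memS a = true).card = 64 := by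
    rw [← countFrom_spec]; exact card_S
  rw [← h, ← Nat.card_eq_finsetCard]
  refine (Nat.card_congr (Equiv.ofBijective
    (fun a => ⟨F.ι a.1, (by
      obtain ⟨h1, h2⟩ := Finset.mem_filter.mp a.2
      exact ⟨a.1, (Finset.mem_Ico.mp h1).2, h2, rfl⟩)⟩) ⟨?_, ?_⟩)).symm
  · intro a b he
    exact Subtype.ext (F.inj _ _ (Finset.mem_Ico.mp (Finset.mem_filter.mp a.2).1).2
      (Finset.mem_Ico.mp (Finset.mem_filter.mp b.2).1).2 (congrArg Subtype.val he))
  · rintro ⟨_, a, ha, hs, rfl⟩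
    exact ⟨⟨a, Finset.mem_filter.mpr ⟨Finset.mem_Ico.mpr ⟨Nat.zero_le a, ha⟩, hs⟩⟩, rfl⟩

/-- The Sylow subgroup of the involution centralizer is a Sylow subgroup of the group. -/
theorem exists_sylow [Finite G] : ∃ P : Sylow 2 G, (P : Subgroup G) = F.syl := by
  haveI := Fact.mk Nat.prime_two
  have hp : IsPGroup 2 F.syl := IsPGroup.of_card (n := 6) (by rw [F.card_syl]; norm_num)
  obtain ⟨P, hP⟩ := hp.exists_le_sylow
  refine ⟨P, le_antisymm (fun z hz => ?_) hP⟩
  by_contra hne
  obtain ⟨x, hxP, hxS, hxN⟩ := H28.exists_mem_normalizer_not_mem P.2 hP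
    (fun e => hne (e ▸ hz))
  have hchk := S_facts_chk
  simp only [Bool.and_eq_true] at hchk
  have hsS : s ∈ F.syl := ⟨sI, by decide, hchk.1.1.2, F.map_s⟩
  have hxs := (Subgroup.mem_normalizer_iff.mp hxN s).mp hsS
  obtain ⟨a, ha, haS, hae⟩ := hxs
  have hac : allL (fun b => imp (memS b) (commB a b)) = true := by
    refine allFrom_of_forall fun b _ hb => ?_
    have hb' : b < 192 := by omega
    cases hbS : memS b with
    | false => rfl
    | true =>
      refine (F.commB_iff ha hb').mpr ?_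
      have hm : x⁻¹ * F.ι b * x⁻¹⁻¹ ∈ F.syl :=
        (Subgroup.mem_normalizer_iff.mp (inv_mem hxN) (F.ι b)).mp ((F.mem_syl hb').mpr hbS)
      obtain ⟨d, hd, -, hde⟩ := hm
      have hc := comm_conj x (F.comm_s hd).symm
      rw [hde] at hc
      rw [hae]
      simpa [mul_assoc] using hc
  have := imp_spec (allL_spec hchk.1.1.1.1.2 ha) (by simp [haS, hac])
  rw [Bool.or_eq_true] at this
  rcases this with h | h
  · rw [Nat.eq_of_beq_eq_true h, F.map_zero] at hae
    have : s = 1 := by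
      have h2 := hae.symm
      rwa [mul_inv_eq_one, mul_eq_left] at h2
    exact absurd (this ▸ F.orderOf_s) (by rw [orderOf_one]; norm_num)
  · rw [Nat.eq_of_beq_eq_true h, F.map_s] at hae
    obtain ⟨d, hd, hde⟩ := F.surj x (mul_inv_eq_iff_eq_mul.mp hae.symm)
    refine hxS ?_
    rw [← hde, F.mem_syl hd]
    refine imp_spec (allL_spec hchk.1.1.1.2 hd) (allFrom_of_forall fun b _ hb => ?_)
    have hb' : b < 192 := by omega
    cases hbS : memS b with
    | false => rfl
    | true =>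
      show memS (conj d b) = true
      rw [← F.mem_syl (conj_lt hd hb'), F.map_conj hd hb', hde]
      exact (Subgroup.mem_normalizer_iff.mp hxN (F.ι b)).mp ((F.mem_syl hb').mpr hbS)

/-- every involution is conjugate into the involution centralizer -/
theorem involution_cases [Finite G] {t : G} (ht : orderOf t = 2) (he : IsConj s (F.ι eI)) :
    IsConj s t ∨ IsConj (F.ι cI) t ∨ IsConj (F.ι sigI) t := by
  haveI := Fact.mk Nat.prime_two
  obtain ⟨P, hP⟩ := F.exists_sylow
  obtain ⟨R, hR⟩ := (IsPGroup.of_card (p := 2) (n := 1)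
    (G := Subgroup.zpowers t) (by rw [Nat.card_zpowers, ht, pow_one])).exists_le_sylow
  obtain ⟨g, hg⟩ := MulAction.exists_smul_eq G R P
  have hmem : g * t * g⁻¹ ∈ F.syl := by
    rw [← hP, ← hg, Sylow.coe_subgroup_smul]
    exact ⟨t, hR (Subgroup.mem_zpowers t), rfl⟩
  obtain ⟨a, ha, -, hae⟩ := hmem
  have hct : IsConj (F.ι a) t := (isConj_iff.mpr ⟨g, hae.symm⟩).symm
  have h0 : cls a ≠ 0 := (F.orderOf_two ha).mp (by
    rw [hae]; exact ((MulAut.conj g).orderOf_eq t).trans ht)
  rcases cls_cases ha h0 with h | h | h | h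
  · left; rw [h, F.map_s] at hct; exact hct
  · left; exact (he.trans (F.isConj_of_cls_eq (by decide) ha (cls_eI.trans h.symm)
      (by rw [cls_eI]; norm_num))).trans hct
  · right; left
    exact (F.isConj_of_cls_eq (by decide) ha
      ((show cls cI = 3 by decide +kernel).trans h.symm)
      (by rw [show cls cI = 3 by decide +kernel]; norm_num)).trans hct
  · right; right
    exact (F.isConj_of_cls_eq (by decide) ha (sig_cls.trans h.symm)
      (by rw [sig_cls]; norm_num)).trans hct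

/-- A subgroup containing the centralizers of the representatives and fusing the rest inside
itself is the whole group. -/
theorem eq_top_of_centralizers [Finite G] (H : Subgroup G)
    (hL : Subgroup.centralizer ({s} : Set G) ≤ H)
    (hc : Subgroup.centralizer ({F.ι cI} : Set G) ≤ H)
    (he : ∃ k ∈ H, k * F.ι eI * k⁻¹ = s)
    (hsig : ∃ k ∈ H, k * F.ι sigI * k⁻¹ = s ∨ k * F.ι sigI * k⁻¹ = F.ι cI)
    (hnc : ¬ IsConj s (F.ι cI)) : H = ⊤ := by
  haveI := Fact.mk Nat.prime_two
  by_contra hH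
  have hιH : ∀ a, a < 192 → F.ι a ∈ H := fun a ha => hL (F.mem_centralizer.mpr ⟨a, ha, rfl⟩)
  have hsyl : F.syl ≤ H := by
    rintro _ ⟨a, ha, -, rfl⟩
    exact hιH a ha
  obtain ⟨P, hP⟩ := F.exists_sylow
  have repr : ∀ t ∈ H, orderOf t = 2 →
      ∃ k ∈ H, k * t * k⁻¹ = s ∨ k * t * k⁻¹ = F.ι cI := by
    intro t htH ht
    obtain ⟨R, hR⟩ := (IsPGroup.of_card (p := 2) (n := 1) (G := Subgroup.zpowers (⟨t, htH⟩ : H))
      (by rw [Nat.card_zpowers, Subgroup.orderOf_mk, ht, pow_one])).exists_le_sylow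
    obtain ⟨g, hg⟩ := MulAction.exists_smul_eq H R (P.subtype (hP.trans_le hsyl))
    have hmem : g * ⟨t, htH⟩ * g⁻¹ ∈ ((P.subtype (hP.trans_le hsyl) : Sylow 2 H) : Subgroup H) := by
      rw [← hg, Sylow.coe_subgroup_smul]
      exact ⟨_, hR (Subgroup.mem_zpowers _), rfl⟩
    rw [Sylow.coe_subtype, Subgroup.mem_subgroupOf, hP] at hmem
    simp only [Subgroup.coe_mul, Subgroup.coe_inv] at hmem
    obtain ⟨a, ha, -, hae⟩ := hmem
    have h0 : cls a ≠ 0 := (F.orderOf_two ha).mp (by
      rw [hae]; exact ((MulAut.conj (g : G)).orderOf_eq t).trans ht)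
    have inL : ∀ r, r < 192 → cls r = cls a → ∃ l, l < 192 ∧ F.ι l * F.ι a * (F.ι l)⁻¹ = F.ι r := by
      intro r hr hcl
      obtain ⟨l, hl, hl'⟩ := anyL_spec (imp_spec (allL_spec (allL_spec
        (show allL (fun a => allL fun r => imp (Nat.beq (cls r) (cls a) && !Nat.beq (cls a) 0)
          (anyL fun l => Nat.beq (conj l a) r)) = true by decide +kernel) ha) hr)
        (by rw [Bool.and_eq_true, Bool.not_eq_true']; exact ⟨beq_true hcl, beq_false h0⟩))
      exact ⟨l, hl, by rw [← F.map_conj hl ha, Nat.eq_of_beq_eq_true hl']⟩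
    have fin : ∀ k ∈ H, ∀ r, r < 192 → cls r = cls a → (k * F.ι r * k⁻¹ = s ∨
        k * F.ι r * k⁻¹ = F.ι cI) → ∃ k ∈ H, k * t * k⁻¹ = s ∨ k * t * k⁻¹ = F.ι cI := by
      intro k hk r hr hcl hkr
      obtain ⟨l, hl, hle⟩ := inL r hr hcl
      refine ⟨k * F.ι l * g, mul_mem (mul_mem hk (hιH l hl)) g.2, ?_⟩
      have e : k * F.ι l * (g : G) * t * (k * F.ι l * (g : G))⁻¹ = k * F.ι r * k⁻¹ := by
        rw [← hle, hae]; group
      rwa [e]
    rcases cls_cases ha h0 with h | h | h | h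
    · exact fin 1 H.one_mem sI (by decide) (by rw [h]) (Or.inl (by rw [F.map_s]; group))
    · obtain ⟨k, hk, hke⟩ := he
      exact fin k hk eI (by decide) (cls_eI.trans h.symm) (Or.inl hke)
    · exact fin 1 H.one_mem cI (by decide) ((show cls cI = 3 by decide +kernel).trans h.symm)
        (Or.inr (by group))
    · obtain ⟨k, hk, hke⟩ := hsig
      exact fin k hk sigI (by decide) (sig_cls.trans h.symm) hke
  have back : ∀ (t k : G), k ∈ H → ∀ r : G, k * t * k⁻¹ = r →
      Subgroup.centralizer ({r} : Set G) ≤ H → Subgroup.centralizer ({t} : Set G) ≤ H := by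
    intro t k hk r hr hCr x hx
    rw [Subgroup.mem_centralizer_singleton_iff] at hx
    have : k * x * k⁻¹ ∈ H := hCr (by
      rw [Subgroup.mem_centralizer_singleton_iff, ← hr]
      exact comm_conj k hx)
    rwa [H.mul_mem_cancel_right (inv_mem hk), H.mul_mem_cancel_left hk] at this
  have hcent : ∀ t ∈ H, orderOf t = 2 → Subgroup.centralizer ({t} : Set G) ≤ H := by
    intro t htH ht
    obtain ⟨k, hk, h | h⟩ := repr t htH ht
    · exact back t k hk _ h hL
    · exact back t k hk _ h hc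
  have hfus : ∀ t ∈ H, ∀ u ∈ H, orderOf t = 2 → orderOf u = 2 → IsConj t u →
      ∃ h ∈ H, h * t * h⁻¹ = u := by
    intro t htH u huH ht hu hconj
    obtain ⟨k, hk, hk'⟩ := repr t htH ht
    obtain ⟨m, hm, hm'⟩ := repr u huH hu
    have c1 : IsConj (k * t * k⁻¹) (m * u * m⁻¹) :=
      ((isConj_iff.mpr ⟨k, rfl⟩ : IsConj t _).symm.trans hconj).trans (isConj_iff.mpr ⟨m, rfl⟩)
    refine ⟨m⁻¹ * k, mul_mem (inv_mem hm) hk, ?_⟩
    have e : m * u * m⁻¹ = k * t * k⁻¹ := by
      rcases hk' with h1 | h1 <;> rcases hm' with h2 | h2 <;> rw [h1, h2] <;>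
        rw [h1, h2] at c1
      · exact absurd c1 hnc
      · exact absurd c1.symm hnc
    calc _ = m⁻¹ * (k * t * k⁻¹) * m := by group
      _ = _ := by rw [← e]; group
  have heven : Even (Nat.card H) := even_iff_two_dvd.mpr
    (((show (2 : ℕ) ∣ 64 by norm_num).trans (dvd_of_eq F.card_syl.symm)).trans
      (Subgroup.card_dvd_of_le hsyl))
  have hSE := (S0223.result H hH heven).mpr ⟨hcent, hfus⟩
  obtain ⟨u, hu, huH⟩ : ∃ u, orderOf u = 2 ∧ u ∉ H := by
    by_contra hcon
    push Not at hcon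
    apply hH
    rw [eq_top_iff]
    intro g _
    have h1 : g * s * g⁻¹ ∈ H := hcon _ (((MulAut.conj g).orderOf_eq s).trans F.orderOf_s)
    obtain ⟨k, hk, hke⟩ := hfus s (hιH sI (by decide) |> fun h => F.map_s ▸ h) _ h1 F.orderOf_s
      (((MulAut.conj g).orderOf_eq s).trans F.orderOf_s) (isConj_iff.mpr ⟨g, rfl⟩)
    have : k⁻¹ * g ∈ H := hL (by
      rw [Subgroup.mem_centralizer_singleton_iff]
      calc k⁻¹ * g * s = k⁻¹ * (g * s * g⁻¹) * g := by group
        _ = k⁻¹ * (k * s * k⁻¹) * g := by rw [hke]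
        _ = s * (k⁻¹ * g) := by group)
    simpa using mul_mem hk this
  have hcord : orderOf (F.ι cI) = 2 := (F.orderOf_two (by decide)).mpr (by decide +kernel)
  exact hnc (((S1225.result H hSE u hu huH s (F.ι cI) F.orderOf_s
    (F.map_s ▸ hιH sI (by decide)) hcord (hιH cI (by decide))).2 s (F.ι cI) F.orderOf_s hcord))

end Frame

end Cfsg.Agent.H80.M12
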