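import Cfsg.Agent.H80.M12.Classes

/-!
The case in which the element of order three normalises the elementary subgroup of order eight:
that subgroup is then normal in the whole group.
-/

set_option autoImplicit false
set_option maxRecDepth 8000

namespace Cfsg.Agent.H80.M12

open Cfsg.Agent.H16

theorem fix_case_chk : allFrom (fun i =>
    allT (fun x => imp (memE x) (memE (app (caseAt i).tab x)) &&
      imp (Nat.beq (cls x) 3) (!Nat.beq (cls (app (caseAt i).tab x)) 3)) &&
    !allT (fun x => !(Nat.beq (cls x) 4 && Nat.beq (cls (app (caseAt i).tab x)) 3))) 16 16 = true := by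
  decide +kernel

theorem memE_chk : (allL (fun a => imp (memE a) (allL fun b => imp (memE b)
      (memE (mul a b) && commB a b))) &&
    allL (fun a => imp (memE a) (Nat.beq (mul a a) 0 && memT a && Nat.beq (inv a) a)) &&
    allL (fun a => allL fun b => imp (memE b) (memE (conj a b))) && memE 0 && memE eI &&
    Nat.beq (countFrom memE 192 0) 8) = true := by
  decide +kernel

theorem pow_eight_chk : allL (fun b => imp (Nat.beq (cls b) 3 || Nat.beq (cls b) 4) (allL fun a =>
    imp (commB a b) (Nat.beq (mul (mul (mul a a) (mul a a)) (mul (mul a a) (mul a a))) 0))) = true := by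
  decide +kernel

theorem eight_commute_chk : anyL (fun u => Nat.beq (cls u) 2 && commB u cI &&
    Nat.beq (cls (mul u sI)) 2 && commB (mul u sI) cI) = true := by
  decide +kernel

namespace Frame

variable {G : Type*} [Group G] {s : G} (F : Frame s)

/-- the elementary subgroup of order eight -/
noncomputable def elem : Subgroup G where
  carrier := {x | ∃ a, a < 192 ∧ memE a = true ∧ F.ι a = x}
  one_mem' := ⟨0, by norm_num, by decide +kernel, F.map_zero⟩
  mul_mem' := by
    rintro _ _ ⟨a, ha, hs, rfl⟩ ⟨b, hb, hs', rfl⟩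
    have h := memE_chk
    simp only [Bool.and_eq_true] at h
    have h1 := imp_spec (allL_spec (imp_spec (allL_spec h.1.1.1.1.1 ha) hs) hb) hs'
    rw [Bool.and_eq_true] at h1
    exact ⟨mul a b, mul_lt ha hb, h1.1, F.map_mul a b ha hb⟩
  inv_mem' := by
    rintro _ ⟨a, ha, hs, rfl⟩
    have h := memE_chk
    simp only [Bool.and_eq_true] at h
    have h1 := imp_spec (allL_spec h.1.1.1.1.2 ha) hs
    rw [Bool.and_eq_true] at h1
    exact ⟨a, ha, hs, by rw [← F.map_inv ha, Nat.eq_of_beq_eq_true h1.2]⟩

theorem mem_elem {a : Nat} (ha : a < 192) : F.ι a ∈ F.elem ↔ memE a = true := by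
  refine ⟨fun ⟨b, hb, hs, he⟩ => ?_, fun h => ⟨a, ha, h, rfl⟩⟩
  rwa [← F.inj b a hb ha he]

theorem card_elem : Nat.card F.elem = 8 := by
  have h : ((Finset.Ico 0 (0 + 192)).filter fun a => memE a = true).card = 8 := by
    rw [← countFrom_spec]
    have h := memE_chk
    simp only [Bool.and_eq_true] at h
    exact Nat.eq_of_beq_eq_true h.2
  rw [← h, ← Nat.card_eq_finsetCard]
  refine (Nat.card_congr (Equiv.ofBijective
    (fun a => ⟨F.ι a.1, (by
      obtain ⟨h1, h2⟩ := Finset.mem_filter.mp a.2
      exact ⟨a.1, (Finset.mem_Ico.mp h1).2, h2, rfl⟩)⟩) ⟨?_, ?_⟩)).symm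
  · intro a b he
    exact Subtype.ext (F.inj _ _ (Finset.mem_Ico.mp (Finset.mem_filter.mp a.2).1).2
      (Finset.mem_Ico.mp (Finset.mem_filter.mp b.2).1).2 (congrArg Subtype.val he))
  · rintro ⟨_, a, ha, hs, rfl⟩
    exact ⟨⟨a, Finset.mem_filter.mpr ⟨Finset.mem_Ico.mpr ⟨Nat.zero_le a, ha⟩, hs⟩⟩, rfl⟩

theorem elem_comm : ∀ a ∈ F.elem, ∀ b ∈ F.elem, a * b = b * a := by
  rintro _ ⟨a, ha, hs, rfl⟩ _ ⟨b, hb, hs', rfl⟩
  have h := memE_chk
  simp only [Bool.and_eq_true] at h
  have h1 := imp_spec (allL_spec (imp_spec (allL_spec h.1.1.1.1.1 ha) hs) hb) hs'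
  rw [Bool.and_eq_true] at h1
  exact (F.commB_iff ha hb).mp h1.2

theorem elem_sq : ∀ a ∈ F.elem, a ^ 2 = 1 := by
  rintro _ ⟨a, ha, hs, rfl⟩
  have h := memE_chk
  simp only [Bool.and_eq_true] at h
  have h1 := imp_spec (allL_spec h.1.1.1.1.2 ha) hs
  simp only [Bool.and_eq_true] at h1
  rw [pow_two, ← F.map_mul a a ha ha, Nat.eq_of_beq_eq_true h1.1.1, F.map_zero]

end Frame

namespace Amalgam

variable {G : Type*} [Group G] {s : G} {F : Frame s} {y : G}

/-- In the fixed case the elementary subgroup of order eight is normal, and its nontrivial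
elements form one class. -/
theorem elem_normal [Finite G] {i : Nat} (h16 : 16 ≤ i) (h32 : i < 32)
    (A : Amalgam F (caseAt i) y) : F.elem.Normal := by
  have hchk := allFrom_spec fix_case_chk i h16 (by omega)
  simp only [Bool.and_eq_true] at hchk
  obtain ⟨hT, hsig⟩ := hchk
  have hE := memE_chk
  simp only [Bool.and_eq_true] at hE
  have he : IsConj s (F.ι eI) := isConj_iff.mpr ⟨y, A.y_s⟩
  have hσc : IsConj (F.ι sigI) (F.ι cI) := by
    obtain ⟨x, hx, hxT, hx4, hx3⟩ : ∃ x, x < 192 ∧ memT x = true ∧ cls x = 4 ∧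
        cls (app (caseAt i).tab x) = 3 := by
      by_contra hc
      push Not at hc
      rw [show allT (fun x => !(Nat.beq (cls x) 4 && Nat.beq (cls (app (caseAt i).tab x)) 3)) = true
        from allFrom_of_forall fun x _ hx => ?_] at hsig
      · simp at hsig
      cases hm : memT x with
      | false => rfl
      | true =>
        by_cases h4 : cls x = 4
        · simp [beq_false (hc x (by omega) hm h4)]
        · simp [beq_false h4]
    have hlt := (A.tab_T x hx hxT).1
    exact ((F.isConj_of_cls_eq (by decide) hx (sig_cls.trans hx4.symm)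
      (by rw [sig_cls]; norm_num)).trans (isConj_iff.mpr ⟨y, A.y_T x hx hxT⟩)).trans
      (F.isConj_of_cls_eq hlt (by decide) (hx3.trans (by decide +kernel)) (by rw [hx3]; norm_num))
  have c3 : cls cI = 3 := by decide +kernel
  have hnc : ¬ IsConj s (F.ι cI) := F.not_isConj_three (by decide) c3
  have sE : ∀ a, a < 192 → IsConj s (F.ι a) → cls a = 1 ∨ cls a = 2 := by
    intro a ha hc
    have h0 : cls a ≠ 0 := (F.orderOf_two ha).mp (by
      obtain ⟨g, hg⟩ := isConj_iff.mp hc
      rw [← hg]; exact ((MulAut.conj g).orderOf_eq s).trans F.orderOf_s)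
    rcases cls_cases ha h0 with h | h | h | h
    · left; rw [h, cls_sI]
    · right; exact h
    · exact absurd hc (F.not_isConj_three ha h)
    · exact absurd ((hc.trans (F.isConj_of_cls_eq ha (by decide) (h.trans sig_cls.symm) h0)).trans
        hσc) hnc
  -- `y` normalises the subgroup
  have hyE : y ∈ Subgroup.normalizer (F.elem : Set G) := by
    have key : ∀ x ∈ F.elem, y * x * y⁻¹ ∈ F.elem := by
      rintro _ ⟨a, ha, haE, rfl⟩
      have hb := imp_spec (allL_spec hE.1.1.1.1.2 ha) haE
      simp only [Bool.and_eq_true] at hb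
      have haT := hb.1.2
      have h1 := allT_spec hT ha haT
      rw [Bool.and_eq_true] at h1
      rw [A.y_T a ha haT, F.mem_elem (A.tab_T a ha haT).1]
      exact imp_spec h1.1 haE
    have hinv : y⁻¹ = y * y := inv_eq_of_mul_eq_one_left A.y_yy
    refine Subgroup.mem_normalizer_iff.mpr fun x => ⟨key x, fun hx => ?_⟩
    have h2 := key _ (key _ hx)
    convert h2 using 1
    calc x = (y * y * y) * x * (y * y * y)⁻¹ := by rw [A.y_yy]; group
      _ = _ := by group
  have hLE : Subgroup.centralizer ({s} : Set G) ≤ Subgroup.normalizer (F.elem : Set G) := by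
    intro x hx
    obtain ⟨a, ha, rfl⟩ := F.mem_centralizer.mp hx
    have key : ∀ d, d < 192 → ∀ z ∈ F.elem, F.ι d * z * (F.ι d)⁻¹ ∈ F.elem := by
      rintro d hd _ ⟨b, hb, hbE, rfl⟩
      rw [← F.map_conj hd hb, F.mem_elem (conj_lt hd hb)]
      exact imp_spec (allL_spec (allL_spec hE.1.1.1.2 hd) hb) hbE
    refine Subgroup.mem_normalizer_iff.mpr fun z => ⟨key a ha z, fun hz => ?_⟩
    have h2 := key (inv a) (inv_lt ha) _ hz
    rw [F.map_inv ha] at h2
    convert h2 using 1
    group
  -- every element of class two is a conjugate of `s` by `ι l * y`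
  have reach : ∀ u, u < 192 → cls u = 2 →
      ∃ l, l < 192 ∧ (F.ι l * y) * s * (F.ι l * y)⁻¹ = F.ι u := by
    intro u hu h2
    obtain ⟨l, hl, hle⟩ := anyL_spec (imp_spec (by
      have := allL_spec class_conj_chk hu
      simp only [Bool.and_eq_true] at this
      exact this.1.1) (beq_true h2))
    refine ⟨l, hl, ?_⟩
    rw [← Nat.eq_of_beq_eq_true hle, F.map_conj hl (by decide), ← A.y_s]
    group
  have hcle : Subgroup.centralizer ({F.ι cI} : Set G) ≤ Subgroup.centralizer ({s} : Set G) := by
    set K := Subgroup.centralizer ({F.ι cI} : Set G) with hK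
    have hsK : s ∈ K := by
      rw [hK, Subgroup.mem_centralizer_singleton_iff]
      first
        | exact (F.comm_s (by decide : cI < 192)).symm
        | exact F.comm_s (by decide : cI < 192)
    have memK : ∀ g : K, (g : G) * F.ι cI = F.ι cI * g := fun g => by
      have := Subgroup.mem_centralizer_singleton_iff.mp g.2
      first
        | exact this
        | exact this.symm
    have hiso : H28.IsIsolatedInvolution (⟨s, hsK⟩ : K) := by
      refine ⟨by rw [Subgroup.orderOf_mk]; exact F.orderOf_s, fun g hg => ?_⟩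
      have hcomm : (g : G) * s * (g : G)⁻¹ * s = s * ((g : G) * s * (g : G)⁻¹) :=
        (congrArg Subtype.val hg).symm
      obtain ⟨u, hu, hue⟩ := F.surj _ hcomm
      rcases sE u hu (isConj_iff.mpr ⟨_, hue.symm⟩) with h | h
      · apply Subtype.ext
        have hus : u = sI := by
          rcases cls_cases hu (by omega) with e | e | e | e
          · exact e
          all_goals omega
        simpa [hus, F.map_s] using hue.symm
      · exfalso
        obtain ⟨l, hl, hle⟩ := reach u hu h
        have e1 : (F.ι l * y)⁻¹ * g * s = s * ((F.ι l * y)⁻¹ * g) := by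
          calc _ = (F.ι l * y)⁻¹ * ((g : G) * s * (g : G)⁻¹) * g := by group
            _ = (F.ι l * y)⁻¹ * ((F.ι l * y) * s * (F.ι l * y)⁻¹) * g := by rw [← hue, hle]
            _ = _ := by group
        obtain ⟨m, hm, hme⟩ := F.surj _ e1
        have hg' : (g : G) = F.ι l * y * F.ι m := by rw [hme]; group
        have hc1 : conj m cI < 192 := conj_lt hm (by decide)
        have hc2 : conj (inv l) cI < 192 := conj_lt (inv_lt hl) (by decide)
        have e2 : y * F.ι (conj m cI) * y⁻¹ = F.ι (conj (inv l) cI) := by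
          rw [F.map_conj hm (by decide), F.map_conj (inv_lt hl) (by decide), F.map_inv hl]
          calc _ = (F.ι l)⁻¹ * (F.ι l * y * F.ι m * F.ι cI * (F.ι l * y * F.ι m)⁻¹) * F.ι l := by
                group
            _ = (F.ι l)⁻¹ * F.ι cI * (F.ι l)⁻¹⁻¹ := by
              rw [← hg', memK g]; group
        have hmid : y * F.ι esI * y⁻¹ = s := by
          calc _ = (y * y * y) * s * (y * y * y)⁻¹ := by rw [← A.y_e, ← A.y_s]; group
            _ = s := by rw [A.y_yy]; group
        have hc1T : memT (conj m cI) = true := by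
          have h1 := comm_conj y⁻¹ (F.comm_s hc2)
          rw [← e2] at h1
          have h1' : F.ι (conj m cI) * F.ι esI = F.ι esI * F.ι (conj m cI) := by
            calc _ = y⁻¹ * (y * F.ι (conj m cI) * y⁻¹) * y⁻¹⁻¹ * (y⁻¹ * (y * F.ι esI * y⁻¹) * y⁻¹⁻¹) := by
                  group
              _ = y⁻¹ * (y * F.ι esI * y⁻¹) * y⁻¹⁻¹ * (y⁻¹ * (y * F.ι (conj m cI) * y⁻¹) * y⁻¹⁻¹) := by
                  rw [hmid]; exact h1
              _ = _ := by group
          have := (F.commB_iff hc1 (by decide : esI < 192)).mpr h1'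
          exact imp_spec (allL_spec (show allL (fun a => imp (commB a esI) (memT a)) = true by
            decide +kernel) hc1) this
        rw [A.y_T _ hc1 hc1T] at e2
        have e3 := F.inj _ _ (A.tab_T _ hc1 hc1T).1 hc2 e2
        have h1 := allT_spec hT hc1 hc1T
        rw [Bool.and_eq_true] at h1
        have k3 : ∀ d, d < 192 → cls (conj d cI) = 3 := fun d hd => Nat.eq_of_beq_eq_true
          (allL_spec (show allL (fun d => Nat.beq (cls (conj d cI)) 3) = true by decide +kernel) hd)
        have := imp_spec h1.2 (beq_true (k3 m hm))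
        rw [e3, k3 _ (inv_lt hl)] at this
        simp at this
    have hO : Cfsg.pPrimeCore 2 K = ⊥ := by
      rw [eq_bot_iff]
      intro o ho
      have hodd : Odd (orderOf o) := by
        refine Odd.of_dvd_nat (Nat.coprime_two_right.mp (H19.pPrimeCore_coprime (G := K) 2)) ?_
        rw [← Subgroup.orderOf_mk o ho]
        exact orderOf_dvd_natCard _
      haveI := H19.pPrimeCore_normal 2 K
      -- fixed points of the involutions of class two
      have fpf : ∀ u, u < 192 → (cls u = 2 ∨ u = sI) → ∀ x : K, x ∈ Cfsg.pPrimeCore 2 K →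
          (x : G) * F.ι u = F.ι u * x → commB u cI = true → x = 1 := by
        intro u hu hu2 x hx hxu huc
        obtain ⟨h, hh⟩ : ∃ h : G, h * s * h⁻¹ = F.ι u := by
          rcases hu2 with h | h
          · obtain ⟨l, -, hle⟩ := reach u hu h; exact ⟨_, hle⟩
          · exact ⟨1, by rw [h, F.map_s]; group⟩
        have tr : ∀ z, z * F.ι u = F.ι u * z → (h⁻¹ * z * h) * s = s * (h⁻¹ * z * h) := by
          intro z hz
          have := comm_conj h⁻¹ hz
          rw [← hh] at this
          simpa [mul_assoc] using this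
        obtain ⟨b, hb, hbe⟩ := F.surj _ (tr (F.ι cI) ((F.commB_iff hu (by decide)).mp huc).symm)
        obtain ⟨a, ha, hae⟩ := F.surj _ (tr x hxu)
        have hcb : IsConj (F.ι cI) (F.ι b) := isConj_iff.mpr ⟨h⁻¹, by rw [hbe, inv_inv]⟩
        have hb0 : cls b ≠ 0 := (F.orderOf_two hb).mp (by
          rw [hbe]
          have := (MulAut.conj h⁻¹).orderOf_eq (F.ι cI)
          simp only [MulAut.conj_apply, inv_inv] at this
          rw [this]; exact (F.orderOf_two (by decide)).mpr (by rw [c3]; norm_num))
        have h34 : cls b = 3 ∨ cls b = 4 := by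
          rcases cls_cases hb hb0 with e | e | e | e
          · rw [e, F.map_s] at hcb; exact absurd hcb.symm hnc
          · exact absurd ((he.trans (F.isConj_of_cls_eq (by decide) hb (cls_eI.trans e.symm)
              (by rw [cls_eI]; norm_num))).trans hcb.symm) hnc
          · exact Or.inl e
          · exact Or.inr e
        have hab : commB a b = true := (F.commB_iff ha hb).mpr (by
          rw [hae, hbe]
          have := comm_conj h⁻¹ (memK x)
          simpa [mul_assoc] using this)
        have h8 := Nat.eq_of_beq_eq_true (imp_spec (allL_spec (imp_spec (allL_spec pow_eight_chk hb)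
          (by rw [Bool.or_eq_true]; exact h34.imp beq_true beq_true)) ha) hab)
        have hx8 : x ^ 8 = 1 := by
          apply Subtype.ext
          rw [Subgroup.coe_pow, Subgroup.coe_one]
          have hp : (h⁻¹ * (x : G) * h) ^ 8 = 1 := by
            rw [← hae, show (8 : ℕ) = 2 * 2 * 2 by norm_num, pow_mul, pow_mul, pow_two, pow_two,
              pow_two, ← F.map_mul _ _ ha ha, ← F.map_mul _ _ (mul_lt ha ha) (mul_lt ha ha),
              ← F.map_mul _ _ (mul_lt (mul_lt ha ha) (mul_lt ha ha))
                (mul_lt (mul_lt ha ha) (mul_lt ha ha)), h8, F.map_zero]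
          have := map_pow (MulAut.conj h) (h⁻¹ * (x : G) * h) 8
          rw [hp, map_one] at this
          simpa [mul_assoc] using this.symm
        have hox : Odd (orderOf x) := by
          refine Odd.of_dvd_nat (Nat.coprime_two_right.mp (H19.pPrimeCore_coprime (G := K) 2)) ?_
          rw [← Subgroup.orderOf_mk x hx]
          exact orderOf_dvd_natCard _
        have hd : orderOf x ∣ 2 ^ 3 := orderOf_dvd_of_pow_eq_one hx8
        obtain ⟨k, -, hk⟩ := (Nat.dvd_prime_pow Nat.prime_two).mp hd
        rw [hk] at hox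
        rcases k with _ | k
        · rw [pow_zero] at hk; exact orderOf_eq_one_iff.mp hk
        · exact absurd hox (by simp [Nat.pow_succ, parity_simps])
      obtain ⟨u, hu, hu'⟩ := anyL_spec eight_commute_chk
      simp only [Bool.and_eq_true] at hu'
      obtain ⟨⟨⟨hu2, huc⟩, hus2⟩, husc⟩ := hu'
      have inverts : ∀ (w : Nat), w < 192 → (cls w = 2 ∨ w = sI) → commB w cI = true →
          F.ι w * (o : G) * (F.ι w)⁻¹ = (o : G)⁻¹ := by
        intro w hw hw2 hwc
        have hwK : F.ι w ∈ K := by
          rw [hK, Subgroup.mem_centralizer_singleton_iff]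
          first
            | exact (F.commB_iff hw (by decide)).mp hwc
            | exact ((F.commB_iff hw (by decide)).mp hwc).symm
        have hw1 : (⟨F.ι w, hwK⟩ : K) * ⟨F.ι w, hwK⟩ = 1 := by
          apply Subtype.ext
          show F.ι w * F.ι w = 1
          have := pow_orderOf_eq_one (F.ι w)
          rwa [(F.orderOf_two hw).mpr (by rcases hw2 with e | e <;> simp [e, cls_sI]), pow_two]
            at this
        set φ : Cfsg.pPrimeCore 2 K →* Cfsg.pPrimeCore 2 K :=
          { toFun := fun x => ⟨⟨F.ι w, hwK⟩ * x * (⟨F.ι w, hwK⟩ : K)⁻¹,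
              Subgroup.Normal.conj_mem inferInstance _ x.2 _⟩
            map_one' := by ext; simp
            map_mul' := fun x z => by ext; simp } with hφ
        have hff : MonoidHom.FixedPointFree φ := by
          intro x hx
          have hx' := congrArg (fun z : Cfsg.pPrimeCore 2 K => ((z : K) : G)) hx
          simp only [hφ, MonoidHom.coe_mk, OneHom.coe_mk, Subgroup.coe_mul,
            Subgroup.coe_inv] at hx'
          exact Subtype.ext (fpf w hw hw2 _ x.2 (mul_inv_eq_iff_eq_mul.mp hx').symm hwc)
        have hinv : Function.Involutive φ := by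
          intro x
          apply Subtype.ext
          show (⟨F.ι w, hwK⟩ : K) * (⟨F.ι w, hwK⟩ * (x : K) * (⟨F.ι w, hwK⟩ : K)⁻¹) *
            (⟨F.ι w, hwK⟩ : K)⁻¹ = x
          rw [inv_eq_of_mul_eq_one_left hw1]
          simp [mul_assoc, hw1]
          rw [← mul_assoc, hw1, one_mul]
        have := congrFun (hff.coe_eq_inv_of_involutive hinv) ⟨o, ho⟩
        exact congrArg (fun z : Cfsg.pPrimeCore 2 K => ((z : K) : G)) this
      have i1 := inverts u hu (Or.inl (Nat.eq_of_beq_eq_true hu2)) huc
      have i2 := inverts _ (mul_lt hu (by decide)) (Or.inl (Nat.eq_of_beq_eq_true hus2)) husc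
      have i3 := inverts sI (by decide) (Or.inr rfl) (by decide +kernel)
      rw [F.map_mul _ _ hu (by decide)] at i2
      rw [F.map_s] at i2 i3
      have hoo : (o : G)⁻¹ = o := by
        calc (o : G)⁻¹ = F.ι u * s * (o : G) * (F.ι u * s)⁻¹ := i2.symm
          _ = F.ι u * (s * (o : G) * s⁻¹) * (F.ι u)⁻¹ := by group
          _ = (F.ι u * (o : G) * (F.ι u)⁻¹)⁻¹ := by rw [i3]; group
          _ = _ := by rw [i1, inv_inv]
      have ho2 : o ^ 2 = 1 := by
        apply Subtype.ext
        rw [Subgroup.coe_pow, Subgroup.coe_one, pow_two]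
        nth_rw 2 [← hoo]
        exact mul_inv_cancel _
      have hd := orderOf_dvd_of_pow_eq_one ho2
      rw [Subgroup.mem_bot]
      rcases (Nat.dvd_prime Nat.prime_two).mp hd with e | e
      · exact orderOf_eq_one_iff.mp e
      · rw [e] at hodd; exact absurd hodd (by decide)
    intro g hg
    have hz := H28.zStar hiso ⟨g, hg⟩
    rw [hO, Subgroup.mem_bot] at hz
    have := congrArg Subtype.val hz
    simp only [Subgroup.coe_mul, Subgroup.coe_inv, Subgroup.coe_one] at this
    rw [Subgroup.mem_centralizer_singleton_iff]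
    have h2 : s * g * s⁻¹ = g := mul_inv_eq_one.mp this
    first
      | exact (mul_inv_eq_iff_eq_mul.mp h2)
      | exact (mul_inv_eq_iff_eq_mul.mp h2).symm
  have heH : ∃ k ∈ Subgroup.normalizer (F.elem : Set G), k * F.ι eI * k⁻¹ = s :=
    ⟨y⁻¹, inv_mem hyE, by rw [← A.y_s]; group⟩
  have hsH : ∃ k ∈ Subgroup.normalizer (F.elem : Set G),
      k * F.ι sigI * k⁻¹ = s ∨ k * F.ι sigI * k⁻¹ = F.ι cI := by
    obtain ⟨x, hx, hxT, hx4, hx3⟩ : ∃ x, x < 192 ∧ memT x = true ∧ cls x = 4 ∧
        cls (app (caseAt i).tab x) = 3 := by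
      by_contra hc
      push Not at hc
      rw [show allT (fun x => !(Nat.beq (cls x) 4 && Nat.beq (cls (app (caseAt i).tab x)) 3)) = true
        from allFrom_of_forall fun x _ hx => ?_] at hsig
      · simp at hsig
      cases hm : memT x with
      | false => rfl
      | true =>
        by_cases h4 : cls x = 4
        · simp [beq_false (hc x (by omega) hm h4)]
        · simp [beq_false h4]
    obtain ⟨l, hl, hle⟩ := anyL_spec (imp_spec (by
      have := allL_spec class_conj_chk hx
      simp only [Bool.and_eq_true] at this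
      exact this.2) (beq_true hx4))
    have hlt := (A.tab_T x hx hxT).1
    obtain ⟨m, hm, hme⟩ := anyL_spec (imp_spec (by
      have := allL_spec class_conj_chk hlt
      simp only [Bool.and_eq_true] at this
      exact this.1.2) (beq_true hx3))
    refine ⟨(F.ι m)⁻¹ * y * F.ι l, mul_mem (mul_mem (inv_mem (hLE ?_)) hyE) (hLE ?_), Or.inr ?_⟩
    · exact F.mem_centralizer.mpr ⟨m, hm, rfl⟩
    · exact F.mem_centralizer.mpr ⟨l, hl, rfl⟩
    · have e1 : F.ι l * F.ι sigI * (F.ι l)⁻¹ = F.ι x := by
        rw [← F.map_conj hl (by decide), Nat.eq_of_beq_eq_true hle]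
      have e2 : F.ι m * F.ι cI * (F.ι m)⁻¹ = y * F.ι x * y⁻¹ := by
        rw [← F.map_conj hm (by decide), Nat.eq_of_beq_eq_true hme, A.y_T x hx hxT]
      calc _ = (F.ι m)⁻¹ * (y * (F.ι l * F.ι sigI * (F.ι l)⁻¹) * y⁻¹) * F.ι m := by group
        _ = _ := by rw [e1, ← e2]; group
  rw [← Subgroup.normalizer_eq_top_iff]
  exact F.eq_top_of_centralizers _ hLE (hcle.trans hLE) heH hsH hnc

end Amalgam

end Cfsg.Agent.H80.M12
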