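import Cfsg.Agent.H80.M12.ModelCent
import Cfsg.Agent.H80.M12.Classes
import Cfsg.Agent.H80.M12.FixE
import Cfsg.Agent.H80.M12.Canon
import Cfsg.Prelude.Def_SporadicB
import Cfsg.Agent.H28.ZStar
import Cfsg.Agent.H44.TISylow

/-! Transport of identifications, and the final case distinction. -/

set_option autoImplicit false

namespace Cfsg.Agent.H80.M12

open Cfsg.Agent.H16

theorem centre_chk : allL (fun a => Nat.beq a 0 || Nat.beq a sI ||
    anyL (fun b => memS b && !commB a b)) = true := by
  decide +kernel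

theorem exists_conj_frame {X : Type*} [Group X] {u₀ : X} (F : Frame u₀) (k : X) :
    Nonempty (Frame (k * u₀ * k⁻¹)) := by
  refine ⟨⟨fun a => k * F.ι a * k⁻¹, fun a b ha hb => ?_, fun a b ha hb h => ?_, fun x hx => ?_, ?_⟩⟩
  · rw [F.map_mul a b ha hb]; group
  · exact F.inj a b ha hb (mul_left_cancel (mul_right_cancel h))
  · obtain ⟨a, ha, hae⟩ := F.surj (k⁻¹ * x * k) (by
      calc k⁻¹ * x * k * u₀ = k⁻¹ * (x * (k * u₀ * k⁻¹)) * k := by group
        _ = k⁻¹ * ((k * u₀ * k⁻¹) * x) * k := by rw [hx]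
        _ = _ := by group)
    exact ⟨a, ha, by rw [hae]; group⟩
  · rw [F.map_s]

/-- A two-central involution of a group with a frame has a frame. -/
theorem exists_frame_of_twoCentral {X : Type*} [Group X] [Finite X] {u₀ : X} (F : Frame u₀)
    {u : X} (hu : Cfsg.IsTwoCentralInvolution u) : Nonempty (Frame u) := by
  haveI := Fact.mk Nat.prime_two
  obtain ⟨ho, P, huP, hcen⟩ := hu
  obtain ⟨R, hR⟩ := F.exists_sylow
  obtain ⟨g, hg⟩ := MulAction.exists_smul_eq X P R
  have hRP : ∀ x, x ∈ F.syl → g⁻¹ * x * g ∈ (P : Subgroup X) := by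
    intro x hx
    rw [← hR, ← hg, Sylow.coe_subgroup_smul] at hx
    obtain ⟨z, hz, rfl⟩ := hx
    show g⁻¹ * (g * z * g⁻¹) * g ∈ (P : Subgroup X)
    rw [show g⁻¹ * (g * z * g⁻¹) * g = z by group]
    exact hz
  have hv : g * u * g⁻¹ ∈ F.syl := by
    rw [← hR, ← hg, Sylow.coe_subgroup_smul]
    exact ⟨u, huP, rfl⟩
  obtain ⟨a, ha, -, hae⟩ := hv
  have hav : a = sI := by
    have h := allL_spec centre_chk ha
    simp only [Bool.or_eq_true] at h
    rcases h with (h | h) | h
    · exfalso
      rw [Nat.eq_of_beq_eq_true h, F.map_zero] at hae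
      have : u = 1 := by
        calc u = g⁻¹ * (g * u * g⁻¹) * g := by group
          _ = 1 := by rw [← hae]; group
      rw [this, orderOf_one] at ho
      omega
    · exact Nat.eq_of_beq_eq_true h
    · exfalso
      obtain ⟨b, hb, hb'⟩ := anyL_spec h
      rw [Bool.and_eq_true, Bool.not_eq_true'] at hb'
      have hbS : F.ι b ∈ F.syl := (F.mem_syl hb).mpr hb'.1
      have hc := hcen _ (hRP _ hbS)
      have : commB a b = true := (F.commB_iff ha hb).mpr (by
        rw [hae]
        calc g * u * g⁻¹ * F.ι b = g * (u * (g⁻¹ * F.ι b * g)) * g⁻¹ := by group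
          _ = g * ((g⁻¹ * F.ι b * g) * u) * g⁻¹ := by rw [hc]
          _ = _ := by group)
      rw [this] at hb'
      exact absurd hb'.2 (by simp)
  subst hav
  rw [F.map_s] at hae
  have hu' : u = g⁻¹ * u₀ * g⁻¹⁻¹ := by rw [hae]; group
  rw [hu']
  exact exists_conj_frame F g⁻¹

/-- A frame is carried by an isomorphism of centralizers. -/
theorem exists_frame_of_iso {X G : Type*} [Group X] [Group G] {u : X} (F : Frame u) {t : G}
    (ht : orderOf t = 2)
    (e : ↥(Subgroup.centralizer ({t} : Set G)) ≃* ↥(Subgroup.centralizer ({u} : Set X))) :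
    Nonempty (Frame t) := by
  classical
  have hmem : ∀ a, a < 192 → F.ι a ∈ Subgroup.centralizer ({u} : Set X) := fun a ha =>
    F.mem_centralizer.mpr ⟨a, ha, rfl⟩
  let tt : ↥(Subgroup.centralizer ({t} : Set G)) :=
    ⟨t, Subgroup.mem_centralizer_singleton_iff.mpr rfl⟩
  obtain ⟨a, ha, hae⟩ := F.mem_centralizer.mp (e tt).2
  have htc : ∀ z : ↥(Subgroup.centralizer ({t} : Set G)), tt * z = z * tt := fun z => by
    apply Subtype.ext
    have := Subgroup.mem_centralizer_singleton_iff.mp z.2
    first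
      | exact this
      | exact this.symm
  have haS : a = sI := by
    have h := allL_spec centre_chk ha
    simp only [Bool.or_eq_true] at h
    rcases h with (h | h) | h
    · exfalso
      rw [Nat.eq_of_beq_eq_true h, F.map_zero] at hae
      have : tt = 1 := e.injective (by rw [map_one]; exact Subtype.ext hae.symm)
      have : t = 1 := congrArg Subtype.val this
      rw [this, orderOf_one] at ht
      omega
    · exact Nat.eq_of_beq_eq_true h
    · exfalso
      obtain ⟨b, hb, hb'⟩ := anyL_spec h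
      rw [Bool.and_eq_true, Bool.not_eq_true'] at hb'
      have hc := congrArg e (htc (e.symm ⟨F.ι b, hmem b hb⟩))
      rw [map_mul, map_mul, e.apply_symm_apply] at hc
      have hc' := congrArg Subtype.val hc
      simp only [Subgroup.coe_mul] at hc'
      rw [← hae] at hc'
      rw [(F.commB_iff ha hb).mpr hc'] at hb'
      exact absurd hb'.2 (by simp)
  subst haS
  let ι : Nat → G := fun a =>
    if h : a < 192 then ((e.symm ⟨F.ι a, hmem a h⟩ : ↥(Subgroup.centralizer ({t} : Set G))) : G)
    else 1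
  refine ⟨⟨ι, fun a b ha hb => ?_, fun a b ha hb h => ?_, fun x hx => ?_, ?_⟩⟩
  · simp only [ι, dif_pos ha, dif_pos hb, dif_pos (mul_lt ha hb)]
    rw [← Subgroup.coe_mul, ← map_mul]
    congr 2
    exact Subtype.ext (F.map_mul a b ha hb)
  · simp only [ι, dif_pos ha, dif_pos hb] at h
    exact F.inj a b ha hb (congrArg Subtype.val (e.symm.injective (Subtype.ext h)))
  · let xx : ↥(Subgroup.centralizer ({t} : Set G)) :=
      ⟨x, Subgroup.mem_centralizer_singleton_iff.mpr (by
        first
          | exact hx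
          | exact hx.symm)⟩
    obtain ⟨b, hb, hbe⟩ := F.mem_centralizer.mp (e xx).2
    refine ⟨b, hb, ?_⟩
    simp only [ι, dif_pos hb]
    rw [show (⟨F.ι b, hmem b hb⟩ : ↥(Subgroup.centralizer ({u} : Set X))) = e xx from
      Subtype.ext hbe, e.symm_apply_apply]
  · simp only [ι, dif_pos (show sI < 192 by decide)]
    rw [show (⟨F.ι sI, hmem sI (by decide)⟩ : ↥(Subgroup.centralizer ({u} : Set X))) = e tt from
      Subtype.ext hae, e.symm_apply_apply]

/-- In a nonabelian simple group an involution fuses in its centralizer. -/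
theorem exists_fusion {G : Type*} [Group G] [Finite G] [IsSimpleGroup G]
    (hG : ¬ IsMulCommutative G) {t : G} (ht : orderOf t = 2) :
    ∃ g : G, g * t * g⁻¹ * t = t * (g * t * g⁻¹) ∧ g * t * g⁻¹ ≠ t := by
  by_contra hc
  push Not at hc
  have hiso : H28.IsIsolatedInvolution t := ⟨ht, fun g hg => hc g hg.eq.symm⟩
  have htop : Cfsg.pPrimeCore 2 G ≠ ⊤ := fun h => by
    have h1 := H44.pPrimeCore_card_coprime' (G := G) 2
    rw [h, Subgroup.card_top] at h1
    have h2 : 2 ∣ Nat.card G := ht ▸ orderOf_dvd_natCard t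
    exact absurd (Nat.Coprime.eq_one_of_dvd h1.symm h2) (by norm_num)
  have hnorm : (Cfsg.pPrimeCore 2 G).Normal := inferInstance
  have hbot := (hnorm.eq_bot_or_eq_top).resolve_right htop
  have hz : t ∈ Subgroup.center G := Subgroup.mem_center_iff.mpr fun g => by
    have h := H28.zStar hiso g
    rw [hbot, Subgroup.mem_bot] at h
    exact (mul_inv_eq_iff_eq_mul.mp (mul_inv_eq_one.mp h)).symm
  rcases (inferInstance : (Subgroup.center G).Normal).eq_bot_or_eq_top with h | h
  · rw [h, Subgroup.mem_bot] at hz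
    rw [hz, orderOf_one] at ht
    omega
  · exact hG ⟨⟨fun a b => (Subgroup.mem_center_iff.mp (h ▸ Subgroup.mem_top a) b).symm⟩⟩

/-- A simple group with a frame is the permutation group. -/
theorem isoM12_of_frame {G : Type*} [Group G] [Finite G] [IsSimpleGroup G]
    (hG : ¬ IsMulCommutative G) {t : G} (F : Frame t) : Spor.IsoM12 G := by
  have hfe := F.isConj_eI (exists_fusion hG F.orderOf_s)
  obtain ⟨y, h3, hs, he⟩ := F.exists_cycle hfe
  obtain ⟨i, hi, A⟩ := F.exists_amalgam h3 hs he
  rcases lt_or_ge i 16 with h16 | h16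
  · obtain ⟨F', A'⟩ := A.canonical h16
    exact A'.isoM12
  · exfalso
    have hN := A.elem_normal h16 hi
    rcases hN.eq_bot_or_eq_top with h | h
    · have := F.card_elem
      rw [h, Subgroup.card_bot] at this
      omega
    · exact hG ⟨⟨fun a b => F.elem_comm a (h ▸ Subgroup.mem_top a) b (h ▸ Subgroup.mem_top b)⟩⟩

end Cfsg.Agent.H80.M12
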