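import Cfsg.Agent.H80.M12.Checks

/-! The possible automorphisms of the four group centralizer. -/

set_option autoImplicit false

namespace Cfsg.Agent.H80.M12

open Cfsg.Agent.H16

/-- the conditions on the images of the generators -/
noncomputable def phiCond (a b c : Nat) : Bool :=
  Nat.beq (extT a b c sI) eI && Nat.beq (extT a b c eI) esI &&
  allT (fun x => Nat.beq (extT a b c (mul x gX)) (mul (extT a b c x) a) &&
    Nat.beq (extT a b c (mul x gY)) (mul (extT a b c x) b) &&
    Nat.beq (extT a b c (mul x gZ)) (mul (extT a b c x) c)) &&
  allT (fun x => Nat.beq (extT a b c (extT a b c (extT a b c x))) x)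

/-- the conditions on the square of the product of `y` and the swapping involution -/
noncomputable def tCond (a b c t : Nat) : Bool :=
  Nat.beq (extT a b c (conj hhI t)) t &&
  Nat.beq (mul (mul t (extT a b c (extT a b c t))) (extT a b c t)) 0 &&
  allT (fun x => Nat.beq (extT a b c (conj hhI (extT a b c (conj hhI x)))) (conj t x))

/-- the case matches the images -/
noncomputable def caseMatch (a b c t i : Nat) : Bool :=
  Nat.beq (app (caseAt i).tab gX) a && Nat.beq (app (caseAt i).tab gY) b &&
  Nat.beq (app (caseAt i).tab gZ) c && Nat.beq (caseAt i).t0 t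

/-- fourth power is trivial and square is not -/
noncomputable def ord4 (a : Nat) : Bool :=
  !Nat.beq (mul a a) 0 && Nat.beq (mul (mul a a) (mul a a)) 0

/-- All admissible images are among the 32 cases. -/
theorem enum_chk : allT (fun a => imp (ord4 a) (allT fun b => imp (ord4 b) (allT fun c =>
    imp (Nat.beq (mul c c) 0) (imp (phiCond a b c) (allT fun t => imp (tCond a b c t)
      (!allFrom (fun i => !caseMatch a b c t i) 32 0)))))) = true := by
  decide +kernel

theorem gens_chk : (ord4 gX && ord4 gY && Nat.beq (mul gZ gZ) 0 && memT gX && memT gY && memT gZ) = true := by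
  decide +kernel

theorem tWord_chk : allT (fun x => Nat.beq (extT gX gY gZ x) x) = true := by decide +kernel

theorem T_closed : allT (fun x => allT fun z => memT (mul x z) && memT (conj hhI x)) = true := by
  decide +kernel

theorem caseTab_chk : allFrom (fun i => allT fun x =>
    Nat.beq (extT (app (caseAt i).tab gX) (app (caseAt i).tab gY) (app (caseAt i).tab gZ) x)
      (app (caseAt i).tab x) && memT (app (caseAt i).tab x) && memT (caseAt i).t0) 32 0 = true := by
  decide +kernel

end Cfsg.Agent.H80.M12
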