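import Cfsg.Agent.H80.M12.Start
import Cfsg.Agent.H80.M12.CaseChecks

/-! The amalgam of the involution centralizer and the normaliser of a four group. -/

set_option autoImplicit false

namespace Cfsg.Agent.H80.M12

open Cfsg.Agent.H16

/-- The element of order three together with its action. -/
structure Amalgam {G : Type*} [Group G] {s : G} (F : Frame s) (C : Case) (y : G) : Prop where
  y_cube : y ^ 3 = 1
  y_s : y * s * y⁻¹ = F.ι eI
  y_e : y * F.ι eI * y⁻¹ = F.ι esI
  tab_T : ∀ a, a < 192 → memT a = true → app C.tab a < 192 ∧ memT (app C.tab a) = true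
  t0_T : C.t0 < 192 ∧ memT C.t0 = true
  y_T : ∀ a, a < 192 → memT a = true → y * F.ι a * y⁻¹ = F.ι (app C.tab a)
  y_hh : y * F.ι hhI * y * F.ι hhI = F.ι C.t0

theorem memT_eq {a : Nat} (ha : a < 192) : memT a = commB a eI := by
  have := allL_spec central_chk ha
  simp only [Bool.and_eq_true] at this
  have h := this.1.1.2
  cases hc : commB a eI <;> cases ht : memT a <;> simp_all

theorem ext_hom {f : Nat → Nat} (h0 : f 0 = 0)
    (hm : ∀ u v, u < 192 → memT u = true → v < 192 → memT v = true → f (mul u v) = mul (f u) (f v)) :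
    ∀ x, x < 192 → memT x = true → extT (f gX) (f gY) (f gZ) x = f x := by
  intro x hx hxT
  have hx' := Nat.eq_of_beq_eq_true (allT_spec tWord_chk hx hxT)
  have hg := gens_chk
  simp only [Bool.and_eq_true] at hg
  have key : ∀ (w : List Nat) (acc : Nat), acc < 192 → memT acc = true →
      (List.rec (motive := fun _ => Nat → Nat) (fun acc => acc)
        (fun l _ ih acc => ih (mul acc (Bool.rec (Bool.rec (f gZ) (f gY) (Nat.beq l 1)) (f gX)
          (Nat.beq l 0)))) w (f acc)) =
      f (List.rec (motive := fun _ => Nat → Nat) (fun acc => acc)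
        (fun l _ ih acc => ih (mul acc (Bool.rec (Bool.rec gZ gY (Nat.beq l 1)) gX
          (Nat.beq l 0)))) w acc) := by
    intro w
    induction w with
    | nil => intro acc _ _; rfl
    | cons l w ih =>
      intro acc hacc haccT
      have step : ∀ g, g < 192 → memT g = true →
          mul (f acc) (f g) = f (mul acc g) ∧ mul acc g < 192 ∧ memT (mul acc g) = true := by
        intro g hg hgT
        have := allT_spec (allT_spec T_closed hacc haccT) hg hgT
        rw [Bool.and_eq_true] at this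
        exact ⟨(hm acc g hacc haccT hg hgT).symm, mul_lt hacc hg, this.1⟩
      cases h0' : Nat.beq l 0 with
      | true =>
        obtain ⟨e1, e2, e3⟩ := step gX (by decide) hg.1.1.2
        simp only [h0', e1]
        exact ih _ e2 e3
      | false =>
        cases h1 : Nat.beq l 1 with
        | true =>
          obtain ⟨e1, e2, e3⟩ := step gY (by decide) hg.1.2
          simp only [h0', h1, e1]
          exact ih _ e2 e3
        | false =>
          obtain ⟨e1, e2, e3⟩ := step gZ (by decide) hg.2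
          simp only [h0', h1, e1]
          exact ih _ e2 e3
  have := key (tWords.get x) 0 (by norm_num) (by decide +kernel)
  rw [h0] at this
  exact this.trans (congrArg f hx')

namespace Frame

variable {G : Type*} [Group G] {s : G} (F : Frame s)

/-- The element of order three acts on the table group as one of the listed cases. -/
theorem exists_amalgam {y : G} (h3 : y ^ 3 = 1) (hs : y * s * y⁻¹ = F.ι eI)
    (he : y * F.ι eI * y⁻¹ = F.ι esI) : ∃ i, i < 32 ∧ Amalgam F (caseAt i) y := by
  have hmid : F.ι esI = F.ι eI * s := by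
    have := F.map_mul eI sI (by decide) (by decide)
    rw [F.map_s] at this
    rw [← this]
    exact congrArg F.ι (by decide +kernel)
  have hy3 : y * y * y = 1 := by rw [← h3, pow_succ, pow_two]
  have hes : y * F.ι esI * y⁻¹ = s := by
    calc y * F.ι esI * y⁻¹ = (y * y * y) * s * (y * y * y)⁻¹ := by rw [← he, ← hs]; group
      _ = s := by rw [hy3]; group
  -- `y` normalises the centralizer of the four group
  have hN : ∀ a, a < 192 → memT a = true →
      ∃ b, b < 192 ∧ memT b = true ∧ F.ι b = y * F.ι a * y⁻¹ := by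
    intro a ha haT
    have c1 := F.comm_s ha
    have c2 := (F.commB_iff ha (by decide : eI < 192)).mp (by rw [← memT_eq ha]; exact haT)
    have c3 : F.ι a * F.ι esI = F.ι esI * F.ι a := by
      rw [hmid, ← mul_assoc, c2, mul_assoc, c1, mul_assoc]
    have d1 := comm_conj y c3
    rw [hes] at d1
    obtain ⟨b, hb, hbe⟩ := F.surj _ d1
    have d2 := comm_conj y c1
    rw [hs, ← hbe] at d2
    exact ⟨b, hb, by rw [memT_eq hb]; exact (F.commB_iff hb (by decide)).mpr d2, hbe⟩
  choose f hf hfT hfe using hN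
  let φ : Nat → Nat := fun a => if h : a < 192 ∧ memT a = true then f a h.1 h.2 else 0
  have φlt : ∀ a, a < 192 → memT a = true → φ a < 192 ∧ memT (φ a) = true ∧
      F.ι (φ a) = y * F.ι a * y⁻¹ := by
    intro a ha hT
    simp only [φ, dif_pos (And.intro ha hT)]
    exact ⟨hf a ha hT, hfT a ha hT, hfe a ha hT⟩
  have Tmul : ∀ u v, u < 192 → memT u = true → v < 192 → memT v = true →
      memT (mul u v) = true ∧ memT (conj hhI u) = true := by
    intro u v hu huT hv hvT
    have := allT_spec (allT_spec T_closed hu huT) hv hvT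
    rwa [Bool.and_eq_true] at this
  have φmul : ∀ u v, u < 192 → memT u = true → v < 192 → memT v = true →
      φ (mul u v) = mul (φ u) (φ v) := by
    intro u v hu huT hv hvT
    obtain ⟨a1, a2, a3⟩ := φlt _ (mul_lt hu hv) (Tmul u v hu huT hv hvT).1
    obtain ⟨b1, -, b3⟩ := φlt u hu huT
    obtain ⟨c1, -, c3⟩ := φlt v hv hvT
    refine F.inj _ _ a1 (mul_lt b1 c1) ?_
    rw [a3, F.map_mul _ _ b1 c1, b3, c3, F.map_mul u v hu hv, conj_mul]
  have φ0 : φ 0 = 0 := by
    obtain ⟨a1, -, a3⟩ := φlt 0 (by norm_num) (by decide +kernel)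
    exact F.inj _ _ a1 (by norm_num) (by rw [a3, F.map_zero]; group)
  have hext := ext_hom φ0 φmul
  have hg := gens_chk
  simp only [Bool.and_eq_true] at hg
  have hX := φlt gX (by decide) hg.1.1.2
  have hY := φlt gY (by decide) hg.1.2
  have hZ := φlt gZ (by decide) hg.2
  have o4 : ∀ g, g < 192 → memT g = true → ord4 g = true → ord4 (φ g) = true := by
    intro g hg hgT h
    simp only [ord4, Bool.and_eq_true, Bool.not_eq_true'] at h ⊢
    have hgg := (Tmul g g hg hgT hg hgT).1
    refine ⟨beq_false fun e => ?_, beq_true ?_⟩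
    · rw [← φmul g g hg hgT hg hgT, ← φ0] at e
      obtain ⟨a1, -, a3⟩ := φlt _ (mul_lt hg hg) hgg
      obtain ⟨b1, -, b3⟩ := φlt 0 (by norm_num) (by decide +kernel)
      have := congrArg F.ι e
      rw [a3, b3] at this
      have := F.inj _ _ (mul_lt hg hg) (by norm_num) (conj_injective.eq_iff.mp this)
      simp [this] at h
    · rw [← φmul g g hg hgT hg hgT, ← φmul _ _ (mul_lt hg hg) hgg (mul_lt hg hg) hgg,
        Nat.eq_of_beq_eq_true h.2, φ0]
  have z2 : Nat.beq (mul (φ gZ) (φ gZ)) 0 = true := beq_true (by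
    rw [← φmul gZ gZ (by decide) hg.2 (by decide) hg.2, Nat.eq_of_beq_eq_true hg.1.1.1.2, φ0])
  -- the conditions on the images
  have allT_intro : ∀ p : Nat → Bool, (∀ x, x < 192 → memT x = true → p x = true) →
      allT p = true := by
    intro p hp
    refine allFrom_of_forall fun x _ hx => ?_
    cases hT : memT x with
    | true => exact hp x (by omega) hT
    | false => rfl
  have sT : memT sI = true := by decide +kernel
  have eT : memT eI = true := by decide +kernel
  have φ3 : ∀ x, x < 192 → memT x = true → φ (φ (φ x)) = x := by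
    intro x hx hT
    obtain ⟨a1, a2, a3⟩ := φlt x hx hT
    obtain ⟨b1, b2, b3⟩ := φlt _ a1 a2
    obtain ⟨c1, -, c3⟩ := φlt _ b1 b2
    refine F.inj _ _ c1 hx ?_
    rw [c3, b3, a3]
    calc _ = (y * y * y) * F.ι x * (y * y * y)⁻¹ := by group
      _ = F.ι x := by rw [hy3]; group
  have hφs : φ sI = eI := by
    obtain ⟨a1, -, a3⟩ := φlt sI (by decide) sT
    exact F.inj _ _ a1 (by decide) (by rw [a3, F.map_s, hs])
  have hφe : φ eI = esI := by
    obtain ⟨a1, -, a3⟩ := φlt eI (by decide) eT
    exact F.inj _ _ a1 (by decide) (by rw [a3, he])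
  have hphi : phiCond (φ gX) (φ gY) (φ gZ) = true := by
    simp only [phiCond, Bool.and_eq_true]
    refine ⟨⟨⟨beq_true (by rw [hext _ (by decide) sT, hφs]),
      beq_true (by rw [hext _ (by decide) eT, hφe])⟩, allT_intro _ fun x hx hT => ?_⟩,
      allT_intro _ fun x hx hT => ?_⟩
    · simp only [Bool.and_eq_true]
      refine ⟨⟨beq_true ?_, beq_true ?_⟩, beq_true ?_⟩
      · rw [hext _ (mul_lt hx (by decide)) (Tmul _ _ hx hT (by decide) hg.1.1.2).1,
          hext x hx hT, φmul _ _ hx hT (by decide) hg.1.1.2]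
      · rw [hext _ (mul_lt hx (by decide)) (Tmul _ _ hx hT (by decide) hg.1.2).1,
          hext x hx hT, φmul _ _ hx hT (by decide) hg.1.2]
      · rw [hext _ (mul_lt hx (by decide)) (Tmul _ _ hx hT (by decide) hg.2).1,
          hext x hx hT, φmul _ _ hx hT (by decide) hg.2]
    · obtain ⟨a1, a2, -⟩ := φlt x hx hT
      obtain ⟨b1, b2, -⟩ := φlt _ a1 a2
      exact beq_true (by rw [hext x hx hT, hext _ a1 a2, hext _ b1 b2, φ3 x hx hT])
  -- the square of `y * hh`
  set τ := F.ι hhI with hτ
  have hττ : τ * τ = 1 := by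
    rw [hτ, ← F.map_mul _ _ (by decide) (by decide), ← F.map_zero]
    exact congrArg F.ι (by decide +kernel)
  have τs : τ * s * τ⁻¹ = s := by rw [hτ, F.comm_s (by decide : hhI < 192)]; group
  have τe : τ * F.ι eI * τ⁻¹ = F.ι esI := by
    rw [hτ, ← F.map_conj (by decide) (by decide)]
    exact congrArg F.ι (by decide +kernel)
  have τes : τ * F.ι esI * τ⁻¹ = F.ι eI := by
    rw [hτ, ← F.map_conj (by decide) (by decide)]
    exact congrArg F.ι (by decide +kernel)
  have w1 : y * τ * y * τ * s * (y * τ * y * τ)⁻¹ = s := by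
    calc _ = y * (τ * (y * (τ * s * τ⁻¹) * y⁻¹) * τ⁻¹) * y⁻¹ := by group
      _ = s := by rw [τs, hs, τe, hes]
  have w2 : y * τ * y * τ * F.ι eI * (y * τ * y * τ)⁻¹ = F.ι eI := by
    calc _ = y * (τ * (y * (τ * F.ι eI * τ⁻¹) * y⁻¹) * τ⁻¹) * y⁻¹ := by group
      _ = F.ι eI := by rw [τe, hes, τs, hs]
  obtain ⟨t, ht, hte⟩ := F.surj _ (mul_inv_eq_iff_eq_mul.mp w1)
  have htT : memT t = true := by
    rw [memT_eq ht]
    exact (F.commB_iff ht (by decide)).mpr (by rw [hte]; exact mul_inv_eq_iff_eq_mul.mp w2)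
  have τinv : τ⁻¹ = τ := inv_eq_of_mul_eq_one_left hττ
  have cT : ∀ x, x < 192 → memT x = true → memT (conj hhI x) = true :=
    fun x hx hT => (Tmul x x hx hT hx hT).2
  have ct : conj hhI t < 192 := conj_lt (by decide) ht
  have hyinv : y⁻¹ = y * y := inv_eq_of_mul_eq_one_left hy3
  have htc : tCond (φ gX) (φ gY) (φ gZ) t = true := by
    simp only [tCond, Bool.and_eq_true]
    refine ⟨⟨beq_true ?_, beq_true ?_⟩, allT_intro _ fun x hx hT => beq_true ?_⟩
    · rw [hext _ ct (cT t ht htT)]
      obtain ⟨a1, -, a3⟩ := φlt _ ct (cT t ht htT)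
      refine F.inj _ _ a1 ht ?_
      rw [a3, F.map_conj (by decide) ht, ← hτ, hte, τinv]
      calc _ = y * τ * y * τ * y * (τ * τ) * y⁻¹ := by group
        _ = _ := by rw [hττ]; group
    · obtain ⟨a1, a2, a3⟩ := φlt t ht htT
      obtain ⟨b1, -, b3⟩ := φlt _ a1 a2
      rw [hext t ht htT, hext _ a1 a2]
      refine F.inj _ _ (mul_lt (mul_lt ht b1) a1) (by norm_num) ?_
      rw [F.map_mul _ _ (mul_lt ht b1) a1, F.map_mul _ _ ht b1, b3, a3, hte, F.map_zero]
      have r1 : ∀ z, y * (y * (y * z)) = z := fun z => by rw [← mul_assoc, ← mul_assoc, hy3, one_mul]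
      have r2 : ∀ z, τ * (τ * z) = z := fun z => by rw [← mul_assoc, hττ, one_mul]
      simp only [hyinv, mul_assoc, r1, r2]
      rw [← mul_assoc, hy3]
    · obtain ⟨a1, a2, a3⟩ := φlt _ (conj_lt (by decide : hhI < 192) hx) (cT x hx hT)
      obtain ⟨b1, -, b3⟩ := φlt _ (conj_lt (by decide : hhI < 192) a1) (cT _ a1 a2)
      rw [hext _ (conj_lt (by decide) hx) (cT x hx hT), hext _ (conj_lt (by decide) a1) (cT _ a1 a2)]
      refine F.inj _ _ b1 (conj_lt ht hx) ?_
      rw [b3, F.map_conj (by decide) a1, a3, F.map_conj (by decide) hx, F.map_conj ht hx, hte, ← hτ]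
      group
  -- matching the list
  have hE := imp_spec (allT_spec enum_chk hX.1 hX.2.1) (o4 gX (by decide) hg.1.1.2 hg.1.1.1.1.1)
  have hE2 := imp_spec (allT_spec hE hY.1 hY.2.1) (o4 gY (by decide) hg.1.2 hg.1.1.1.1.2)
  have hE3 := allT_spec (imp_spec (imp_spec (allT_spec hE2 hZ.1 hZ.2.1) z2) hphi) ht htT
  have hE4 := imp_spec hE3 htc
  obtain ⟨i, hi, him⟩ : ∃ i, i < 32 ∧ caseMatch (φ gX) (φ gY) (φ gZ) t i = true := by
    by_contra hc
    push Not at hc
    rw [allFrom_of_forall (p := fun i => !caseMatch (φ gX) (φ gY) (φ gZ) t i)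
      (fun i _ hi => by simpa using hc i (by omega))] at hE4
    simp at hE4
  simp only [caseMatch, Bool.and_eq_true] at him
  obtain ⟨⟨⟨m1, m2⟩, m3⟩, m4⟩ := him
  have tabeq : ∀ x, x < 192 → memT x = true → app (caseAt i).tab x = φ x := by
    intro x hx hT
    have := allT_spec (allFrom_spec caseTab_chk i (Nat.zero_le i) (by omega)) hx hT
    simp only [Bool.and_eq_true] at this
    rw [← Nat.eq_of_beq_eq_true this.1.1, Nat.eq_of_beq_eq_true m1, Nat.eq_of_beq_eq_true m2,
      Nat.eq_of_beq_eq_true m3, hext x hx hT]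
  refine ⟨i, hi, ⟨h3, hs, he, ?_, ?_, ?_, ?_⟩⟩
  · intro a ha hT
    rw [tabeq a ha hT]
    exact ⟨(φlt a ha hT).1, (φlt a ha hT).2.1⟩
  · rw [Nat.eq_of_beq_eq_true m4]; exact ⟨ht, htT⟩
  · intro a ha hT
    rw [tabeq a ha hT, (φlt a ha hT).2.2]
  · rw [Nat.eq_of_beq_eq_true m4, hte]

end Frame

end Cfsg.Agent.H80.M12
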