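import Cfsg.Agent.H80.M12.CertBase
import Cfsg.Agent.H80.M12.CertBig
import Cfsg.Agent.H80.M12.CertSmall

/-! Kernel checks of the coset enumeration certificates. -/

set_option autoImplicit false

namespace Cfsg.Agent.H80.M12

open Cfsg.Agent.H16 Cfsg.Agent.H68.J1

theorem certL_f0 : allFrom certL.checkFact 2000 0 = true := by decide +kernel

theorem certL_f1 : allFrom certL.checkFact 678 2000 = true := by decide +kernel

theorem certL_rows : allFrom certL.checkRow 192 0 = true := by decide +kernel

theorem certL_valid : certL.Valid :=
  ⟨fun i hi => (allFrom_extend (allFrom_extend allFrom_nil certL_f0) certL_f1) i (hi.trans_eq (by rfl)),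
    fun i hi => allFrom_spec certL_rows i (Nat.zero_le i) (lt_of_lt_of_eq hi (by rfl)), by decide +kernel⟩

theorem cert23_f0 : allFrom cert23.checkFact 2000 0 = true := by decide +kernel

theorem cert23_f1 : allFrom cert23.checkFact 2000 2000 = true := by decide +kernel

theorem cert23_f2 : allFrom cert23.checkFact 2000 4000 = true := by decide +kernel

theorem cert23_f3 : allFrom cert23.checkFact 2000 6000 = true := by decide +kernel

theorem cert23_f4 : allFrom cert23.checkFact 2000 8000 = true := by decide +kernel

theorem cert23_f5 : allFrom cert23.checkFact 2000 10000 = true := by decide +kernel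

theorem cert23_f6 : allFrom cert23.checkFact 2000 12000 = true := by decide +kernel

theorem cert23_f7 : allFrom cert23.checkFact 1169 14000 = true := by decide +kernel

theorem cert23_rows : allFrom cert23.checkRow 495 0 = true := by decide +kernel

theorem cert23_valid : cert23.Valid :=
  ⟨fun i hi => (allFrom_extend (allFrom_extend (allFrom_extend (allFrom_extend (allFrom_extend (allFrom_extend (allFrom_extend (allFrom_extend allFrom_nil cert23_f0) cert23_f1) cert23_f2) cert23_f3) cert23_f4) cert23_f5) cert23_f6) cert23_f7) i (hi.trans_eq (by rfl)),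
    fun i hi => allFrom_spec cert23_rows i (Nat.zero_le i) (lt_of_lt_of_eq hi (by rfl)), by decide +kernel⟩

theorem cert0_f0 : allFrom cert0.checkFact 69 0 = true := by decide +kernel

theorem cert0_rows : allFrom cert0.checkRow 1 0 = true := by decide +kernel

theorem cert0_valid : cert0.Valid :=
  ⟨fun i hi => (allFrom_extend allFrom_nil cert0_f0) i (hi.trans_eq (by rfl)),
    fun i hi => allFrom_spec cert0_rows i (Nat.zero_le i) (lt_of_lt_of_eq hi (by rfl)), by decide +kernel⟩

theorem cert1_f0 : allFrom cert1.checkFact 143 0 = true := by decide +kernel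

theorem cert1_rows : allFrom cert1.checkRow 1 0 = true := by decide +kernel

theorem cert1_valid : cert1.Valid :=
  ⟨fun i hi => (allFrom_extend allFrom_nil cert1_f0) i (hi.trans_eq (by rfl)),
    fun i hi => allFrom_spec cert1_rows i (Nat.zero_le i) (lt_of_lt_of_eq hi (by rfl)), by decide +kernel⟩

theorem cert2_f0 : allFrom cert2.checkFact 332 0 = true := by decide +kernel

theorem cert2_rows : allFrom cert2.checkRow 1 0 = true := by decide +kernel

theorem cert2_valid : cert2.Valid :=
  ⟨fun i hi => (allFrom_extend allFrom_nil cert2_f0) i (hi.trans_eq (by rfl)),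
    fun i hi => allFrom_spec cert2_rows i (Nat.zero_le i) (lt_of_lt_of_eq hi (by rfl)), by decide +kernel⟩

theorem cert3_f0 : allFrom cert3.checkFact 110 0 = true := by decide +kernel

theorem cert3_rows : allFrom cert3.checkRow 1 0 = true := by decide +kernel

theorem cert3_valid : cert3.Valid :=
  ⟨fun i hi => (allFrom_extend allFrom_nil cert3_f0) i (hi.trans_eq (by rfl)),
    fun i hi => allFrom_spec cert3_rows i (Nat.zero_le i) (lt_of_lt_of_eq hi (by rfl)), by decide +kernel⟩

theorem cert4_f0 : allFrom cert4.checkFact 99 0 = true := by decide +kernel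

theorem cert4_rows : allFrom cert4.checkRow 1 0 = true := by decide +kernel

theorem cert4_valid : cert4.Valid :=
  ⟨fun i hi => (allFrom_extend allFrom_nil cert4_f0) i (hi.trans_eq (by rfl)),
    fun i hi => allFrom_spec cert4_rows i (Nat.zero_le i) (lt_of_lt_of_eq hi (by rfl)), by decide +kernel⟩

theorem cert5_f0 : allFrom cert5.checkFact 1386 0 = true := by decide +kernel

theorem cert5_rows : allFrom cert5.checkRow 1 0 = true := by decide +kernel

theorem cert5_valid : cert5.Valid :=
  ⟨fun i hi => (allFrom_extend allFrom_nil cert5_f0) i (hi.trans_eq (by rfl)),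
    fun i hi => allFrom_spec cert5_rows i (Nat.zero_le i) (lt_of_lt_of_eq hi (by rfl)), by decide +kernel⟩

theorem cert6_f0 : allFrom cert6.checkFact 70 0 = true := by decide +kernel

theorem cert6_rows : allFrom cert6.checkRow 1 0 = true := by decide +kernel

theorem cert6_valid : cert6.Valid :=
  ⟨fun i hi => (allFrom_extend allFrom_nil cert6_f0) i (hi.trans_eq (by rfl)),
    fun i hi => allFrom_spec cert6_rows i (Nat.zero_le i) (lt_of_lt_of_eq hi (by rfl)), by decide +kernel⟩

theorem cert7_f0 : allFrom cert7.checkFact 117 0 = true := by decide +kernel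

theorem cert7_rows : allFrom cert7.checkRow 1 0 = true := by decide +kernel

theorem cert7_valid : cert7.Valid :=
  ⟨fun i hi => (allFrom_extend allFrom_nil cert7_f0) i (hi.trans_eq (by rfl)),
    fun i hi => allFrom_spec cert7_rows i (Nat.zero_le i) (lt_of_lt_of_eq hi (by rfl)), by decide +kernel⟩

theorem cert8_f0 : allFrom cert8.checkFact 362 0 = true := by decide +kernel

theorem cert8_rows : allFrom cert8.checkRow 1 0 = true := by decide +kernel

theorem cert8_valid : cert8.Valid :=
  ⟨fun i hi => (allFrom_extend allFrom_nil cert8_f0) i (hi.trans_eq (by rfl)),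
    fun i hi => allFrom_spec cert8_rows i (Nat.zero_le i) (lt_of_lt_of_eq hi (by rfl)), by decide +kernel⟩

theorem cert9_f0 : allFrom cert9.checkFact 114 0 = true := by decide +kernel

theorem cert9_rows : allFrom cert9.checkRow 1 0 = true := by decide +kernel

theorem cert9_valid : cert9.Valid :=
  ⟨fun i hi => (allFrom_extend allFrom_nil cert9_f0) i (hi.trans_eq (by rfl)),
    fun i hi => allFrom_spec cert9_rows i (Nat.zero_le i) (lt_of_lt_of_eq hi (by rfl)), by decide +kernel⟩

theorem cert10_f0 : allFrom cert10.checkFact 120 0 = true := by decide +kernel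

theorem cert10_rows : allFrom cert10.checkRow 1 0 = true := by decide +kernel

theorem cert10_valid : cert10.Valid :=
  ⟨fun i hi => (allFrom_extend allFrom_nil cert10_f0) i (hi.trans_eq (by rfl)),
    fun i hi => allFrom_spec cert10_rows i (Nat.zero_le i) (lt_of_lt_of_eq hi (by rfl)), by decide +kernel⟩

theorem cert11_f0 : allFrom cert11.checkFact 2000 0 = true := by decide +kernel

theorem cert11_f1 : allFrom cert11.checkFact 598 2000 = true := by decide +kernel

theorem cert11_rows : allFrom cert11.checkRow 1 0 = true := by decide +kernel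

theorem cert11_valid : cert11.Valid :=
  ⟨fun i hi => (allFrom_extend (allFrom_extend allFrom_nil cert11_f0) cert11_f1) i (hi.trans_eq (by rfl)),
    fun i hi => allFrom_spec cert11_rows i (Nat.zero_le i) (lt_of_lt_of_eq hi (by rfl)), by decide +kernel⟩

theorem cert12_f0 : allFrom cert12.checkFact 69 0 = true := by decide +kernel

theorem cert12_rows : allFrom cert12.checkRow 1 0 = true := by decide +kernel

theorem cert12_valid : cert12.Valid :=
  ⟨fun i hi => (allFrom_extend allFrom_nil cert12_f0) i (hi.trans_eq (by rfl)),
    fun i hi => allFrom_spec cert12_rows i (Nat.zero_le i) (lt_of_lt_of_eq hi (by rfl)), by decide +kernel⟩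

theorem cert13_f0 : allFrom cert13.checkFact 146 0 = true := by decide +kernel

theorem cert13_rows : allFrom cert13.checkRow 1 0 = true := by decide +kernel

theorem cert13_valid : cert13.Valid :=
  ⟨fun i hi => (allFrom_extend allFrom_nil cert13_f0) i (hi.trans_eq (by rfl)),
    fun i hi => allFrom_spec cert13_rows i (Nat.zero_le i) (lt_of_lt_of_eq hi (by rfl)), by decide +kernel⟩

theorem cert14_f0 : allFrom cert14.checkFact 335 0 = true := by decide +kernel

theorem cert14_rows : allFrom cert14.checkRow 1 0 = true := by decide +kernel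

theorem cert14_valid : cert14.Valid :=
  ⟨fun i hi => (allFrom_extend allFrom_nil cert14_f0) i (hi.trans_eq (by rfl)),
    fun i hi => allFrom_spec cert14_rows i (Nat.zero_le i) (lt_of_lt_of_eq hi (by rfl)), by decide +kernel⟩

theorem cert15_f0 : allFrom cert15.checkFact 167 0 = true := by decide +kernel

theorem cert15_rows : allFrom cert15.checkRow 1 0 = true := by decide +kernel

theorem cert15_valid : cert15.Valid :=
  ⟨fun i hi => (allFrom_extend allFrom_nil cert15_f0) i (hi.trans_eq (by rfl)),
    fun i hi => allFrom_spec cert15_rows i (Nat.zero_le i) (lt_of_lt_of_eq hi (by rfl)), by decide +kernel⟩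

theorem cert16_f0 : allFrom cert16.checkFact 186 0 = true := by decide +kernel

theorem cert16_rows : allFrom cert16.checkRow 1 0 = true := by decide +kernel

theorem cert16_valid : cert16.Valid :=
  ⟨fun i hi => (allFrom_extend allFrom_nil cert16_f0) i (hi.trans_eq (by rfl)),
    fun i hi => allFrom_spec cert16_rows i (Nat.zero_le i) (lt_of_lt_of_eq hi (by rfl)), by decide +kernel⟩

theorem cert17_f0 : allFrom cert17.checkFact 1410 0 = true := by decide +kernel

theorem cert17_rows : allFrom cert17.checkRow 1 0 = true := by decide +kernel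

theorem cert17_valid : cert17.Valid :=
  ⟨fun i hi => (allFrom_extend allFrom_nil cert17_f0) i (hi.trans_eq (by rfl)),
    fun i hi => allFrom_spec cert17_rows i (Nat.zero_le i) (lt_of_lt_of_eq hi (by rfl)), by decide +kernel⟩

theorem cert18_f0 : allFrom cert18.checkFact 70 0 = true := by decide +kernel

theorem cert18_rows : allFrom cert18.checkRow 1 0 = true := by decide +kernel

theorem cert18_valid : cert18.Valid :=
  ⟨fun i hi => (allFrom_extend allFrom_nil cert18_f0) i (hi.trans_eq (by rfl)),
    fun i hi => allFrom_spec cert18_rows i (Nat.zero_le i) (lt_of_lt_of_eq hi (by rfl)), by decide +kernel⟩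

theorem cert19_f0 : allFrom cert19.checkFact 117 0 = true := by decide +kernel

theorem cert19_rows : allFrom cert19.checkRow 1 0 = true := by decide +kernel

theorem cert19_valid : cert19.Valid :=
  ⟨fun i hi => (allFrom_extend allFrom_nil cert19_f0) i (hi.trans_eq (by rfl)),
    fun i hi => allFrom_spec cert19_rows i (Nat.zero_le i) (lt_of_lt_of_eq hi (by rfl)), by decide +kernel⟩

theorem cert20_f0 : allFrom cert20.checkFact 365 0 = true := by decide +kernel

theorem cert20_rows : allFrom cert20.checkRow 1 0 = true := by decide +kernel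

theorem cert20_valid : cert20.Valid :=
  ⟨fun i hi => (allFrom_extend allFrom_nil cert20_f0) i (hi.trans_eq (by rfl)),
    fun i hi => allFrom_spec cert20_rows i (Nat.zero_le i) (lt_of_lt_of_eq hi (by rfl)), by decide +kernel⟩

theorem cert21_f0 : allFrom cert21.checkFact 117 0 = true := by decide +kernel

theorem cert21_rows : allFrom cert21.checkRow 1 0 = true := by decide +kernel

theorem cert21_valid : cert21.Valid :=
  ⟨fun i hi => (allFrom_extend allFrom_nil cert21_f0) i (hi.trans_eq (by rfl)),
    fun i hi => allFrom_spec cert21_rows i (Nat.zero_le i) (lt_of_lt_of_eq hi (by rfl)), by decide +kernel⟩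

theorem cert22_f0 : allFrom cert22.checkFact 123 0 = true := by decide +kernel

theorem cert22_rows : allFrom cert22.checkRow 1 0 = true := by decide +kernel

theorem cert22_valid : cert22.Valid :=
  ⟨fun i hi => (allFrom_extend allFrom_nil cert22_f0) i (hi.trans_eq (by rfl)),
    fun i hi => allFrom_spec cert22_rows i (Nat.zero_le i) (lt_of_lt_of_eq hi (by rfl)), by decide +kernel⟩

end Cfsg.Agent.H80.M12
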