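import Cfsg.Agent.H80.M12.CertChecks

/-! Access to the twenty-four certificates by index. -/

set_option autoImplicit false

namespace Cfsg.Agent.H80.M12

open Cfsg.Agent.H68.J1

/-- the certificate with a given last relator -/
def certAt : Nat → Cert
  | 0 => cert0
  | 1 => cert1
  | 2 => cert2
  | 3 => cert3
  | 4 => cert4
  | 5 => cert5
  | 6 => cert6
  | 7 => cert7
  | 8 => cert8
  | 9 => cert9
  | 10 => cert10
  | 11 => cert11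
  | 12 => cert12
  | 13 => cert13
  | 14 => cert14
  | 15 => cert15
  | 16 => cert16
  | 17 => cert17
  | 18 => cert18
  | 19 => cert19
  | 20 => cert20
  | 21 => cert21
  | 22 => cert22
  | _ => cert23

theorem certAt_valid : ∀ i, i < 24 → (certAt i).Valid
  | 0, _ => cert0_valid
  | 1, _ => cert1_valid
  | 2, _ => cert2_valid
  | 3, _ => cert3_valid
  | 4, _ => cert4_valid
  | 5, _ => cert5_valid
  | 6, _ => cert6_valid
  | 7, _ => cert7_valid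
  | 8, _ => cert8_valid
  | 9, _ => cert9_valid
  | 10, _ => cert10_valid
  | 11, _ => cert11_valid
  | 12, _ => cert12_valid
  | 13, _ => cert13_valid
  | 14, _ => cert14_valid
  | 15, _ => cert15_valid
  | 16, _ => cert16_valid
  | 17, _ => cert17_valid
  | 18, _ => cert18_valid
  | 19, _ => cert19_valid
  | 20, _ => cert20_valid
  | 21, _ => cert21_valid
  | 22, _ => cert22_valid
  | 23, _ => cert23_valid
  | n + 24, h => absurd h (by omega)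

theorem certAt_shape : ∀ i, i < 24 → (certAt i).nrel = 15 ∧ (certAt i).nsub = 17 ∧ (certAt i).nw = 26 ∧
    (certAt i).n = (if i = 23 then 495 else 1)
  | 0, _ => ⟨rfl, rfl, rfl, rfl⟩
  | 1, _ => ⟨rfl, rfl, rfl, rfl⟩
  | 2, _ => ⟨rfl, rfl, rfl, rfl⟩
  | 3, _ => ⟨rfl, rfl, rfl, rfl⟩
  | 4, _ => ⟨rfl, rfl, rfl, rfl⟩
  | 5, _ => ⟨rfl, rfl, rfl, rfl⟩
  | 6, _ => ⟨rfl, rfl, rfl, rfl⟩
  | 7, _ => ⟨rfl, rfl, rfl, rfl⟩
  | 8, _ => ⟨rfl, rfl, rfl, rfl⟩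
  | 9, _ => ⟨rfl, rfl, rfl, rfl⟩
  | 10, _ => ⟨rfl, rfl, rfl, rfl⟩
  | 11, _ => ⟨rfl, rfl, rfl, rfl⟩
  | 12, _ => ⟨rfl, rfl, rfl, rfl⟩
  | 13, _ => ⟨rfl, rfl, rfl, rfl⟩
  | 14, _ => ⟨rfl, rfl, rfl, rfl⟩
  | 15, _ => ⟨rfl, rfl, rfl, rfl⟩
  | 16, _ => ⟨rfl, rfl, rfl, rfl⟩
  | 17, _ => ⟨rfl, rfl, rfl, rfl⟩
  | 18, _ => ⟨rfl, rfl, rfl, rfl⟩
  | 19, _ => ⟨rfl, rfl, rfl, rfl⟩
  | 20, _ => ⟨rfl, rfl, rfl, rfl⟩
  | 21, _ => ⟨rfl, rfl, rfl, rfl⟩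
  | 22, _ => ⟨rfl, rfl, rfl, rfl⟩
  | 23, _ => ⟨rfl, rfl, rfl, rfl⟩
  | n + 24, h => absurd h (by omega)

/-- the relators of the involution centralizer -/
def lRels : List (List Nat) := [[0, 0, 0], [2, 2, 2, 2], [3, 1, 2, 0, 0, 3, 1, 2, 1], [0, 2, 1, 2, 2, 0, 2, 1, 3, 3]]

end Cfsg.Agent.H80.M12
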