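import Cfsg.Agent.H80.M12.Defs

/-! Kernel checks on the table group. -/

set_option autoImplicit false

namespace Cfsg.Agent.H80.M12

open Cfsg.Agent.H16

/-- a representative of the involutions outside the core -/
def sigI : Nat := 1

/-- `p` holds on all elements of the table group -/
noncomputable def allL (p : Nat → Bool) : Bool := allFrom p 192 0

/-- `p` holds on all elements of the four group centralizer -/
noncomputable def allT (p : Nat → Bool) : Bool :=
  allFrom (fun i => Bool.rec true (p i) (memT i)) 192 0

/-- `p` holds somewhere in the table group -/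
noncomputable def anyL (p : Nat → Bool) : Bool := !allL fun i => !p i

/-- boolean implication -/
def imp (a b : Bool) : Bool := !a || b

theorem mul_lt_chk : allL (fun a => allL fun b => Nat.ble (Nat.succ (mul a b)) 192) = true := by
  decide +kernel

theorem inv_chk : allL (fun a => Nat.ble (Nat.succ (inv a)) 192 && Nat.beq (mul a (inv a)) 0 &&
    Nat.beq (mul 0 a) a && Nat.beq (mul a 0) a) = true := by
  decide +kernel

theorem wordL_chk : allL (fun a => Nat.beq (evL (lWords.get a)) a) = true := by
  decide +kernel

theorem basic_chk : (Nat.beq (cls sI) 1 && Nat.beq (cls eI) 2 && Nat.beq (mul eI sI) esI &&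
    Nat.beq (mul hhI hhI) 0 && Nat.beq (conj hhI eI) esI && Nat.beq (cls cI) 3 && memT cI &&
    memS hhI && !memT hhI && Nat.beq (mul sI sI) 0) = true := by
  decide +kernel

theorem cls_chk : allL (fun a => Bool.rec
    (!(Nat.beq (mul a a) 0) || Nat.beq a 0) (Nat.beq (mul a a) 0 && !Nat.beq a 0 &&
      Nat.ble (cls a) 4 && (Nat.beq a sI || !Nat.beq (cls a) 1)) (!Nat.beq (cls a) 0)) = true := by
  decide +kernel

/-- the involutions of each class are conjugate to a representative -/
theorem class_conj_chk : allL (fun a => imp (Nat.beq (cls a) 2) (anyL fun h => Nat.beq (conj h eI) a) &&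
    imp (Nat.beq (cls a) 3) (anyL fun h => Nat.beq (conj h cI) a) &&
    imp (Nat.beq (cls a) 4) (anyL fun h => Nat.beq (conj h sigI) a)) = true := by
  decide +kernel

theorem sig_cls : cls sigI = 4 := by decide +kernel

theorem central_chk : allL (fun a => commB a sI && imp (memT a) (memS a) &&
    Bool.rec (!(memT a)) (memT a) (commB a eI) &&
    imp (Nat.beq (conj a eI) esI) (memS a && !memT a) &&
    Bool.rec (Bool.rec true (Nat.beq (conj a eI) esI) (memS a)) true (memT a)) = true := by
  decide +kernel

theorem card_T : countFrom memT 192 0 = 32 := by decide +kernel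
theorem card_S : countFrom memS 192 0 = 64 := by decide +kernel
theorem card_centC : countFrom (fun a => commB a cI) 192 0 = 16 := by decide +kernel

/-- the centralizer of a noncentral involution of the core has commutators only of the centre -/
theorem comm_chk : allL (fun x => imp (Nat.beq (cls x) 3) (allL fun a => imp (commB a x)
    (allL fun b => imp (commB b x)
      (commB a b || Nat.beq (mul a b) (mul sI (mul b a)))))) = true := by
  decide +kernel

theorem cent_size : allL (fun x => (imp (Nat.beq (cls x) 2) (Nat.beq (countFrom (fun a => commB a x) 192 0) 32)) &&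
    imp (Nat.beq (cls x) 3) (Nat.beq (countFrom (fun a => commB a x) 192 0) 16) &&
    imp (Nat.beq (cls x) 4) (Nat.beq (countFrom (fun a => commB a x) 192 0) 8)) = true := by
  decide +kernel

theorem cI_comm : anyL (fun a => commB a cI && anyL fun b => commB b cI && !commB a b) = true := by
  decide +kernel

theorem sigma_chk : anyL (fun a => commB a sigI && (Nat.beq (cls a) 2 || Nat.beq (cls a) 3) &&
    Nat.beq (cls (mul a sigI)) 4) = true := by
  decide +kernel

theorem core_closed : allL (fun a => allL fun b =>
    imp ((Nat.beq (cls a) 2 || Nat.beq (cls a) 3) && Nat.beq b sI)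
      (Nat.beq (cls (mul a b)) 2 || Nat.beq (cls (mul a b)) 3)) = true := by
  decide +kernel

end Cfsg.Agent.H80.M12
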