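import Cfsg.Agent.H80.M12.Tables
import Mathlib

/-!
The table group of order 192 and the extensions of its four group centralizer by an element of
order three.
-/

set_option autoImplicit false

namespace Cfsg.Agent.H80.M12

open Cfsg.Agent.H16

/-- product in the table group -/
noncomputable def mul (a b : Nat) : Nat := bitField (mulRows.get 2048 a) (8 * b) 8

/-- inverse in the table group -/
noncomputable def inv (a : Nat) : Nat := bitField invRow (8 * a) 8

/-- conjugate `h * x * h⁻¹` -/
noncomputable def conj (h x : Nat) : Nat := mul (mul h x) (inv h)

/-- class of an element: 0 non-involution, 1 centre, 2 and 3 inside the core, 4 outside -/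
noncomputable def cls (a : Nat) : Nat := bitField clsRow (4 * a) 4

/-- membership in the centralizer of the four group -/
noncomputable def memT (a : Nat) : Bool := Nat.beq (bitField inT a 1) 1

/-- membership in the Sylow subgroup -/
noncomputable def memS (a : Nat) : Bool := Nat.beq (bitField inS a 1) 1

/-- membership in the core -/
noncomputable def memQ (a : Nat) : Bool := Nat.beq (bitField inQ a 1) 1

/-- membership in the elementary subgroup of order eight -/
noncomputable def memE (a : Nat) : Bool :=
  Nat.beq a 0 || Nat.beq (cls a) 1 || Nat.beq (cls a) 2

/-- class predicate of the conjugates of the central involution -/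
noncomputable def isSType (a : Nat) : Bool :=
  Nat.beq (cls a) 1 || Nat.beq (cls a) 2 || Nat.beq (cls a) 4

/-- two elements commute -/
noncomputable def commB (a b : Nat) : Bool := Nat.beq (mul a b) (mul b a)

/-- value of a word in the generators `gA`, `gB` and their inverses -/
noncomputable def evL (w : List Nat) : Nat :=
  List.rec (motive := fun _ => Nat) 0 (fun l _ ih => mul
    (Bool.rec (Bool.rec (Bool.rec (inv gB) gB (Nat.beq l 2)) (inv gA) (Nat.beq l 1)) gA
      (Nat.beq l 0)) ih) w

/-- image of an element of the four group centralizer under images of its three generators -/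
noncomputable def extT (a b c x : Nat) : Nat :=
  List.rec (motive := fun _ => Nat → Nat) (fun acc => acc)
    (fun l _ ih acc => ih (mul acc (Bool.rec (Bool.rec c b (Nat.beq l 1)) a (Nat.beq l 0))))
    (tWords.get x) 0

/-- a map of the four group centralizer given by a packed table -/
noncomputable def app (tab a : Nat) : Nat := bitField tab (8 * a) 8

/-- An amalgam case: the table of the automorphism and the square of `y * hh`. -/
structure Case where
  /-- the automorphism -/
  tab : Nat
  /-- the square of the product of the two generators -/
  t0 : Nat

/-- the case with index `i` -/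
def caseAt (i : Nat) : Case :=
  ⟨(caseTabs.getD i (0, 0)).1, (caseTabs.getD i (0, 0)).2⟩

/-- the element moved past `y`: the new left factor -/
noncomputable def Case.yv (C : Case) (b : Nat) : Nat :=
  Bool.rec (mul (mul (app C.tab (mul b hhI)) C.t0) hhI) (app C.tab b) (memT b)

/-- the element moved past `y`: the new exponent -/
noncomputable def Case.ye (b : Nat) : Nat := Bool.rec 2 1 (memT b)

/-- product of two normal forms `(a, k) ↦ a * y ^ k` -/
noncomputable def Case.mm (C : Case) (p q : Nat × Nat) : Nat × Nat :=
  Bool.rec
    (Bool.rec
      (mul p.1 (C.yv (C.yv q.1)), (Case.ye (C.yv q.1) + Case.ye q.1 + q.2) % 3)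
      (mul p.1 (C.yv q.1), (Case.ye q.1 + q.2) % 3) (Nat.beq p.2 1))
    (mul p.1 q.1, q.2) (Nat.beq p.2 0)

/-- equality of normal forms -/
noncomputable def peq (p q : Nat × Nat) : Bool := Nat.beq p.1 q.1 && Nat.beq p.2 q.2

end Cfsg.Agent.H80.M12
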