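import Cfsg.Agent.H80.M12.Amalgam

/-! Computation in the normaliser of the four group by normal forms. -/

set_option autoImplicit false

namespace Cfsg.Agent.H80.M12

open Cfsg.Agent.H16

/-- A normal form in the normaliser of the four group. -/
noncomputable def okP (p : Nat × Nat) : Bool :=
  Nat.ble (Nat.succ p.1) 192 && memS p.1 && Nat.ble (Nat.succ p.2) 3

theorem S_split_chk : allL (fun b => imp (memS b) (Bool.rec (memT (mul b hhI)) true (memT b)) &&
    imp (memS b) (Nat.beq (mul (mul b hhI) hhI) b) && imp (memT b) (memS b)) = true := by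
  decide +kernel

theorem S_closed : allL (fun a => imp (memS a) (allL fun b => imp (memS b) (memS (mul a b)))) = true := by
  decide +kernel

theorem hh_S : memS hhI = true := by decide +kernel

namespace Amalgam

variable {G : Type*} [Group G] {s : G} {F : Frame s} {C : Case} {y : G}

/-- the value of a normal form -/
def val (F : Frame s) (y : G) (p : Nat × Nat) : G := F.ι p.1 * y ^ p.2

theorem y_yy (A : Amalgam F C y) : y * y * y = 1 := by rw [← A.y_cube, pow_succ, pow_two]

theorem yv_spec (A : Amalgam F C y) {b : Nat} (hb : b < 192) (hS : memS b = true) :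
    C.yv b < 192 ∧ memS (C.yv b) = true ∧ y * F.ι b = F.ι (C.yv b) * y ^ (Case.ye b) := by
  have hc := allL_spec S_split_chk hb
  simp only [Bool.and_eq_true] at hc
  have e1 := imp_spec hc.1.1 hS
  have e2 := Nat.eq_of_beq_eq_true (imp_spec hc.1.2 hS)
  cases hT : memT b with
  | true =>
    have t1 := (A.tab_T b hb hT).2
    have t2 := (A.tab_T b hb hT).1
    have hSt := imp_spec ((Bool.and_eq_true _ _ ▸ allL_spec S_split_chk t2).2) t1
    simp only [Case.yv, Case.ye, hT]
    refine ⟨t2, hSt, ?_⟩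
    rw [pow_one, ← A.y_T b hb hT]; group
  | false =>
    simp only [hT] at e1
    have hu : mul b hhI < 192 := mul_lt hb (by decide)
    obtain ⟨t1, t2⟩ := A.tab_T _ hu e1
    have hl : mul (app C.tab (mul b hhI)) C.t0 < 192 := mul_lt t1 A.t0_T.1
    simp only [Case.yv, Case.ye, hT]
    refine ⟨mul_lt hl (by decide), ?_, ?_⟩
    · have s1 := imp_spec ((Bool.and_eq_true _ _ ▸ allL_spec S_split_chk t1).2) t2
      have s2 := imp_spec ((Bool.and_eq_true _ _ ▸ allL_spec S_split_chk A.t0_T.1).2) A.t0_T.2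
      have s3 := imp_spec (allL_spec (imp_spec (allL_spec S_closed t1) s1) A.t0_T.1) s2
      exact imp_spec (allL_spec (imp_spec (allL_spec S_closed hl) s3) (by decide)) hh_S
    · have hττ : F.ι hhI * F.ι hhI = 1 := by
        rw [← F.map_mul _ _ (by decide) (by decide), ← F.map_zero]
        exact congrArg F.ι (by decide +kernel)
      conv_lhs => rw [← e2, F.map_mul _ _ hu (by decide)]
      rw [F.map_mul _ _ hl (by decide), F.map_mul _ _ t1 A.t0_T.1, ← A.y_T _ hu e1,
        ← A.y_hh, pow_two]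
      simp only [mul_assoc, inv_mul_cancel_left]
      rw [← mul_assoc (F.ι hhI) (F.ι hhI), hττ, one_mul, ← mul_assoc y y y, A.y_yy, mul_one]

theorem pow_mod (A : Amalgam F C y) (n : ℕ) : y ^ (n % 3) = y ^ n := by
  conv_rhs => rw [← Nat.mod_add_div n 3, pow_add, pow_mul, A.y_cube, one_pow, mul_one]

theorem mm_spec (A : Amalgam F C y) {p q : Nat × Nat} (hp : okP p = true) (hq : okP q = true) :
    okP (C.mm p q) = true ∧ val F y (C.mm p q) = val F y p * val F y q := by
  simp only [okP, Bool.and_eq_true] at hp hq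
  obtain ⟨⟨p1, p2⟩, p3⟩ := hp
  obtain ⟨⟨q1, q2⟩, q3⟩ := hq
  have hp1 : p.1 < 192 := Nat.le_of_ble_eq_true p1
  have hq1 : q.1 < 192 := Nat.le_of_ble_eq_true q1
  have hp3 : p.2 < 3 := Nat.le_of_ble_eq_true p3
  have hq3 : q.2 < 3 := Nat.le_of_ble_eq_true q3
  have mk : ∀ v n, v < 192 → memS v = true →
      okP (mul p.1 v, n % 3) = true ∧ val F y (mul p.1 v, n % 3) = F.ι p.1 * F.ι v * y ^ n := by
    intro v n hv hvS
    refine ⟨?_, ?_⟩
    · simp only [okP, Bool.and_eq_true, Nat.ble_eq]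
      exact ⟨⟨mul_lt hp1 hv, imp_spec (allL_spec (imp_spec (allL_spec S_closed hp1) p2) hv) hvS⟩,
        Nat.mod_lt _ (by norm_num)⟩
    · rw [val, A.pow_mod, F.map_mul _ _ hp1 hv]
  obtain ⟨a1, a2, a3⟩ := A.yv_spec hq1 q2
  obtain ⟨b1, b2, b3⟩ := A.yv_spec a1 a2
  unfold Case.mm
  rcases (show p.2 = 0 ∨ p.2 = 1 ∨ p.2 = 2 by omega) with h | h | h
  · simp only [beq_true h]
    obtain ⟨r1, r2⟩ := mk q.1 q.2 hq1 q2
    rw [Nat.mod_eq_of_lt hq3] at r1 r2
    refine ⟨r1, r2.trans ?_⟩
    rw [val, val, h, pow_zero, mul_one, mul_assoc]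
  · simp only [beq_false (show p.2 ≠ 0 by omega), beq_true h]
    obtain ⟨r1, r2⟩ := mk _ (Case.ye q.1 + q.2) a1 a2
    refine ⟨r1, r2.trans ?_⟩
    rw [val, val, h, pow_one, pow_add]
    simp only [mul_assoc]
    rw [← mul_assoc y, a3, mul_assoc]
  · simp only [beq_false (show p.2 ≠ 0 by omega), beq_false (show p.2 ≠ 1 by omega)]
    obtain ⟨r1, r2⟩ := mk _ (Case.ye (C.yv q.1) + Case.ye q.1 + q.2) b1 b2
    refine ⟨r1, r2.trans ?_⟩
    rw [val, val, h, pow_two, pow_add, pow_add]
    simp only [mul_assoc]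
    rw [← mul_assoc y (F.ι q.1), a3]
    simp only [← mul_assoc]
    rw [mul_assoc (F.ι p.1) y (F.ι (C.yv q.1)), b3]
    simp only [mul_assoc]

theorem not_mem (A : Amalgam F C y) {k : ℕ} (hk : k < 3) {a : Nat} (ha : a < 192)
    (h : y ^ k = F.ι a) : k = 0 := by
  have hne : F.ι eI ≠ s := fun e =>
    absurd (F.inj eI sI (by decide) (by decide) (by rw [e, F.map_s])) (by decide)
  have hy : y * s ≠ s * y := fun hc => hne (by rw [← A.y_s, hc]; group)
  by_contra h0
  have hcm : y ^ k * s = s * y ^ k := by rw [h]; exact F.comm_s ha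
  rcases (show k = 1 ∨ k = 2 by omega) with e | e <;> subst e
  · exact hy (by simpa using hcm)
  · apply hy
    have h2 : y = y ^ 2 * y ^ 2 := by
      rw [← pow_add, show 2 + 2 = 3 + 1 from rfl, pow_succ, A.y_cube, one_mul]
    rw [h2, mul_assoc, hcm, ← mul_assoc, hcm, mul_assoc]

theorem val_inj (A : Amalgam F C y) {p q : Nat × Nat} (hp : okP p = true) (hq : okP q = true)
    (h : val F y p = val F y q) : p = q := by
  simp only [okP, Bool.and_eq_true] at hp hq
  have hp1 : p.1 < 192 := Nat.le_of_ble_eq_true hp.1.1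
  have hq1 : q.1 < 192 := Nat.le_of_ble_eq_true hq.1.1
  have hp2 : p.2 < 3 := Nat.le_of_ble_eq_true hp.2
  have hq2 : q.2 < 3 := Nat.le_of_ble_eq_true hq.2
  have key : y ^ ((p.2 + (3 - q.2)) % 3) = F.ι (mul (inv p.1) q.1) := by
    rw [F.map_mul _ _ (inv_lt hp1) hq1, F.map_inv hp1, A.pow_mod, pow_add]
    have e : y ^ (3 - q.2) = (y ^ q.2)⁻¹ := by
      apply eq_inv_of_mul_eq_one_left
      rw [← pow_add, show 3 - q.2 + q.2 = 3 by omega, A.y_cube]
    rw [e, eq_inv_mul_iff_mul_eq, ← mul_assoc]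
    show val F y p * _ = _
    rw [h, val]; group
  have := A.not_mem (Nat.mod_lt _ (by norm_num)) (mul_lt (inv_lt hp1) hq1) key
  have h2 : p.2 = q.2 := by omega
  refine Prod.ext (F.inj _ _ hp1 hq1 ?_) h2
  rw [val, val, h2] at h
  exact mul_right_cancel h

theorem peq_spec {p q : Nat × Nat} (h : peq p q = true) : p = q := by
  rw [peq, Bool.and_eq_true] at h
  exact Prod.ext (Nat.eq_of_beq_eq_true h.1) (Nat.eq_of_beq_eq_true h.2)

end Amalgam

end Cfsg.Agent.H80.M12
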