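import Cfsg.Agent.H80.M12.Second
import Cfsg.Agent.S0213

/-!
The second centralizer is not of order 48: the order formula would give 63 conjugates of the
central involution, too few for the commuting graph on them.
-/

set_option autoImplicit false
set_option maxRecDepth 8000
set_option maxHeartbeats 1000000

namespace Cfsg.Agent.H80.M12

open Cfsg.Agent.H16

/-- powers in the table group -/
noncomputable def powL (p k : Nat) : Nat :=
  Nat.rec (motive := fun _ => Nat) 0 (fun _ ih => mul p ih) k

/-- the normal form with index `i` in the centralizer of order 48 -/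
def kP (i : Nat) : Nat × Nat := ((kList.getD i (0, 0, 0, 0, 0)).1, (kList.getD i (0, 0, 0, 0, 0)).2.1)

/-- the conjugating normal form -/
def kM (i : Nat) : Nat × Nat :=
  ((kList.getD i (0, 0, 0, 0, 0)).2.2.1, (kList.getD i (0, 0, 0, 0, 0)).2.2.2.1)

/-- the conjugate inside the table group -/
def kR (i : Nat) : Nat := (kList.getD i (0, 0, 0, 0, 0)).2.2.2.2

/-- powers of normal forms -/
noncomputable def powK (p : Nat × Nat) (k : Nat) : Nat × Nat :=
  Nat.rec (motive := fun _ => Nat × Nat) (0, 0) (fun _ ih => (caseAt 0).mm p ih) k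

/-- `p` is an involution or trivial -/
noncomputable def invK (p : Nat × Nat) : Bool := peq ((caseAt 0).mm p p) (0, 0)

/-- first kind in the centralizer of order 48 -/
noncomputable def sK (i : Nat) : Bool :=
  invK (kP i) && !peq (kP i) (0, 0) && isSType (kR i)

/-- second kind in the centralizer of order 48 -/
noncomputable def tK (i : Nat) : Bool :=
  invK (kP i) && !peq (kP i) (0, 0) && Nat.beq (cls (kR i)) 3

/-- `p` is a power of `q`, within 24 steps -/
noncomputable def powSearch (f : Nat → Bool) : Bool := !allFrom (fun k => !f k) 24 0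

theorem kList_chk : allFrom (fun i => okP (kP i) && okP (kM i) && okP (kR i, 0) &&
    peq ((caseAt 0).mm (kP i) (cI, 0)) ((caseAt 0).mm (cI, 0) (kP i)) &&
    peq (powK (kP i) 24) (0, 0) &&
    allFrom (fun j => imp (peq (kP i) (kP j)) (Nat.beq i j)) 48 0 &&
    imp (invK (kP i) && !peq (kP i) (0, 0))
      (peq ((caseAt 0).mm (kM i) (kP i)) ((caseAt 0).mm (kR i, 0) (kM i)) &&
        Nat.ble (Nat.succ (kR i)) 192 && !Nat.beq (cls (kR i)) 0)) 48 0 = true := by
  decide +kernel

theorem kClosed_chk : allFrom (fun i => allFrom (fun j =>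
    okP ((caseAt 0).mm (kP i) (kP j))) 48 0) 48 0 = true := by
  decide +kernel

theorem n1_chk : countFrom (fun i => Bool.rec false
    (powSearch fun k => Nat.beq (powL (mul (i / 192) (i % 192)) k) sI)
    (isSType (i / 192) && Nat.beq (cls (i % 192)) 3)) 36864 0 = 240 := by
  decide +kernel

theorem n2_chk : countFrom (fun i => Bool.rec false
    (powSearch fun k => peq (powK ((caseAt 0).mm (kP (i / 48)) (kP (i % 48))) k) (cI, 0))
    (sK (i / 48) && tK (i % 48))) 2304 0 = 3 := by
  decide +kernel

theorem powL_chk : allL (fun a => Nat.beq (powL a 24) 0) = true := by decide +kernel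

/-- the neighbours of the centre -/
noncomputable def isNbr (a : Nat) : Bool := isSType a && !Nat.beq a sI

/-- conjugates of the centre commuting with `a` inside the centralizer -/
noncomputable def inner (a : Nat) : Nat := countFrom (fun b => isSType b && commB b a) 192 0

theorem card_sType : countFrom isSType 192 0 = 31 := by decide +kernel
theorem card_nbr : countFrom isNbr 192 0 = 30 := by decide +kernel

theorem inner_sum : List.sum ((List.range 192).map fun a => Bool.rec 0 (31 - inner a) (isNbr a)) = 672 := by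
  decide +kernel

theorem pair_chk : allL (fun a => imp (isNbr a) (isNbr (mul a sI))) = true := by decide +kernel

theorem list_sum_eq (f : Nat → Nat) (n : Nat) :
    ((List.range n).map f).sum = ∑ a ∈ Finset.range n, f a := by
  induction n with
  | zero => simp
  | succ n ih => rw [Finset.sum_range_succ, List.range_succ]; simp [ih]

theorem rec_eq_ite (b : Bool) (x : Nat) :
    (Bool.rec 0 x b : Nat) = if b = true then x else 0 := by
  cases b <;> rfl

namespace Amalgam

seal inner isNbr isSType countFrom

variable {G : Type*} [Group G] {s : G} {F : Frame s} {y : G}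

theorem ok_one : okP (0, 0) = true := by decide +kernel

theorem ok_L (a : Nat) (h : okP (a, 0) = true) : val F y (a, 0) = F.ι a := by simp [val]

theorem powL_spec (F : Frame s) {p : Nat} (hp : p < 192) :
    ∀ k, powL p k < 192 ∧ F.ι (powL p k) = F.ι p ^ k
  | 0 => ⟨by norm_num [powL], by simp [powL, F.map_zero]⟩
  | k + 1 => by
    obtain ⟨h1, h2⟩ := powL_spec F hp k
    exact ⟨mul_lt hp h1, by
      show F.ι (mul p (powL p k)) = _
      rw [F.map_mul p _ hp h1, h2, pow_succ']⟩

theorem powK_spec (A : Amalgam F (caseAt 0) y) {p : Nat × Nat} (hp : okP p = true) :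
    ∀ k, okP (powK p k) = true ∧ val F y (powK p k) = val F y p ^ k
  | 0 => ⟨ok_one, by simp [powK, val, F.map_zero]⟩
  | k + 1 => by
    obtain ⟨h1, h2⟩ := powK_spec A hp k
    obtain ⟨h3, h4⟩ := A.mm_spec hp h1
    refine ⟨h3, ?_⟩
    show val F y ((caseAt 0).mm p (powK p k)) = _
    rw [h4, h2, pow_succ']

omit [Group G] in
theorem powSearch_iff {f : Nat → Bool} : powSearch f = true ↔ ∃ k, k < 24 ∧ f k = true := by
  rw [powSearch, Bool.not_eq_true']
  constructor
  · intro h
    by_contra hc
    push Not at hc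
    rw [allFrom_of_forall (p := fun k => !f k)
      (fun k _ hk => by simpa using hc k (by omega))] at h
    simp at h
  · rintro ⟨k, hk, hf⟩
    cases h : allFrom (fun k => !f k) 24 0 with
    | false => rfl
    | true =>
      have := allFrom_spec h k (Nat.zero_le k) (by omega)
      simp [hf] at this

theorem mem_zpowers_iff_nat {x w : G} (h : w ^ 24 = 1) :
    x ∈ Subgroup.zpowers w ↔ ∃ k, k < 24 ∧ w ^ k = x := by
  constructor
  · rintro ⟨k, rfl⟩
    refine ⟨(k % 24).toNat, by omega, ?_⟩
    show _ = w ^ k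
    rw [← zpow_natCast, Int.toNat_of_nonneg (Int.emod_nonneg _ (by norm_num))]
    have h' : w ^ (24 : ℤ) = 1 := by exact_mod_cast h
    conv_rhs => rw [← Int.emod_add_mul_ediv k 24, zpow_add, zpow_mul, h', one_zpow, mul_one]
  · rintro ⟨k, -, rfl⟩; exact Subgroup.pow_mem _ (Subgroup.mem_zpowers w) k

/-- A member of a cyclic group generated by two involutions commutes with both. -/
theorem commute_of_mem_zpowers {x u v : G} (hu : u * u = 1) (hv : v * v = 1) (hx : x * x = 1)
    (h : x ∈ Subgroup.zpowers (u * v)) : u * x = x * u ∧ v * x = x * v := by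
  obtain ⟨k, rfl⟩ := h
  have hc : Commute (u * v) ((u * v) ^ k) := Commute.self_zpow _ k
  have e : u * (u * v) ^ k * u⁻¹ = ((u * v) ^ k)⁻¹ := by
    rw [← conj_zpow, ← inv_zpow]
    congr 1
    rw [inv_eq_of_mul_eq_one_left hu, ← mul_assoc, hu, one_mul, mul_inv_rev,
      inv_eq_of_mul_eq_one_left hu, inv_eq_of_mul_eq_one_left hv]
  have h1 : u * (u * v) ^ k = (u * v) ^ k * u := by
    refine mul_inv_eq_iff_eq_mul.mp (e.trans ?_)
    exact inv_eq_of_mul_eq_one_left hx
  refine ⟨h1, ?_⟩
  calc v * (u * v) ^ k = u * (u * v * (u * v) ^ k) := by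
        rw [← mul_assoc u, ← mul_assoc u u, hu, one_mul]
    _ = u * ((u * v) ^ k * (u * v)) := by rw [hc.eq]
    _ = (u * v) ^ k * (u * u) * v := by rw [← mul_assoc, h1]; group
    _ = _ := by rw [hu, mul_one]

theorem card_conj_mul {G : Type*} [Group G] [Finite G] (x : G) :
    Nat.card {g : G // IsConj x g} * Nat.card (Subgroup.centralizer ({x} : Set G)) = Nat.card G := by
  have h : Nat.card (MulAction.stabilizer (ConjAct G) x) = Nat.card (Subgroup.centralizer {x}) := by
    rw [ConjAct.stabilizer_eq_centralizer]; rfl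
  have h2 : Nat.card {g : G // IsConj x g} = Nat.card (MulAction.orbit (ConjAct G) x) :=
    Nat.card_congr (Equiv.subtypeEquivRight fun g => by
      rw [ConjAct.mem_orbit_conjAct, isConj_comm])
  rw [h2, Nat.card_coe_set_eq, ← MulAction.index_stabilizer, ← h, Subgroup.index_mul_card]
  rfl

theorem two_classes [Finite G] (A : Amalgam F (caseAt 0) y) {t : G} (ht : orderOf t = 2) :
    IsConj s t ∨ IsConj (F.ι cI) t := by
  rcases F.involution_cases ht (isConj_iff.mpr ⟨y, A.y_s⟩) with h | h | h
  · exact Or.inl h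
  · exact Or.inr h
  · exact Or.inl (A.isConj_sig.trans h)

theorem card_centralizer_s [Finite G] (F : Frame s) :
    Nat.card (Subgroup.centralizer ({s} : Set G)) = 192 := by
  rw [← Nat.card_fin 192]
  refine (Nat.card_congr (Equiv.ofBijective
    (fun a : Fin 192 => ⟨F.ι a, F.mem_centralizer.mpr ⟨a, a.2, rfl⟩⟩) ⟨?_, ?_⟩)).symm
  · intro a b h
    exact Fin.ext (F.inj a b a.2 b.2 (congrArg Subtype.val h))
  · rintro ⟨x, hx⟩
    obtain ⟨a, ha, rfl⟩ := F.mem_centralizer.mp hx
    exact ⟨⟨a, ha⟩, rfl⟩

theorem card_second_ne [Finite G] (A : Amalgam F (caseAt 0) y) : Nat.card (cC F) ≠ 48 := by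
  intro h48
  classical
  haveI := Fintype.ofFinite G
  have hK : ∀ i, i < 48 → okP (kP i) = true ∧ okP (kM i) = true ∧
      val F y (kP i) ∈ cC F ∧ val F y (kP i) ^ 24 = 1 ∧
      (invK (kP i) && !peq (kP i) (0, 0)) = true →
      kR i < 192 ∧ IsConj (val F y (kP i)) (F.ι (kR i)) := by
    rintro i hi ⟨-, -, -, -, hinv⟩
    have h := allFrom_spec kList_chk i (Nat.zero_le i) (by omega)
    simp only [Bool.and_eq_true] at h
    obtain ⟨⟨⟨⟨⟨⟨h1, h2⟩, h2'⟩, -⟩, -⟩, -⟩, h7⟩ := h
    have h7' := imp_spec h7 hinv
    simp only [Bool.and_eq_true] at h7'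
    have hr := Nat.le_of_ble_eq_true h7'.1.2
    refine ⟨hr, isConj_iff.mpr ⟨val F y (kM i), ?_⟩⟩
    obtain ⟨-, e1⟩ := A.mm_spec h2 h1
    obtain ⟨-, e2⟩ := A.mm_spec h2' h2
    rw [Amalgam.peq_spec h7'.1.1, e2] at e1
    rw [← e1, ok_L _ h2', mul_inv_cancel_right]
  have hKb : ∀ i, i < 48 → okP (kP i) = true ∧ okP (kM i) = true ∧ val F y (kP i) ∈ cC F ∧
      val F y (kP i) ^ 24 = 1 := by
    intro i hi
    have h := allFrom_spec kList_chk i (Nat.zero_le i) (by omega)
    simp only [Bool.and_eq_true] at h
    obtain ⟨⟨⟨⟨⟨⟨h1, h2⟩, -⟩, h4⟩, h5⟩, -⟩, -⟩ := h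
    have hc0 : okP (cI, 0) = true := by decide +kernel
    refine ⟨h1, h2, mem_cC.mpr ?_, ?_⟩
    · obtain ⟨-, e1⟩ := A.mm_spec h1 hc0
      obtain ⟨-, e2⟩ := A.mm_spec hc0 h1
      rw [Amalgam.peq_spec h4, e2] at e1
      rw [ok_L _ hc0] at e1
      exact e1.symm
    · rw [← (powK_spec A h1 24).2, Amalgam.peq_spec h5]; simp [val, F.map_zero]
  let κ : Fin 48 → cC F := fun i => ⟨val F y (kP i), (hKb i i.2).2.2.1⟩
  have κbij : Function.Bijective κ := by
    rw [Fintype.bijective_iff_injective_and_card]
    refine ⟨fun i j h => ?_, by rw [Fintype.card_fin, ← Nat.card_eq_fintype_card, h48]⟩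
    have e := A.val_inj (hKb i i.2).1 (hKb j j.2).1 (congrArg Subtype.val h)
    have hk := allFrom_spec kList_chk i (Nat.zero_le i.1) (by omega)
    simp only [Bool.and_eq_true] at hk
    exact Fin.ext (Nat.eq_of_beq_eq_true (imp_spec (allFrom_spec hk.1.2 j (Nat.zero_le j.1) (by omega))
      (by rw [e]; simp [peq])))
  -- classes inside the centralizer of order 48
  have hcls : ∀ i : Fin 48, (IsConj s (val F y (kP i)) ↔ sK i = true) ∧
      (IsConj (F.ι cI) (val F y (kP i)) ↔ tK i = true) := by
    intro i
    obtain ⟨o1, -, -, -⟩ := hKb i i.2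
    have inv_iff : (invK (kP i) && !peq (kP i) (0, 0)) = true ↔ orderOf (val F y (kP i)) = 2 := by
      rw [Bool.and_eq_true, invK, Bool.not_eq_true', orderOf_eq_prime_iff]
      obtain ⟨o2, e2⟩ := A.mm_spec o1 o1
      refine and_congr ⟨fun h => ?_, fun h => ?_⟩ ⟨fun h => ?_, fun h => ?_⟩
      · rw [pow_two, ← e2, Amalgam.peq_spec h]; simp [val, F.map_zero]
      · have := A.val_inj o2 ok_one (by rw [e2, ← pow_two, h]; simp [val, F.map_zero])
        simp [peq, this]
      · intro e
        have := A.val_inj o1 ok_one (by rw [e]; simp [val, F.map_zero])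
        simp [peq, this] at h
      · cases hq : peq (kP i) (0, 0) with
        | false => rfl
        | true =>
          exfalso; apply h
          rw [Amalgam.peq_spec hq]; simp [val, F.map_zero]
    have ord_of : ∀ x : G, IsConj x (val F y (kP i)) → orderOf x = 2 →
        (invK (kP i) && !peq (kP i) (0, 0)) = true := by
      intro x hx hx2
      obtain ⟨g, hg⟩ := isConj_iff.mp hx
      exact inv_iff.mpr (by rw [← hg]; exact ((MulAut.conj g).orderOf_eq x).trans hx2)
    have tr : (invK (kP i) && !peq (kP i) (0, 0)) = true →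
        kR i < 192 ∧ IsConj (val F y (kP i)) (F.ι (kR i)) := fun hi =>
      hK i i.2 ⟨(hKb i i.2).1, (hKb i i.2).2.1, (hKb i i.2).2.2.1, (hKb i i.2).2.2.2, hi⟩
    have c3 : cls cI = 3 := by decide +kernel
    constructor
    · constructor
      · intro h
        have hi := ord_of s h F.orderOf_s
        obtain ⟨hr, hc⟩ := tr hi
        rw [sK, hi, Bool.true_and]
        exact (A.isConj_iff_sType hr).mp (h.trans hc)
      · intro h
        rw [sK, Bool.and_eq_true] at h
        obtain ⟨hr, hc⟩ := tr h.1
        exact ((A.isConj_iff_sType hr).mpr h.2).trans hc.symm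
    · constructor
      · intro h
        have hi := ord_of _ h ((F.orderOf_two (by decide)).mpr (by rw [c3]; norm_num))
        obtain ⟨hr, hc⟩ := tr hi
        rw [tK, hi, Bool.true_and]
        have h0 : cls (kR i) ≠ 0 := (F.orderOf_two hr).mp (by
          obtain ⟨g, hg⟩ := isConj_iff.mp hc
          rw [← hg]; exact ((MulAut.conj g).orderOf_eq _).trans (inv_iff.mp hi))
        have hns : isSType (kR i) ≠ true := fun hs => F.not_isConj_three (by decide) c3
          (((A.isConj_iff_sType hr).mpr hs).trans (h.trans hc).symm)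
        rcases cls_cases hr h0 with e | e | e | e
        · exact absurd (by rw [e]; decide +kernel) hns
        · exact absurd (by simp [isSType, e]) hns
        · exact beq_true e
        · exact absurd (by simp [isSType, e]) hns
      · intro h
        rw [tK, Bool.and_eq_true] at h
        obtain ⟨hr, hc⟩ := tr h.1
        exact (F.isConj_of_cls_eq (by decide) hr (c3.trans (Nat.eq_of_beq_eq_true h.2).symm)
          (by rw [c3]; norm_num)).trans hc.symm
  have c3 : cls cI = 3 := by decide +kernel
  have hcord : orderOf (F.ι cI) = 2 := (F.orderOf_two (by decide)).mpr (by rw [c3]; norm_num)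
  have hnc : ¬ IsConj s (F.ι cI) := F.not_isConj_three (by decide) c3
  have sq : ∀ {x : G}, orderOf x = 2 → x * x = 1 := fun {x} hx => by
    rw [← pow_two, ← hx]; exact pow_orderOf_eq_one x
  have conj_ord : ∀ {x u : G}, orderOf x = 2 → IsConj x u → orderOf u = 2 := fun {x u} hx h => by
    obtain ⟨g, hg⟩ := isConj_iff.mp h
    rw [← hg]; exact ((MulAut.conj g).orderOf_eq x).trans hx
  -- the pairs over the centre
  have n1 : Nat.card {p : G × G // IsConj s p.1 ∧ IsConj (F.ι cI) p.2 ∧
      s ∈ Subgroup.zpowers (p.1 * p.2)} = 240 := by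
    rw [← n1_chk, countFrom_spec, ← Nat.card_eq_finsetCard]
    have hspec : ∀ i, i < 36864 →
        ((Bool.rec false (powSearch fun k => Nat.beq (powL (mul (i / 192) (i % 192)) k) sI)
          (isSType (i / 192) && Nat.beq (cls (i % 192)) 3) : Bool) = true ↔
        IsConj s (F.ι (i / 192)) ∧ IsConj (F.ι cI) (F.ι (i % 192)) ∧
          s ∈ Subgroup.zpowers (F.ι (i / 192) * F.ι (i % 192))) := by
      intro i hi
      have ha : i / 192 < 192 := by omega
      have hb : i % 192 < 192 := by omega
      have h24 : (F.ι (i / 192) * F.ι (i % 192)) ^ 24 = 1 := by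
        rw [← F.map_mul _ _ ha hb, ← (powL_spec F (mul_lt ha hb) 24).2,
          Nat.eq_of_beq_eq_true (allL_spec powL_chk (mul_lt ha hb)), F.map_zero]
      rw [A.isConj_iff_sType ha, mem_zpowers_iff_nat h24]
      have hb3 : IsConj (F.ι cI) (F.ι (i % 192)) ↔ cls (i % 192) = 3 := by
        constructor
        · intro h
          have h0 : cls (i % 192) ≠ 0 := (F.orderOf_two hb).mp (conj_ord hcord h)
          have hns : isSType (i % 192) ≠ true := fun hs =>
            hnc (((A.isConj_iff_sType hb).mpr hs).trans h.symm)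
          rcases cls_cases hb h0 with e | e | e | e
          · exact absurd (by rw [e]; decide +kernel) hns
          · exact absurd (by simp [isSType, e]) hns
          · exact e
          · exact absurd (by simp [isSType, e]) hns
        · intro h
          exact F.isConj_of_cls_eq (by decide) hb (c3.trans h.symm) (by rw [c3]; norm_num)
      rw [hb3]
      cases hc : (isSType (i / 192) && Nat.beq (cls (i % 192)) 3) with
      | false =>
        simp only [Bool.false_eq_true, false_iff, not_and]
        intro h1 h2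
        simp [h1, beq_true h2] at hc
      | true =>
        rw [Bool.and_eq_true] at hc
        simp only [hc.1, Nat.eq_of_beq_eq_true hc.2, true_and]
        rw [powSearch_iff]
        refine exists_congr fun k => and_congr_right fun _ => ?_
        rw [← F.map_mul _ _ ha hb, ← (powL_spec F (mul_lt ha hb) k).2]
        exact ⟨fun h => by rw [Nat.eq_of_beq_eq_true h, F.map_s], fun h =>
          beq_true (F.inj _ _ (powL_spec F (mul_lt ha hb) k).1 (by decide) (h.trans F.map_s.symm))⟩
    refine (Nat.card_congr (Equiv.ofBijective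
      (fun i => ⟨(F.ι (i.1 / 192), F.ι (i.1 % 192)), by
        obtain ⟨h1, h2⟩ := Finset.mem_filter.mp i.2
        exact (hspec i.1 (Finset.mem_Ico.mp h1).2).mp h2⟩) ⟨?_, ?_⟩)).symm
    · intro i j h
      have h' := Prod.mk.injEq .. ▸ congrArg Subtype.val h
      have hi := (Finset.mem_Ico.mp (Finset.mem_filter.mp i.2).1).2
      have hj := (Finset.mem_Ico.mp (Finset.mem_filter.mp j.2).1).2
      have e1 := F.inj _ _ (by omega) (by omega) h'.1
      have e2 := F.inj _ _ (by omega) (by omega) h'.2
      exact Subtype.ext (by omega)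
    · rintro ⟨⟨u, v⟩, hu, hv, hz⟩
      obtain ⟨cu, cv⟩ := commute_of_mem_zpowers (sq (conj_ord F.orderOf_s hu))
        (sq (conj_ord hcord hv)) (sq F.orderOf_s) hz
      obtain ⟨a, ha, rfl⟩ := F.surj u cu
      obtain ⟨b, hb, rfl⟩ := F.surj v cv
      have hd : (a * 192 + b) / 192 = a := by omega
      have hm : (a * 192 + b) % 192 = b := by omega
      refine ⟨⟨a * 192 + b, Finset.mem_filter.mpr ⟨Finset.mem_Ico.mpr ⟨Nat.zero_le _, by omega⟩, ?_⟩⟩, ?_⟩
      · exact (hspec _ (by omega)).mpr (by rw [hd, hm]; exact ⟨hu, hv, hz⟩)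
      · exact Subtype.ext (by simp [hd, hm])
  -- the pairs over the second involution
  have n2 : Nat.card {p : G × G // IsConj s p.1 ∧ IsConj (F.ι cI) p.2 ∧
      F.ι cI ∈ Subgroup.zpowers (p.1 * p.2)} = 3 := by
    rw [← n2_chk, countFrom_spec, ← Nat.card_eq_finsetCard]
    have hspec : ∀ i, i < 2304 →
        ((Bool.rec false
          (powSearch fun k => peq (powK ((caseAt 0).mm (kP (i / 48)) (kP (i % 48))) k) (cI, 0))
          (sK (i / 48) && tK (i % 48)) : Bool) = true ↔
        IsConj s (val F y (kP (i / 48))) ∧ IsConj (F.ι cI) (val F y (kP (i % 48))) ∧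
          F.ι cI ∈ Subgroup.zpowers (val F y (kP (i / 48)) * val F y (kP (i % 48)))) := by
      intro i hi
      have ha : i / 48 < 48 := by omega
      have hb : i % 48 < 48 := by omega
      rw [(hcls ⟨_, ha⟩).1, (hcls ⟨_, hb⟩).2]
      obtain ⟨om, em⟩ := A.mm_spec (hKb _ ha).1 (hKb _ hb).1
      have hmem : val F y (kP (i / 48)) * val F y (kP (i % 48)) ∈ cC F :=
        mul_mem (hKb _ ha).2.2.1 (hKb _ hb).2.2.1
      have h24 : (val F y (kP (i / 48)) * val F y (kP (i % 48))) ^ 24 = 1 := by
        obtain ⟨j, hj⟩ := κbij.2 ⟨_, hmem⟩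
        rw [← show val F y (kP j) = val F y (kP (i / 48)) * val F y (kP (i % 48)) from
          congrArg Subtype.val hj]
        exact (hKb j j.2).2.2.2
      rw [mem_zpowers_iff_nat h24]
      cases hc : (sK (i / 48) && tK (i % 48)) with
      | false =>
        simp only [Bool.false_eq_true, false_iff, not_and]
        intro h1 h2
        simp [h1, h2] at hc
      | true =>
        rw [Bool.and_eq_true] at hc
        simp only [hc.1, hc.2, true_and]
        rw [powSearch_iff]
        refine exists_congr fun k => and_congr_right fun _ => ?_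
        obtain ⟨o3, e3⟩ := powK_spec A om k
        rw [← em, ← e3]
        have hc0 : okP (cI, 0) = true := by decide +kernel
        exact ⟨fun h => by rw [Amalgam.peq_spec h, ok_L _ hc0], fun h => by
          have := A.val_inj o3 hc0 (by rw [h, ok_L _ hc0])
          simp [peq, this]⟩
    refine (Nat.card_congr (Equiv.ofBijective
      (fun i => ⟨(val F y (kP (i.1 / 48)), val F y (kP (i.1 % 48))), by
        obtain ⟨h1, h2⟩ := Finset.mem_filter.mp i.2
        exact (hspec i.1 (Finset.mem_Ico.mp h1).2).mp h2⟩) ⟨?_, ?_⟩)).symm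
    · intro i j h
      have h' := Prod.mk.injEq .. ▸ congrArg Subtype.val h
      have hi := (Finset.mem_Ico.mp (Finset.mem_filter.mp i.2).1).2
      have hj := (Finset.mem_Ico.mp (Finset.mem_filter.mp j.2).1).2
      have e1 := κbij.1 (a₁ := ⟨i.1 / 48, by omega⟩) (a₂ := ⟨j.1 / 48, by omega⟩)
        (Subtype.ext h'.1)
      have e2 := κbij.1 (a₁ := ⟨i.1 % 48, by omega⟩) (a₂ := ⟨j.1 % 48, by omega⟩)
        (Subtype.ext h'.2)
      rw [Fin.ext_iff] at e1 e2
      simp only at e1 e2
      exact Subtype.ext (by omega)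
    · rintro ⟨⟨u, v⟩, hu, hv, hz⟩
      obtain ⟨cu, cv⟩ := commute_of_mem_zpowers (sq (conj_ord F.orderOf_s hu))
        (sq (conj_ord hcord hv)) (sq hcord) hz
      obtain ⟨a, ha⟩ := κbij.2 ⟨u, mem_cC.mpr cu⟩
      obtain ⟨b, hb⟩ := κbij.2 ⟨v, mem_cC.mpr cv⟩
      have ha' : val F y (kP a) = u := congrArg Subtype.val ha
      have hb' : val F y (kP b) = v := congrArg Subtype.val hb
      have hd : (a.1 * 48 + b.1) / 48 = a := by omega
      have hm : (a.1 * 48 + b.1) % 48 = b := by omega
      refine ⟨⟨a.1 * 48 + b.1, Finset.mem_filter.mpr ⟨Finset.mem_Ico.mpr ⟨Nat.zero_le _, by omega⟩, ?_⟩⟩, ?_⟩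
      · exact (hspec _ (by omega)).mpr (by rw [hd, hm, ha', hb']; exact ⟨hu, hv, hz⟩)
      · exact Subtype.ext (by simp [hd, hm, ha', hb'])
  have hG := S0213.result s (F.ι cI) F.orderOf_s hcord hnc (fun t ht => A.two_classes ht)
  rw [show Nat.card (Subgroup.centralizer ({F.ι cI} : Set G)) = 48 from h48,
    card_centralizer_s F, n1, n2] at hG
  -- the commuting graph
  set cl : Finset G := Finset.univ.filter fun g => IsConj s g with hcl
  have hclcard : cl.card = 63 := by
    have h := card_conj_mul s
    rw [card_centralizer_s F, hG, Nat.card_eq_fintype_card, Fintype.card_subtype] at h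
    have : cl.card * 192 = 12096 := by rw [hcl]; linarith
    omega
  let idx (p : Nat → Bool) : Finset Nat := (Finset.Ico 0 (0 + 192)).filter fun a => p a = true
  have memidx : ∀ {p : Nat → Bool} {a : Nat}, a ∈ idx p ↔ a < 192 ∧ p a = true := by
    intro p a; simp [idx]
  let im (p : Nat → Bool) : Finset G := (idx p).image F.ι
  have imcard : ∀ p, (im p).card = countFrom p 192 0 := by
    intro p
    rw [countFrom_spec]
    exact Finset.card_image_of_injOn fun a ha b hb h =>
      F.inj a b (memidx.mp ha).1 (memidx.mp hb).1 h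
  set N := im isNbr with hN
  have hNmem : ∀ u, u ∈ N ↔ u ∈ cl ∧ u * s = s * u ∧ u ≠ s := by
    intro u
    simp only [hN, im, Finset.mem_image, memidx, hcl, Finset.mem_filter, Finset.mem_univ, true_and]
    constructor
    · rintro ⟨a, ⟨ha, hn⟩, rfl⟩
      simp only [isNbr, Bool.and_eq_true, Bool.not_eq_true'] at hn
      refine ⟨(A.isConj_iff_sType ha).mpr hn.1, F.comm_s ha, fun e => ?_⟩
      have := F.inj a sI ha (by decide) (e.trans F.map_s.symm)
      rw [this] at hn; simp at hn
    · rintro ⟨h1, h2, h3⟩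
      obtain ⟨a, ha, rfl⟩ := F.surj u h2
      refine ⟨a, ⟨ha, ?_⟩, rfl⟩
      simp only [isNbr, Bool.and_eq_true, Bool.not_eq_true']
      exact ⟨(A.isConj_iff_sType ha).mp h1, beq_false fun e => h3 (by rw [e, F.map_s])⟩
  set R := cl.filter fun v => ¬ v * s = s * v with hR
  have hin : cl.filter (fun v => v * s = s * v) = im isSType := by
    ext v
    simp only [im, Finset.mem_image, memidx, hcl, Finset.mem_filter, Finset.mem_univ, true_and]
    constructor
    · rintro ⟨h1, h2⟩
      obtain ⟨a, ha, rfl⟩ := F.surj v h2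
      exact ⟨a, ⟨ha, (A.isConj_iff_sType ha).mp h1⟩, rfl⟩
    · rintro ⟨a, ⟨ha, h⟩, rfl⟩
      exact ⟨(A.isConj_iff_sType ha).mpr h, F.comm_s ha⟩
  have hRcard : R.card = 32 := by
    have := Finset.card_filter_add_card_filter_not (s := cl) (fun v => v * s = s * v)
    rw [hin, imcard, card_sType, hclcard] at this
    rw [hR]; omega
  -- the conjugates commuting with a neighbour outside the centralizer
  have hdeg : ∀ a ∈ idx isNbr,
      (R.filter fun v => v * F.ι a = F.ι a * v).card = 31 - inner a := by
    intro a ha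
    obtain ⟨ha, hn⟩ := memidx.mp ha
    simp only [isNbr, Bool.and_eq_true, Bool.not_eq_true'] at hn
    obtain ⟨g, hg⟩ := isConj_iff.mp ((A.isConj_iff_sType ha).mpr hn.1)
    have h31 : (cl.filter fun v => v * F.ι a = F.ι a * v).card = 31 := by
      rw [← card_sType, ← imcard, ← hin]
      refine (Finset.card_bij (fun v _ => g * v * g⁻¹) ?_ ?_ ?_).symm
      · intro v hv
        simp only [hcl, Finset.mem_filter, Finset.mem_univ, true_and] at hv ⊢
        refine ⟨hv.1.trans (isConj_iff.mpr ⟨g, rfl⟩), ?_⟩
        rw [← hg]; exact comm_conj g hv.2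
      · intro v _ w _ h; exact conj_injective h
      · intro v hv
        simp only [hcl, Finset.mem_filter, Finset.mem_univ, true_and] at hv ⊢
        refine ⟨g⁻¹ * v * g⁻¹⁻¹, ⟨hv.1.trans (isConj_iff.mpr ⟨g⁻¹, rfl⟩), ?_⟩, by group⟩
        have := comm_conj g⁻¹ hv.2
        rw [← hg] at this
        simpa [mul_assoc] using this
    have hinner : (cl.filter fun v => v * F.ι a = F.ι a * v ∧ v * s = s * v).card = inner a := by
      rw [inner, ← imcard]
      congr 1
      ext v
      simp only [im, Finset.mem_image, memidx, hcl, Finset.mem_filter, Finset.mem_univ, true_and,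
        Bool.and_eq_true]
      constructor
      · rintro ⟨h1, h2, h3⟩
        obtain ⟨b, hb, rfl⟩ := F.surj v h3
        exact ⟨b, ⟨hb, (A.isConj_iff_sType hb).mp h1, (F.commB_iff hb ha).mpr h2⟩, rfl⟩
      · rintro ⟨b, ⟨hb, h1, h2⟩, rfl⟩
        exact ⟨(A.isConj_iff_sType hb).mpr h1, (F.commB_iff hb ha).mp h2, F.comm_s hb⟩
    have hsplit := Finset.card_filter_add_card_filter_not
      (s := cl.filter fun v => v * F.ι a = F.ι a * v) (fun v => v * s = s * v)
    have f1 : (cl.filter fun v => v * F.ι a = F.ι a * v).filter (fun v => v * s = s * v) =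
        cl.filter fun v => v * F.ι a = F.ι a * v ∧ v * s = s * v := Finset.filter_filter _ _ _
    have f2 : (cl.filter fun v => v * F.ι a = F.ι a * v).filter (fun v => ¬ v * s = s * v) =
        cl.filter fun v => v * F.ι a = F.ι a * v ∧ ¬ v * s = s * v := Finset.filter_filter _ _ _
    rw [f1, f2, hinner, h31] at hsplit
    have f3 : R.filter (fun v => v * F.ι a = F.ι a * v) =
        cl.filter fun v => ¬ v * s = s * v ∧ v * F.ι a = F.ι a * v := Finset.filter_filter _ _ _
    rw [f3]
    have : (cl.filter fun v => v * F.ι a = F.ι a * v ∧ ¬ v * s = s * v).card =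
        (cl.filter fun v => ¬ v * s = s * v ∧ v * F.ι a = F.ι a * v).card := by
      simp only [and_comm]
    omega
  have hsum : ∑ a ∈ idx isNbr, (R.filter fun v => v * F.ι a = F.ι a * v).card = 672 := by
    rw [Finset.sum_congr rfl hdeg, ← inner_sum, list_sum_eq]
    have hidx : idx isNbr = (Finset.range 192).filter fun a => isNbr a = true := by
      ext a; simp [idx]
    rw [hidx, Finset.sum_filter]
    refine Finset.sum_congr rfl fun a _ => ?_
    rw [rec_eq_ite]
  -- at most fifteen common neighbours
  have hle : ∀ v ∈ R, ((idx isNbr).filter fun a => v * F.ι a = F.ι a * v).card ≤ 15 := by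
    intro v hv
    simp only [hR, Finset.mem_filter] at hv
    set D := (idx isNbr).filter fun a => v * F.ι a = F.ι a * v with hD
    have hinj : Set.InjOn (fun a => mul a sI) D := by
      intro a ha b hb h
      have ha' := (memidx.mp (Finset.mem_filter.mp ha).1).1
      have hb' := (memidx.mp (Finset.mem_filter.mp hb).1).1
      have := congrArg F.ι h
      rw [F.map_mul _ _ ha' (by decide), F.map_mul _ _ hb' (by decide)] at this
      exact F.inj a b ha' hb' (mul_right_cancel this)
    have hdisj : Disjoint D (D.image fun a => mul a sI) := by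
      rw [Finset.disjoint_left]
      intro b hb hb'
      obtain ⟨a, ha, rfl⟩ := Finset.mem_image.mp hb'
      obtain ⟨ha1, hva⟩ := Finset.mem_filter.mp ha
      obtain ⟨hb1, hvb⟩ := Finset.mem_filter.mp hb
      apply hv.2
      rw [F.map_mul _ _ (memidx.mp ha1).1 (by decide), F.map_s] at hvb
      have hvi : v * (F.ι a)⁻¹ = (F.ι a)⁻¹ * v := (Commute.inv_right (hva : Commute v (F.ι a))).eq
      calc v * s = v * ((F.ι a)⁻¹ * (F.ι a * s)) := by rw [inv_mul_cancel_left]
        _ = (F.ι a)⁻¹ * (v * (F.ι a * s)) := by rw [← mul_assoc, hvi, mul_assoc]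
        _ = _ := by rw [hvb, ← mul_assoc (F.ι a)⁻¹, inv_mul_cancel_left]
    have hsub : D ∪ D.image (fun a => mul a sI) ⊆ idx isNbr := by
      refine Finset.union_subset (Finset.filter_subset _ _) ?_
      intro b hb
      obtain ⟨a, ha, rfl⟩ := Finset.mem_image.mp hb
      obtain ⟨ha', hn⟩ := memidx.mp (Finset.mem_filter.mp ha).1
      exact memidx.mpr ⟨mul_lt ha' (by decide), imp_spec (allL_spec pair_chk ha') hn⟩
    have := Finset.card_le_card hsub
    rw [Finset.card_union_of_disjoint hdisj, Finset.card_image_of_injOn hinj,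
      show (idx isNbr).card = 30 by rw [← card_nbr, countFrom_spec]] at this
    omega
  have hswap : ∑ a ∈ idx isNbr, (R.filter fun v => v * F.ι a = F.ι a * v).card =
      ∑ v ∈ R, ((idx isNbr).filter fun a => v * F.ι a = F.ι a * v).card := by
    simp only [Finset.card_filter]
    exact Finset.sum_comm
  have := Finset.sum_le_card_nsmul R _ 15 hle
  rw [← hswap, hsum, hRcard, smul_eq_mul] at this
  omega

end Amalgam

end Cfsg.Agent.H80.M12
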