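import Cfsg.Agent.H80.M12.Exclude

/-! The fifth transposition of the second centralizer, and the relations it satisfies. -/

set_option autoImplicit false
set_option maxRecDepth 8000
set_option synthInstance.maxSize 4096
set_option maxHeartbeats 1000000

namespace Cfsg.Agent.H80.M12

open Cfsg.Agent.H16

/-- permutations of five points -/
abbrev P5 := Equiv.Perm (Fin 5)

/-- the transpositions of five points -/
def swaps : List P5 :=
  [Equiv.swap 0 1, Equiv.swap 0 2, Equiv.swap 0 3, Equiv.swap 0 4, Equiv.swap 1 2,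
    Equiv.swap 1 3, Equiv.swap 1 4, Equiv.swap 2 3, Equiv.swap 2 4, Equiv.swap 3 4]

/-- a representative double transposition -/
def dbl : P5 := Equiv.swap 0 1 * Equiv.swap 2 3

theorem invol_five : ∀ σ : P5, σ * σ = 1 → σ ≠ 1 →
    σ ∈ swaps ∨ ∃ ρ : P5, ρ * dbl * ρ⁻¹ = σ := by
  decide +kernel

theorem swap_cent : ∀ σ ∈ swaps,
    (Finset.univ.filter fun τ : P5 => τ * σ = σ * τ).card = 12 := by
  decide +kernel

theorem swaps_conj : ∀ σ ∈ swaps, ∀ τ ∈ swaps, ∃ ρ : P5, ρ * σ * ρ⁻¹ = τ := by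
  decide +kernel

theorem swaps_mul_comm : ∀ σ ∈ swaps, ∀ τ ∈ swaps, σ * τ = τ * σ → σ ≠ τ →
    (σ * τ * (σ * τ) = 1 ∧ σ * τ ≠ 1 ∧ σ * τ ∉ swaps) := by
  decide +kernel

/-- the words reaching all transpositions -/
def swapWords (p q r w : P5) : List P5 :=
  [p, q, r, w, q * p * q, r * q * r, w * r * w, r * q * p * q * r, w * r * q * r * w,
    w * r * q * p * q * r * w]

/-- the words of the centralizer of the first transposition -/
def centWords (p r w : P5) : List P5 :=
  [1, r, w, r * w, w * r, r * w * r, p * 1, p * r, p * w, p * (r * w), p * (w * r), p * (r * w * r)]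

theorem five_frame : ∀ p ∈ swaps, ∀ q ∈ swaps, ∀ r ∈ swaps,
    p * r = r * p → p ≠ r → p * q ≠ q * p → q * r ≠ r * q →
    ∃ w ∈ swaps, w * p = p * w ∧ w * q = q * w ∧ r * w * (r * w) * (r * w) = 1 ∧ w ≠ p ∧ w ≠ q ∧
      (∀ x ∈ swaps, x ∈ swapWords p q r w) ∧ ∀ x : P5, x * p = p * x → x ∈ centWords p r w := by
  decide +kernel

/-- the three transpositions inside the centralizer of order 48 -/
def target : Nat × Nat := pA1

theorem five_chk : (okP pA1 && okP pA2 && okP pA3 && okP (cI, 0) &&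
    peq ((caseAt 0).mm pA1 pA1) (0, 0) && peq ((caseAt 0).mm pA2 pA2) (0, 0) &&
    peq ((caseAt 0).mm pA3 pA3) (0, 0) &&
    peq ((caseAt 0).mm pA1 pA3) ((caseAt 0).mm pA3 pA1) &&
    !allFrom (fun i => !(peq (kP i) pA1 && tK i)) 48 0 &&
    !allFrom (fun i => !(peq (kP i) pA2 && tK i)) 48 0 &&
    !allFrom (fun i => !(peq (kP i) pA3 && tK i)) 48 0 &&
    !allFrom (fun i => !(peq (kP i) ((caseAt 0).mm pA1 (cI, 0)) && tK i)) 48 0 &&
    !allFrom (fun i => !(peq (kP i) ((caseAt 0).mm pA2 (cI, 0)) && tK i)) 48 0 &&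
    !allFrom (fun i => !(peq (kP i) ((caseAt 0).mm pA3 (cI, 0)) && tK i)) 48 0 &&
    !peq pA1 pA3 && !peq pA1 ((caseAt 0).mm pA3 (cI, 0)) &&
    !peq ((caseAt 0).mm pA1 pA2) ((caseAt 0).mm pA2 pA1) &&
    !peq ((caseAt 0).mm pA1 pA2) ((caseAt 0).mm ((caseAt 0).mm pA2 pA1) (cI, 0)) &&
    !peq ((caseAt 0).mm pA3 pA2) ((caseAt 0).mm pA2 pA3) &&
    !peq ((caseAt 0).mm pA3 pA2) ((caseAt 0).mm ((caseAt 0).mm pA2 pA3) (cI, 0))) = true := by
  decide +kernel

namespace Amalgam

variable {G : Type*} [Group G] {s : G} {F : Frame s} {y : G}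

theorem kList_tK (A : Amalgam F (caseAt 0) y) {p : Nat × Nat}
    (h : (!allFrom (fun i => !(peq (kP i) p && tK i)) 48 0) = true) :
    okP p = true ∧ val F y p ∈ cC F ∧ IsConj (F.ι cI) (val F y p) := by
  obtain ⟨i, hi, hie⟩ : ∃ i, i < 48 ∧ (peq (kP i) p && tK i) = true := by
    by_contra hc
    push Not at hc
    rw [allFrom_of_forall (p := fun i => !(peq (kP i) p && tK i))
      (fun i _ hi => by
        have := hc i (by omega)
        cases h1 : peq (kP i) p <;> cases h2 : tK i <;> simp_all)] at h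
    simp at h
  rw [Bool.and_eq_true] at hie
  obtain ⟨hp, ht⟩ := hie
  have hp' := Amalgam.peq_spec hp
  subst hp'
  have h := allFrom_spec kList_chk i (Nat.zero_le i) (by omega)
  simp only [Bool.and_eq_true] at h
  obtain ⟨⟨⟨⟨⟨⟨h1, h2⟩, h2'⟩, h4⟩, -⟩, -⟩, h7⟩ := h
  rw [tK, Bool.and_eq_true] at ht
  have h7' := imp_spec h7 ht.1
  simp only [Bool.and_eq_true] at h7'
  have hr := Nat.le_of_ble_eq_true h7'.1.2
  have hc0 : okP (cI, 0) = true := by decide +kernel
  obtain ⟨-, e1⟩ := A.mm_spec h2 h1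
  obtain ⟨-, e2⟩ := A.mm_spec h2' h2
  rw [Amalgam.peq_spec h7'.1.1, e2] at e1
  obtain ⟨-, f1⟩ := A.mm_spec h1 hc0
  obtain ⟨-, f2⟩ := A.mm_spec hc0 h1
  rw [Amalgam.peq_spec h4, f2, ok_L _ hc0] at f1
  refine ⟨h1, mem_cC.mpr f1.symm, ?_⟩
  have hcj : IsConj (val F y (kP i)) (F.ι (kR i)) := isConj_iff.mpr ⟨val F y (kM i), by
    rw [← e1, ok_L _ h2', mul_inv_cancel_right]⟩
  exact (F.isConj_of_cls_eq (by decide) hr
    ((show cls cI = 3 by decide +kernel).trans (Nat.eq_of_beq_eq_true ht.2).symm)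
    (by rw [show cls cI = 3 by decide +kernel]; norm_num)).trans hcj.symm

/-- The extra generator of the second centralizer. -/
structure Fifth (A : Amalgam F (caseAt 0) y) (g : G) : Prop where
  sq : g * g = 1
  comm_c : g * F.ι cI = F.ι cI * g
  comm_1 : g * val F y pA1 = val F y pA1 * g
  comm_2 : g * val F y pA2 = val F y pA2 * g
  cube_3 : val F y pA3 * g * (val F y pA3 * g) * (val F y pA3 * g) = 1
  gen : Subgroup.centralizer ({F.ι cI} : Set G) ≤
    Subgroup.closure {val F y pA1, val F y pA2, val F y pA3, g, F.ι cI}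
  cent : ∀ x : G, x * F.ι cI = F.ι cI * x → x * val F y pA1 = val F y pA1 * x →
    ∃ a ∈ [1, F.ι cI], ∃ b ∈ [1, val F y pA1],
      ∃ c ∈ [1, val F y pA3, g, val F y pA3 * g, g * val F y pA3, val F y pA3 * g * val F y pA3],
        x = a * b * c

theorem exists_fifth [Finite G] (A : Amalgam F (caseAt 0) y) : ∃ g, Fifth A g := by
  classical
  have hk := five_chk
  simp only [Bool.and_eq_true, Bool.not_eq_true'] at hk
  obtain ⟨⟨⟨⟨⟨⟨⟨⟨⟨⟨⟨⟨⟨⟨⟨⟨⟨⟨⟨o1, o2⟩, o3⟩, oc⟩, q1⟩, q2⟩, q3⟩, q13⟩, t1⟩, t2⟩, t3⟩, t1c⟩, t2c⟩,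
    t3c⟩, n13⟩, n13c⟩, n12⟩, n12c⟩, n32⟩, n32c⟩ := hk
  have tk : ∀ {p : Nat × Nat}, allFrom (fun i => !(peq (kP i) p && tK i)) 48 0 = false →
      okP p = true ∧ val F y p ∈ cC F ∧ IsConj (F.ι cI) (val F y p) := fun {p} h =>
    A.kList_tK (by rw [h]; rfl)
  obtain ⟨-, m1, j1⟩ := tk t1
  obtain ⟨-, m2, j2⟩ := tk t2
  obtain ⟨-, m3, j3⟩ := tk t3
  obtain ⟨-, -, j1c⟩ := tk t1c
  obtain ⟨-, -, j2c⟩ := tk t2c
  obtain ⟨-, -, j3c⟩ := tk t3c
  set Z := cC F ⧸ Subgroup.zpowers (cElt F) with hZ
  let π : cC F →* Z := QuotientGroup.mk' _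
  have πsurj : Function.Surjective π := QuotientGroup.mk'_surjective _
  have hker : ∀ x z : cC F, π x = π z → (x : G) = z ∨ (x : G) = (z : G) * F.ι cI := by
    intro x z h
    have h2 := QuotientGroup.eq.mp h.symm
    rw [mem_zc] at h2
    simp only [Subgroup.coe_mul, Subgroup.coe_inv] at h2
    rcases h2 with h2 | h2
    · left; exact (inv_mul_eq_one.mp h2).symm
    · right; exact inv_mul_eq_iff_eq_mul.mp h2
  have hsK : s ∈ cC F := mem_cC.mpr (F.comm_s (by decide : cI < 192)).symm
  set z : Z := π ⟨s, hsK⟩ with hzdef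
  have hc2 : F.ι cI * F.ι cI = 1 := by
    rw [← F.map_mul _ _ (by decide) (by decide), ← F.map_zero]
    exact congrArg F.ι (by decide +kernel)
  have hnc : ¬ IsConj s (F.ι cI) := F.not_isConj_three (by decide) (by decide +kernel)
  rcases A.second_quotient with h4 | h5
  · exfalso
    obtain ⟨e⟩ := h4
    apply A.card_second_ne
    rw [Subgroup.card_eq_card_quotient_mul_card_subgroup (Subgroup.zpowers (cElt F)),
      Nat.card_congr e.toEquiv, Nat.card_perm, Nat.card_fin, Nat.card_zpowers,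
      ← Subgroup.orderOf_coe]
    rw [show orderOf ((cElt F : cC F) : G) = 2 from
      (F.orderOf_two (by decide : cI < 192)).mpr (by decide +kernel)]
    rfl
  obtain ⟨ψ⟩ := h5
  -- transpositions
  have hzz : ψ z * ψ z = 1 := by
    rw [← map_mul, hzdef, ← map_mul, ← map_one ψ, ← map_one π]
    refine congrArg ψ (congrArg π (Subtype.ext ?_))
    show s * s = 1
    have := pow_orderOf_eq_one s
    rwa [F.orderOf_s, pow_two] at this
  have hzne : z ≠ 1 := by
    intro e
    rcases hker _ 1 (e.trans (map_one π).symm) with h | h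
    · have h' : s = 1 := h
      have := F.orderOf_s
      rw [orderOf_eq_one_iff.mpr h'] at this
      omega
    · have h' : s = F.ι cI := by simpa using h
      exact hnc (h' ▸ IsConj.refl _)
  have hcent_z : (Finset.univ.filter fun τ : P5 => τ * ψ z = ψ z * τ).card = 8 := by
    have hcard : Nat.card {τ : P5 // τ * ψ z = ψ z * τ} = 8 := by
      have e1 : Nat.card {τ : P5 // τ * ψ z = ψ z * τ} =
          Nat.card {x : Z // x * z = z * x} :=
        Nat.card_congr (ψ.toEquiv.subtypeEquiv fun x => by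
          show x * z = z * x ↔ ψ x * ψ z = ψ z * ψ x
          rw [← map_mul, ← map_mul, ψ.injective.eq_iff]).symm
      rw [e1]
      -- the centralizer of `z` is the image of the centralizer of order 16
      have hcC : ∀ a, a < 192 → commB a cI = true → F.ι a ∈ cC F := fun a ha h => commB_mem ha h
      have hrange : ∀ x : Z, x * z = z * x ↔ ∃ d : DihedralGroup 4, x = π ⟨F.ι (dRep d),
          hcC _ (Nat.le_of_ble_eq_true (by
            have h := dih_chk d d
            simp only [Bool.and_eq_true] at h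
            exact h.1.1.2)) (by
            have h := dih_chk d d
            simp only [Bool.and_eq_true] at h
            exact h.1.1.1)⟩ := by
        intro x
        have hlt : ∀ d, dRep d < 192 := fun d => Nat.le_of_ble_eq_true (by
            have h := dih_chk d d
            simp only [Bool.and_eq_true] at h
            exact h.1.1.2)
        constructor
        · intro hx
          obtain ⟨u, rfl⟩ := πsurj x
          have hx' : π (u * ⟨s, hsK⟩ * u⁻¹) = π ⟨s, hsK⟩ := by
            rw [map_mul, map_mul, map_inv, ← hzdef, hx, mul_inv_cancel_right]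
          have hus : (u : G) * s * (u : G)⁻¹ = s := by
            rcases hker _ _ hx' with h | h
            · exact h
            · exfalso
              refine F.not_isConj_three (mul_lt (by decide : sI < 192) (by decide : cI < 192))
                (by decide +kernel) (isConj_iff.mpr ⟨u, ?_⟩)
              rw [F.map_mul _ _ (by decide) (by decide), F.map_s]; exact h
          obtain ⟨a, ha, hae⟩ := F.surj _ (mul_inv_eq_iff_eq_mul.mp hus)
          have hac : commB a cI = true := (F.commB_iff ha (by decide)).mpr (by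
            rw [hae]; exact mem_cC.mp u.2)
          have h := imp_spec (allL_spec dih_surj_chk ha) hac
          obtain ⟨i, hi, hie⟩ : ∃ i, i < 8 ∧ eqModC a (dReps.getD i 0) = true := by
            by_contra hcon
            push Not at hcon
            rw [allFrom_of_forall (p := fun i => !eqModC a (dReps.getD i 0))
              (fun i _ hi => by simpa using hcon i (by omega))] at h
            simp at h
          obtain ⟨d, hd⟩ : ∃ d, dRep d = dReps.getD i 0 := by
            by_cases h4 : i < 4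
            · exact ⟨.r (i : ZMod 4), by simp [dRep, ZMod.val_natCast, Nat.mod_eq_of_lt h4]⟩
            · exact ⟨.sr ((i - 4 : ℕ) : ZMod 4), by
                simp [dRep, ZMod.val_natCast, Nat.mod_eq_of_lt (by omega : i - 4 < 4),
                  Nat.add_sub_cancel' (by omega : 4 ≤ i)]⟩
          rw [← hd] at hie
          refine ⟨d, ?_⟩
          rw [show u = ⟨F.ι a, hcC a ha hac⟩ from Subtype.ext hae.symm]
          exact (eqModC_iff F ha (hlt d) _ _).mp hie
        · rintro ⟨d, rfl⟩
          rw [hzdef, ← map_mul, ← map_mul]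
          exact congrArg π (Subtype.ext (F.comm_s (hlt d)))
      have hlt : ∀ d, dRep d < 192 := fun d => Nat.le_of_ble_eq_true (by
          have h := dih_chk d d
          simp only [Bool.and_eq_true] at h
          exact h.1.1.2)
      have hdc : ∀ d, F.ι (dRep d) ∈ cC F := fun d => commB_mem (hlt d) (by
          have h := dih_chk d d
          simp only [Bool.and_eq_true] at h
          exact h.1.1.1)
      rw [show 8 = Nat.card (DihedralGroup 4) by rw [DihedralGroup.nat_card]]
      refine (Nat.card_congr (Equiv.ofBijective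
        (fun d => ⟨π ⟨F.ι (dRep d), hdc d⟩, (hrange _).mpr ⟨d, rfl⟩⟩) ⟨?_, ?_⟩)).symm
      · intro d e h
        have h' := (eqModC_iff F (hlt d) (hlt e) (hdc d) (hdc e)).mpr (congrArg Subtype.val h)
        exact (show ∀ d e : DihedralGroup 4, eqModC (dRep d) (dRep e) = true → d = e by
          decide +kernel) d e h'
      · rintro ⟨x, hx⟩
        obtain ⟨d, hd⟩ := (hrange x).mp hx
        exact ⟨d, Subtype.ext hd.symm⟩
    rw [Nat.card_eq_fintype_card, Fintype.card_subtype] at hcard
    convert hcard using 2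
  have hzd : ∃ ρ : P5, ρ * dbl * ρ⁻¹ = ψ z := by
    rcases invol_five (ψ z) hzz (fun e => hzne (ψ.injective (e.trans (map_one ψ).symm))) with h | h
    · have := swap_cent _ h
      omega
    · exact h
  -- an involution of the quotient whose lifts are not conjugates of the centre is a transposition
  have isSwap : ∀ (p : Nat × Nat) (hp : val F y p ∈ cC F), okP p = true →
      IsConj (F.ι cI) (val F y p) → IsConj (F.ι cI) (val F y p * F.ι cI) →
      val F y p * val F y p = 1 → ψ (π ⟨_, hp⟩) ∈ swaps := by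
    intro p hp ho hj hjc hsq
    have h1 : ψ (π ⟨_, hp⟩) * ψ (π ⟨_, hp⟩) = 1 := by
      rw [← map_mul, ← map_mul, ← map_one ψ, ← map_one π]
      exact congrArg ψ (congrArg π (Subtype.ext hsq))
    have h2 : ψ (π ⟨_, hp⟩) ≠ 1 := by
      intro e
      rcases hker _ 1 ((ψ.injective (e.trans (map_one ψ).symm)).trans (map_one π).symm) with h | h
      · simp only [Subgroup.coe_one] at h
        have hord : orderOf (val F y p) = 2 := by
          obtain ⟨k, hk⟩ := isConj_iff.mp hj
          rw [← hk]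
          exact ((MulAut.conj k).orderOf_eq _).trans ((F.orderOf_two (by decide)).mpr (by decide +kernel))
        rw [h, orderOf_one] at hord; omega
      · simp only [Subgroup.coe_one, one_mul] at h
        rw [h, hc2] at hjc
        obtain ⟨k, hk⟩ := isConj_iff.mp hjc
        have := (MulAut.conj k).orderOf_eq (F.ι cI)
        rw [MulAut.conj_apply, hk, orderOf_one, (F.orderOf_two (by decide)).mpr (by decide +kernel)] at this
        omega
    rcases invol_five _ h1 h2 with h | ⟨ρ, hρ⟩
    · exact h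
    exfalso
    obtain ⟨ρ', hρ'⟩ := hzd
    obtain ⟨u, hu⟩ := πsurj (ψ.symm (ρ * ρ'⁻¹))
    have he : π (u * ⟨s, hsK⟩ * u⁻¹) = π ⟨_, hp⟩ := by
      apply ψ.injective
      rw [map_mul, map_mul, map_inv, map_mul, map_mul, map_inv, ← hzdef, hu, ψ.apply_symm_apply,
        ← hρ, ← hρ']
      group
    rcases hker _ _ he with h | h
    · exact hnc ((isConj_iff.mpr ⟨u, h⟩ : IsConj s _).trans hj.symm)
    · exact hnc ((isConj_iff.mpr ⟨u, h⟩ : IsConj s _).trans hjc.symm)
  have val_c : val F y (cI, 0) = F.ι cI := ok_L _ oc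
  have sq_of : ∀ {p}, okP p = true → peq ((caseAt 0).mm p p) (0, 0) = true →
      val F y p * val F y p = 1 := fun {p} ho h => by
    rw [← (A.mm_spec ho ho).2, Amalgam.peq_spec h]; simp [val, F.map_zero]
  have mulc : ∀ {p}, okP p = true → val F y ((caseAt 0).mm p (cI, 0)) = val F y p * F.ι cI :=
    fun {p} ho => by rw [(A.mm_spec ho oc).2, val_c]
  rw [mulc o1] at j1c; rw [mulc o2] at j2c; rw [mulc o3] at j3c
  have sP := isSwap _ m1 o1 j1 j1c (sq_of o1 q1)
  have sQ := isSwap _ m2 o2 j2 j2c (sq_of o2 q2)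
  have sR := isSwap _ m3 o3 j3 j3c (sq_of o3 q3)
  set p := ψ (π ⟨_, m1⟩) with hp
  set q := ψ (π ⟨_, m2⟩) with hq
  set r := ψ (π ⟨_, m3⟩) with hr
  have peq_self : ∀ a : Nat × Nat, peq a a = true := fun a => by simp [peq]
  have ne_of : ∀ {u v : Nat × Nat}, okP u = true → okP v = true → peq u v = false →
      val F y u ≠ val F y v := fun {u v} hu hv h e => by
    rw [A.val_inj hu hv e, peq_self] at h; simp at h
  have o12 := A.mm_spec o1 o2
  have o21 := A.mm_spec o2 o1
  have o32 := A.mm_spec o3 o2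
  have o23 := A.mm_spec o2 o3
  have pr : p * r = r * p := by
    rw [hp, hr, ← map_mul, ← map_mul, ← map_mul, ← map_mul]
    refine congrArg ψ (congrArg π (Subtype.ext ?_))
    show val F y pA1 * val F y pA3 = val F y pA3 * val F y pA1
    rw [← (A.mm_spec o1 o3).2, ← (A.mm_spec o3 o1).2, Amalgam.peq_spec q13]
  have pner : p ≠ r := by
    intro e
    rcases hker _ _ (ψ.injective e) with h | h
    · exact ne_of o1 o3 n13 h
    · exact ne_of o1 (A.mm_spec o3 oc).1 n13c (by rw [mulc o3]; exact h)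
  have pq : p * q ≠ q * p := by
    intro e
    rw [hp, hq, ← map_mul, ← map_mul, ← map_mul, ← map_mul] at e
    rcases hker _ _ (ψ.injective e) with h | h
    · exact ne_of o12.1 o21.1 n12 (by rw [o12.2, o21.2]; exact h)
    · exact ne_of o12.1 (A.mm_spec o21.1 oc).1 n12c (by rw [mulc o21.1, o12.2, o21.2]; exact h)
  have qr : q * r ≠ r * q := by
    intro e
    rw [hq, hr, ← map_mul, ← map_mul, ← map_mul, ← map_mul] at e
    rcases hker _ _ (ψ.injective e.symm) with h | h
    · exact ne_of o32.1 o23.1 n32 (by rw [o32.2, o23.2]; exact h)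
    · exact ne_of o32.1 (A.mm_spec o23.1 oc).1 n32c (by rw [mulc o23.1, o32.2, o23.2]; exact h)
  obtain ⟨w, hw, wp, wq, rw3, wnp, wnq, hall, hcent⟩ := five_frame p sP q sQ r sR pr pner pq qr
  -- lift the fourth transposition
  obtain ⟨ρ, hρ⟩ := swaps_conj p sP w hw
  obtain ⟨u, hu⟩ := πsurj (ψ.symm ρ)
  have hcc : F.ι cI ∈ cC F := mem_cC.mpr rfl
  have hg0 : ψ (π (u * ⟨_, m1⟩ * u⁻¹)) = w := by
    rw [map_mul, map_mul, map_inv, map_mul, map_mul, map_inv, hu, ψ.apply_symm_apply, ← hp, hρ]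
  set g0 : cC F := u * ⟨_, m1⟩ * u⁻¹ with hg0d
  have g0sq : g0 * g0 = 1 := by
    rw [hg0d, conj_mul, show (⟨_, m1⟩ : cC F) * ⟨_, m1⟩ = 1 from Subtype.ext (sq_of o1 q1)]
    group
  have cC_c : ∀ x : cC F, (x : G) * F.ι cI = F.ι cI * x := fun x => mem_cC.mp x.2
  -- the cube
  obtain ⟨gK, hgπ, hgsq, hg3⟩ : ∃ gK : cC F, ψ (π gK) = w ∧ gK * gK = 1 ∧
      (⟨_, m3⟩ * gK : cC F) * (⟨_, m3⟩ * gK) * (⟨_, m3⟩ * gK) = 1 := by
    have h : π ((⟨_, m3⟩ * g0 : cC F) * (⟨_, m3⟩ * g0) * (⟨_, m3⟩ * g0)) = π 1 := by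
      apply ψ.injective
      simp only [map_mul, map_one, hg0, ← hr]
      exact rw3
    rcases hker _ _ h with h | h
    · exact ⟨g0, hg0, g0sq, Subtype.ext h⟩
    · refine ⟨g0 * cElt F, ?_, ?_, ?_⟩
      · have : π (cElt F) = 1 := (QuotientGroup.eq_one_iff _).mpr (Subgroup.mem_zpowers _)
        rw [map_mul, this, mul_one, hg0]
      · apply Subtype.ext
        show (g0 : G) * F.ι cI * ((g0 : G) * F.ι cI) = 1
        calc _ = (g0 : G) * (F.ι cI * (g0 : G)) * F.ι cI := by group
          _ = ((g0 : G) * g0) * (F.ι cI * F.ι cI) := by rw [← cC_c g0]; group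
          _ = 1 := by rw [hc2, mul_one]; exact congrArg Subtype.val g0sq
      · apply Subtype.ext
        simp only [Subgroup.coe_mul, Subgroup.coe_one, one_mul] at h ⊢
        show val F y pA3 * ((g0 : G) * F.ι cI) * (val F y pA3 * ((g0 : G) * F.ι cI)) *
          (val F y pA3 * ((g0 : G) * F.ι cI)) = 1
        have hx : Commute (val F y pA3 * g0) (F.ι cI) :=
          Commute.mul_left (mem_cC.mp m3) (cC_c g0)
        simp only [← mul_assoc (val F y pA3) (g0 : G) (F.ι cI)]
        calc val F y pA3 * g0 * F.ι cI * (val F y pA3 * g0 * F.ι cI) * (val F y pA3 * g0 * F.ι cI)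
            = ((val F y pA3 * g0 * F.ι cI) ^ 3) := by rw [pow_succ, pow_two]
          _ = (val F y pA3 * g0) ^ 3 * F.ι cI ^ 3 := hx.mul_pow 3
          _ = 1 := by
            rw [pow_succ (val F y pA3 * g0), pow_two, h, pow_succ (F.ι cI), pow_two, hc2, one_mul, hc2]
  -- commuting with the first two
  have comm : ∀ (a : Nat × Nat) (ha : val F y a ∈ cC F), okP a = true →
      val F y a * val F y a = 1 → ψ (π ⟨_, ha⟩) ∈ swaps → w * ψ (π ⟨_, ha⟩) = ψ (π ⟨_, ha⟩) * w →
      w ≠ ψ (π ⟨_, ha⟩) → (gK : G) * val F y a = val F y a * gK := by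
    intro a ha ho hsq hs hwc hwne
    set x := ψ (π ⟨_, ha⟩) with hx
    obtain ⟨e1, e2, e3⟩ := swaps_mul_comm w hw x hs hwc hwne
    obtain ⟨ρ, hρ⟩ := (invol_five _ e1 e2).resolve_left e3
    obtain ⟨ρ', hρ'⟩ := hzd
    obtain ⟨v, hv⟩ := πsurj (ψ.symm (ρ * ρ'⁻¹))
    have he : π (gK * ⟨_, ha⟩) = π (v * ⟨s, hsK⟩ * v⁻¹) := by
      apply ψ.injective
      simp only [map_mul, map_inv]
      rw [hgπ, ← hx, ← hzdef, hv, ψ.apply_symm_apply, ← hρ, ← hρ']
      group
    set t := (v : G) * s * (v : G)⁻¹ with ht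
    have ht2 : t * t = 1 := by
      rw [ht, conj_mul]
      have := pow_orderOf_eq_one s
      rw [F.orderOf_s, pow_two] at this
      rw [this]; group
    have hsq2 : (gK : G) * val F y a * ((gK : G) * val F y a) = 1 := by
      rcases hker _ _ he with h | h
      · simp only [Subgroup.coe_mul, Subgroup.coe_inv] at h
        rw [h]; exact ht2
      · simp only [Subgroup.coe_mul, Subgroup.coe_inv] at h
        rw [h, ← ht]
        have htc : F.ι cI * t = t * F.ι cI := by
          have := cC_c (v * ⟨s, hsK⟩ * v⁻¹)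
          simp only [Subgroup.coe_mul, Subgroup.coe_inv] at this
          exact this.symm
        calc t * F.ι cI * (t * F.ι cI) = t * (F.ι cI * t) * F.ι cI := by group
          _ = (t * t) * (F.ι cI * F.ι cI) := by rw [htc]; group
          _ = 1 := by rw [ht2, hc2, one_mul]
    have hgg : (gK : G) * gK = 1 := congrArg Subtype.val hgsq
    calc (gK : G) * val F y a = ((gK : G) * val F y a)⁻¹ := (inv_eq_of_mul_eq_one_left hsq2).symm
      _ = _ := by rw [mul_inv_rev, inv_eq_of_mul_eq_one_left hsq, inv_eq_of_mul_eq_one_left hgg]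
  refine ⟨gK, congrArg Subtype.val hgsq, cC_c gK, comm _ m1 o1 (sq_of o1 q1) sP wp wnp,
    comm _ m2 o2 (sq_of o2 q2) sQ wq wnq, congrArg Subtype.val hg3, ?_, ?_⟩
  · intro x hx
    set H := Subgroup.closure ({val F y pA1, val F y pA2, val F y pA3, (gK : G), F.ι cI} : Set G)
    set Hc := H.subgroupOf (cC F) with hHc
    have inH : ∀ b : cC F, (b : G) ∈ ({val F y pA1, val F y pA2, val F y pA3, (gK : G), F.ι cI} : Set G) →
        b ∈ Hc := fun b hb => Subgroup.subset_closure hb
    have htop : (Hc.map π).map ψ.toMonoidHom = ⊤ := by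
      rw [← top_le_iff, ← Equiv.Perm.closure_isSwap, Subgroup.closure_le]
      rintro x ⟨a, b, hab, rfl⟩
      have hx : Equiv.swap a b ∈ swaps :=
        (show ∀ a b : Fin 5, a ≠ b → Equiv.swap a b ∈ swaps by decide +kernel) a b hab
      have hmem : ∀ e : cC F, e ∈ Hc → ψ (π e) ∈ (Hc.map π).map ψ.toMonoidHom :=
        fun e he => ⟨_, ⟨e, he, rfl⟩, rfl⟩
      have hP : p ∈ (Hc.map π).map ψ.toMonoidHom := hmem _ (inH _ (by simp))
      have hQ : q ∈ (Hc.map π).map ψ.toMonoidHom := hmem _ (inH _ (by simp))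
      have hR : r ∈ (Hc.map π).map ψ.toMonoidHom := hmem _ (inH _ (by simp))
      have hW : w ∈ (Hc.map π).map ψ.toMonoidHom := hgπ ▸ hmem _ (inH _ (by simp))
      have := hall _ hx
      simp only [swapWords, List.mem_cons, List.not_mem_nil, or_false] at this
      rcases this with e | e | e | e | e | e | e | e | e | e <;> rw [e] <;>
        first
          | assumption
          | exact mul_mem (mul_mem hQ hP) hQ
          | exact mul_mem (mul_mem hR hQ) hR
          | exact mul_mem (mul_mem hW hR) hW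
          | exact mul_mem (mul_mem (mul_mem (mul_mem hR hQ) hP) hQ) hR
          | exact mul_mem (mul_mem (mul_mem (mul_mem hW hR) hQ) hR) hW
          | exact mul_mem (mul_mem (mul_mem (mul_mem (mul_mem (mul_mem hW hR) hQ) hP) hQ) hR) hW
    obtain ⟨_, ⟨e, he, rfl⟩, hee⟩ : ψ (π ⟨x, hx⟩) ∈ (Hc.map π).map ψ.toMonoidHom :=
      htop ▸ Subgroup.mem_top _
    have he' : (e : G) ∈ H := he
    rcases hker ⟨x, hx⟩ e (ψ.injective hee.symm) with h | h
    · rw [show x = (e : G) from h]; exact he'
    · rw [show x = (e : G) * F.ι cI from h]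
      exact mul_mem he' (Subgroup.subset_closure (by simp))
  · intro x hxc hx1
    set e : cC F := ⟨x, mem_cC.mpr hxc⟩ with he
    have hcw : ψ (π e) ∈ centWords p r w := by
      refine hcent _ ?_
      rw [hp, ← map_mul, ← map_mul, ← map_mul, ← map_mul]
      exact congrArg ψ (congrArg π (Subtype.ext hx1))
    have key : ∀ b c : cC F, ψ (π e) = ψ (π b) * ψ (π c) →
        x = 1 * b * c ∨ x = F.ι cI * b * c := by
      intro b c h
      rw [← map_mul, ← map_mul] at h
      rcases hker _ _ (ψ.injective h) with h | h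
      · left; rw [one_mul]; exact h
      · right
        refine (show x = ((b * c : cC F) : G) * F.ι cI from h).trans ?_
        rw [cC_c]; simp [mul_assoc]
    have fin : ∀ (b : cC F), (b : G) ∈ [1, val F y pA1] → ∀ c : cC F,
        (c : G) ∈ [1, val F y pA3, (gK : G), val F y pA3 * gK, gK * val F y pA3,
          val F y pA3 * gK * val F y pA3] → ψ (π e) = ψ (π b) * ψ (π c) →
        ∃ a ∈ [1, F.ι cI], ∃ b ∈ [1, val F y pA1],
          ∃ c ∈ [1, val F y pA3, (gK : G), val F y pA3 * gK, gK * val F y pA3,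
            val F y pA3 * gK * val F y pA3], x = a * b * c := by
      intro b hb c hc h
      rcases key b c h with h | h
      · exact ⟨1, by simp, _, hb, _, hc, h⟩
      · exact ⟨F.ι cI, by simp, _, hb, _, hc, h⟩
    have h1 : ψ (π 1) = 1 := by rw [map_one, map_one]
    set R3 : cC F := ⟨_, m3⟩ with hR3
    simp only [centWords, List.mem_cons, List.not_mem_nil, or_false] at hcw
    rcases hcw with h | h | h | h | h | h | h | h | h | h | h | h
    · exact fin 1 (by simp) 1 (by simp) (by rw [h, h1, one_mul])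
    · exact fin 1 (by simp) R3 (by simp [hR3]) (by rw [h, h1, one_mul, ← hr])
    · exact fin 1 (by simp) gK (by simp) (by rw [h, h1, one_mul, hgπ])
    · exact fin 1 (by simp) (R3 * gK) (by simp [hR3]) (by rw [h, h1, one_mul, map_mul, map_mul, ← hr, hgπ])
    · exact fin 1 (by simp) (gK * R3) (by simp [hR3]) (by rw [h, h1, one_mul, map_mul, map_mul, ← hr, hgπ])
    · exact fin 1 (by simp) (R3 * gK * R3) (by simp [hR3]) (by rw [h, h1, one_mul]; simp only [map_mul, ← hr, hgπ])
    · exact fin ⟨_, m1⟩ (by simp) 1 (by simp) (by rw [h, h1, ← hp])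
    · exact fin ⟨_, m1⟩ (by simp) R3 (by simp [hR3]) (by rw [h, ← hp, ← hr])
    · exact fin ⟨_, m1⟩ (by simp) gK (by simp) (by rw [h, ← hp, hgπ])
    · exact fin ⟨_, m1⟩ (by simp) (R3 * gK) (by simp [hR3]) (by rw [h, map_mul, map_mul, ← hr, ← hp, hgπ])
    · exact fin ⟨_, m1⟩ (by simp) (gK * R3) (by simp [hR3]) (by rw [h, map_mul, map_mul, ← hr, ← hp, hgπ])
    · exact fin ⟨_, m1⟩ (by simp) (R3 * gK * R3) (by simp [hR3]) (by rw [h]; simp only [map_mul, ← hr, ← hp, hgπ])

end Amalgam

end Cfsg.Agent.H80.M12
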