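import Cfsg.Agent.H80.M12.Checks

/-! Identifications of an involution centralizer with the table group. -/

set_option autoImplicit false

namespace Cfsg.Agent.H80.M12

open Cfsg.Agent.H16

theorem allL_spec {p : Nat → Bool} (h : allL p = true) {a : Nat} (ha : a < 192) : p a = true :=
  allFrom_spec h a (Nat.zero_le a) (by omega)

theorem allT_spec {p : Nat → Bool} (h : allT p = true) {a : Nat} (ha : a < 192)
    (hT : memT a = true) : p a = true := by
  have := allFrom_spec h a (Nat.zero_le a) (by omega)
  simpa [hT] using this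

theorem allFrom_of_forall {p : Nat → Bool} : ∀ {n lo : Nat},
    (∀ i, lo ≤ i → i < lo + n → p i = true) → allFrom p n lo = true
  | 0, _, _ => rfl
  | n + 1, lo, h => by
    rw [allFrom_succ, h lo le_rfl (by omega),
      allFrom_of_forall (lo := lo + 1) (fun i h1 h2 => h i (by omega) (by omega))]
    rfl

theorem anyL_spec {p : Nat → Bool} (h : anyL p = true) : ∃ a, a < 192 ∧ p a = true := by
  by_contra hc
  push Not at hc
  have : allL (fun i => !p i) = true := allFrom_of_forall fun i _ hi => by
    have h1 := hc i (by omega)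
    cases hp : p i <;> simp_all
  rw [anyL, this] at h
  simp at h

theorem imp_spec {a b : Bool} (h : imp a b = true) (ha : a = true) : b = true := by
  subst ha; simpa [imp] using h

theorem beq_false {m n : Nat} (h : m ≠ n) : Nat.beq m n = false := by
  cases hb : Nat.beq m n with
  | true => exact absurd (Nat.eq_of_beq_eq_true hb) h
  | false => rfl

theorem beq_true {m n : Nat} (h : m = n) : Nat.beq m n = true := by
  subst h; exact Nat.beq_refl _

theorem mul_lt {a b : Nat} (ha : a < 192) (hb : b < 192) : mul a b < 192 :=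
  Nat.le_of_ble_eq_true (allL_spec (allL_spec mul_lt_chk ha) hb)

theorem inv_lt {a : Nat} (ha : a < 192) : inv a < 192 := by
  have := allL_spec inv_chk ha
  simp only [Bool.and_eq_true] at this
  exact Nat.le_of_ble_eq_true this.1.1.1

theorem mul_inv' {a : Nat} (ha : a < 192) : mul a (inv a) = 0 := by
  have := allL_spec inv_chk ha
  simp only [Bool.and_eq_true] at this
  exact Nat.eq_of_beq_eq_true this.1.1.2

theorem conj_lt {a b : Nat} (ha : a < 192) (hb : b < 192) : conj a b < 192 :=
  mul_lt (mul_lt ha hb) (inv_lt ha)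

/-- An identification of the centralizer of `s` with the table group. -/
structure Frame {G : Type*} [Group G] (s : G) where
  /-- the map on the table group -/
  ι : Nat → G
  map_mul : ∀ a b, a < 192 → b < 192 → ι (mul a b) = ι a * ι b
  inj : ∀ a b, a < 192 → b < 192 → ι a = ι b → a = b
  surj : ∀ x, x * s = s * x → ∃ a, a < 192 ∧ ι a = x
  map_s : ι sI = s

namespace Frame

variable {G : Type*} [Group G] {s : G} (F : Frame s)

theorem map_zero : F.ι 0 = 1 := by
  have h := F.map_mul 0 0 (by norm_num) (by norm_num)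
  rw [show mul 0 0 = 0 by decide +kernel] at h
  exact mul_left_cancel (a := F.ι 0) (by rw [mul_one, ← h])

theorem map_inv {a : Nat} (ha : a < 192) : F.ι (inv a) = (F.ι a)⁻¹ := by
  rw [eq_inv_iff_mul_eq_one, mul_eq_one_comm, ← F.map_mul a _ ha (inv_lt ha), mul_inv' ha,
    F.map_zero]

theorem map_conj {h a : Nat} (hh : h < 192) (ha : a < 192) :
    F.ι (conj h a) = F.ι h * F.ι a * (F.ι h)⁻¹ := by
  rw [conj, F.map_mul _ _ (mul_lt hh ha) (inv_lt hh), F.map_mul h a hh ha, F.map_inv hh]

theorem commB_iff {a b : Nat} (ha : a < 192) (hb : b < 192) :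
    commB a b = true ↔ F.ι a * F.ι b = F.ι b * F.ι a := by
  rw [commB, ← F.map_mul a b ha hb, ← F.map_mul b a hb ha]
  exact ⟨fun h => congrArg F.ι (Nat.eq_of_beq_eq_true h),
    fun h => by rw [F.inj _ _ (mul_lt ha hb) (mul_lt hb ha) h]; exact Nat.beq_refl _⟩

theorem comm_s {a : Nat} (ha : a < 192) : F.ι a * s = s * F.ι a := by
  have := allL_spec central_chk ha
  simp only [Bool.and_eq_true] at this
  have h := (F.commB_iff ha (by decide : sI < 192)).mp this.1.1.1.1
  rwa [F.map_s] at h

theorem mem_centralizer {x : G} :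
    x ∈ Subgroup.centralizer ({s} : Set G) ↔ ∃ a, a < 192 ∧ F.ι a = x := by
  rw [Subgroup.mem_centralizer_singleton_iff]
  constructor
  · intro h
    first
      | exact F.surj x h
      | exact F.surj x h.symm
  · rintro ⟨a, ha, rfl⟩
    first
      | exact F.comm_s ha
      | exact (F.comm_s ha).symm

theorem orderOf_two {a : Nat} (ha : a < 192) :
    orderOf (F.ι a) = 2 ↔ cls a ≠ 0 := by
  have h := allL_spec cls_chk ha
  rw [orderOf_eq_prime_iff]
  cases hc : Nat.beq (cls a) 0 with
  | true =>
    have hc' : cls a = 0 := Nat.eq_of_beq_eq_true hc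
    simp only [hc, Bool.not_true, Bool.or_eq_true, Bool.not_eq_true'] at h
    simp only [hc', ne_eq, not_true_eq_false, iff_false, not_and, not_not]
    intro hsq
    rw [pow_two, ← F.map_mul a a ha ha, ← F.map_zero] at hsq
    have h0 := F.inj _ _ (mul_lt ha ha) (by norm_num) hsq
    rcases h with h | h
    · simp [h0] at h
    · rw [Nat.eq_of_beq_eq_true h, F.map_zero]
  | false =>
    simp only [hc, Bool.not_false, Bool.and_eq_true, Bool.not_eq_true'] at h
    have hc' : cls a ≠ 0 := fun e => by simp [e] at hc
    simp only [ne_eq, hc', not_false_eq_true, iff_true]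
    refine ⟨?_, fun e => ?_⟩
    · rw [pow_two, ← F.map_mul a a ha ha, Nat.eq_of_beq_eq_true h.1.1.1, F.map_zero]
    · rw [← F.map_zero] at e
      simp [F.inj a 0 ha (by norm_num) e] at h

theorem isConj_of_cls_eq {a b : Nat} (ha : a < 192) (hb : b < 192) (h : cls a = cls b)
    (h0 : cls a ≠ 0) : IsConj (F.ι a) (F.ι b) := by
  have rep : ∀ c, c < 192 → cls c ≠ 0 → IsConj (F.ι (if cls c = 1 then sI else
      if cls c = 2 then eI else if cls c = 3 then cI else sigI)) (F.ι c) := by
    intro c hc hc0
    have h1 := allL_spec cls_chk hc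
    have h2 := allL_spec class_conj_chk hc
    have hb0 : Nat.beq (cls c) 0 = false := beq_false hc0
    simp only [hb0, Bool.not_false, Bool.and_eq_true, Bool.or_eq_true, Bool.not_eq_true'] at h1 h2
    have h4 : cls c ≤ 4 := Nat.le_of_ble_eq_true h1.1.2
    have conj' : ∀ r, r < 192 → (∃ k, k < 192 ∧ Nat.beq (conj k r) c = true) →
        IsConj (F.ι r) (F.ι c) := by
      rintro r hr ⟨k, hk, hkc⟩
      rw [← Nat.eq_of_beq_eq_true hkc, F.map_conj hk hr]
      exact isConj_iff.mpr ⟨F.ι k, rfl⟩
    interval_cases hq : cls c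
    · exact absurd rfl hc0
    · rw [if_pos rfl]
      rcases h1.2 with h3 | h3
      · rw [Nat.eq_of_beq_eq_true h3]
      · simp at h3
    · rw [if_neg (by decide), if_pos rfl]
      exact conj' _ (by decide) (anyL_spec (imp_spec h2.1.1 (Nat.beq_refl _)))
    · rw [if_neg (by decide), if_neg (by decide), if_pos rfl]
      exact conj' _ (by decide) (anyL_spec (imp_spec h2.1.2 (Nat.beq_refl _)))
    · rw [if_neg (by decide), if_neg (by decide), if_neg (by decide)]
      exact conj' _ (by decide) (anyL_spec (imp_spec h2.2 (Nat.beq_refl _)))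
  have := rep a ha h0
  rw [h] at this
  exact this.symm.trans (rep b hb (h ▸ h0))

end Frame

end Cfsg.Agent.H80.M12
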