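import Cfsg.Agent.H80.M12.Five
import Cfsg.Agent.H80.M12.CertIndex

/-! Generators satisfying the relators of the certified coset enumerations. -/

set_option autoImplicit false
set_option maxRecDepth 8000
set_option maxHeartbeats 1000000

namespace Cfsg.Agent.H80.M12

open Cfsg.Agent.H16 Cfsg.Agent.H68.J1
open Cfsg.Agent.H68.J1.Cert (ev)

/-- the inverse word -/
def invW (w : List Nat) : List Nat := (w.map inv_letter).reverse
where
  /-- inverse letter -/
  inv_letter (l : Nat) : Nat := H68.J1.inv l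

/-- word of a normal form -/
noncomputable def wordP (p : Nat × Nat) : List Nat := lWords.get p.1 ++ List.replicate p.2 4

/-- word carrying the pair of involutions to itself -/
noncomputable def hWord : List Nat := wordP hStep1 ++ wordP hStep2 ++ wordP hStep3

/-- words of the centralizer of two involutions -/
noncomputable def qWord (i : Nat) : List Nat :=
  (if i < 12 then [] else wordP (cI, 0)) ++ (if i % 12 < 6 then [] else wordP pA1) ++
    [[], wordP pA3, [6], wordP pA3 ++ [6], [6] ++ wordP pA3, wordP pA3 ++ [6] ++ wordP pA3].getD (i % 6) []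

/-- conjugation relator of the element of order three -/
noncomputable def yRel (x : Nat) : List Nat :=
  [4] ++ lWords.get x ++ [5] ++ invW (lWords.get (app (caseAt 0).tab x))

/-- commutation relator of the fifth transposition -/
noncomputable def gRel (p : Nat × Nat) : List Nat := [6] ++ wordP p ++ [6] ++ invW (wordP p)

/-- The relators. -/
noncomputable def relWords (i : Nat) : List (List Nat) :=
  lRels ++
  [[4, 4, 4], yRel gX, yRel gY, yRel gZ, [4] ++ lWords.get hhI ++ [4] ++ lWords.get hhI,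
    [6, 6], gRel (cI, 0), gRel pA1, gRel pA2,
    (wordP pA3 ++ [6]) ++ (wordP pA3 ++ [6]) ++ (wordP pA3 ++ [6]),
    hWord ++ [6] ++ invW hWord ++ invW (qWord i)]

theorem words_chk : allFrom (fun i =>
    allFrom (fun k => natListEq ((certAt i).words.get k) ((relWords i).getD k [9])) 15 0 &&
    natListEq ((certAt i).words.get 15) [0] && natListEq ((certAt i).words.get 16) [2] &&
    allFrom (fun k => natListEq ((certAt i).words.get k) [] ||
      !allFrom (fun l => !natListEq ((certAt i).words.get k) [l, H68.J1.inv l]) 8 0) 9 17) 24 0 = true := by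
  decide +kernel

theorem base_words_chk : (allFrom (fun k => natListEq (certL.words.get k)
      ((lRels ++ [[4], [6]]).getD k [9])) 6 0 &&
    allFrom (fun k => natListEq (certL.words.get k) [] ||
      !allFrom (fun l => !natListEq (certL.words.get k) [l, H68.J1.inv l]) 8 0) 9 6) = true := by
  decide +kernel

theorem letters_chk : allL (fun a => List.rec (motive := fun _ => Bool) true
    (fun l _ ih => Nat.ble (Nat.succ l) 4 && ih) (lWords.get a)) = true := by
  decide +kernel

theorem lRels_chk : (natListEq (lRels.map evL) [0, 0, 0, 0] &&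
    List.rec (motive := fun _ => Bool) true (fun w _ ih =>
      List.rec (motive := fun _ => Bool) true (fun l _ ih => Nat.ble (Nat.succ l) 4 && ih) w && ih)
      lRels) = true := by
  decide +kernel

theorem h_chk : (okP hStep1 && okP hStep3 && Nat.beq hStep2.2 0 && Nat.ble (Nat.succ hStep2.1) 192 &&
    anyL (fun b => okP (b, 0) && okP (conj hStep2.1 b, 0) &&
      peq ((caseAt 0).mm hStep3 (cI, 0)) ((caseAt 0).mm (b, 0) hStep3) &&
      peq ((caseAt 0).mm hStep1 (conj hStep2.1 b, 0))
        ((caseAt 0).mm ((caseAt 0).mm pA1 (cI, 0)) hStep1)) &&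
    anyL (fun b => okP (b, 0) && okP (conj hStep2.1 b, 0) &&
      peq ((caseAt 0).mm hStep3 pA1) ((caseAt 0).mm (b, 0) hStep3) &&
      peq ((caseAt 0).mm hStep1 (conj hStep2.1 b, 0)) ((caseAt 0).mm (cI, 0) hStep1))) = true := by
  decide +kernel

/-- letters from four generators -/
def lett {G : Type*} [Group G] (a b y g : G) (l : Nat) : G :=
  match l with
  | 0 => a
  | 1 => a⁻¹
  | 2 => b
  | 3 => b⁻¹
  | 4 => y
  | 5 => y⁻¹
  | 6 => g
  | 7 => g⁻¹
  | _ => 1

theorem lett_inv {G : Type*} [Group G] (a b y g : G) :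
    ∀ l, lett a b y g (H68.J1.inv l) = (lett a b y g l)⁻¹
  | 0 => rfl
  | 1 => by show a = a⁻¹⁻¹; rw [inv_inv]
  | 2 => rfl
  | 3 => by show b = b⁻¹⁻¹; rw [inv_inv]
  | 4 => rfl
  | 5 => by show y = y⁻¹⁻¹; rw [inv_inv]
  | 6 => rfl
  | 7 => by show g = g⁻¹⁻¹; rw [inv_inv]
  | n + 8 => by
    have h : 8 ≤ H68.J1.inv (n + 8) := by
      by_contra hc
      push Not at hc
      have h1 : H68.J1.inv (H68.J1.inv (n + 8)) = n + 8 := by
        show ((n + 8) ^^^ 1) ^^^ 1 = n + 8
        rw [Nat.xor_assoc, Nat.xor_self, Nat.xor_zero]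
      have : ∀ m, m < 8 → H68.J1.inv m < 8 := by decide
      have := this _ hc
      omega
    obtain ⟨m, hm⟩ := Nat.exists_eq_add_of_le h
    rw [hm, Nat.add_comm 8 m]
    exact inv_one.symm

theorem ev_invW {G : Type*} [Group G] (f : Nat → G)
    (hf : ∀ l, f (H68.J1.inv l) = (f l)⁻¹) (w : List Nat) : ev f (invW w) = (ev f w)⁻¹ :=
  H68.J1.Cert.ev_inv_reverse f hf w

theorem map_ev {G H : Type*} [Group G] [Group H] (φ : G →* H) (f : Nat → G) :
    ∀ w : List Nat, φ (ev f w) = ev (fun l => φ (f l)) w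
  | [] => φ.map_one
  | l :: w => by simp [H68.J1.Cert.ev, map_ev φ f w]

theorem trivial_word {G : Type*} [Group G] (f : Nat → G) (hf : ∀ l, f (H68.J1.inv l) = (f l)⁻¹)
    {w : List Nat}
    (h : (natListEq w [] || !allFrom (fun l => !natListEq w [l, H68.J1.inv l]) 8 0) = true) :
    ev f w = 1 := by
  rw [Bool.or_eq_true, Bool.not_eq_true'] at h
  rcases h with h | h
  · rw [natListEq_eq h]; rfl
  · obtain ⟨l, hl⟩ : ∃ l, natListEq w [l, H68.J1.inv l] = true := by
      by_contra hc
      push Not at hc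
      rw [allFrom_of_forall (p := fun l => !natListEq w [l, H68.J1.inv l])
        (fun l _ _ => by simpa using hc l)] at h
      simp at h
    rw [natListEq_eq hl]
    simp [H68.J1.Cert.ev, hf]

/-- The generated group is bounded by the enumeration. -/
theorem card_le_of_relations {X : Type*} [Group X] [Finite X] (f : Nat → X)
    (hf : ∀ l, f (H68.J1.inv l) = (f l)⁻¹) {i : Nat} (hi : i < 24)
    (hrel : ∀ k, k < 15 → ev f ((relWords i).getD k [9]) = 1) :
    Nat.card (Subgroup.closure {x | ∃ l < 8, f l = x}) ≤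
      (certAt i).n * Nat.card (Subgroup.closure ({f 0, f 2} : Set X)) := by
  classical
  set H := Subgroup.closure {x | ∃ l < 8, f l = x}
  set C := Subgroup.closure ({f 0, f 2} : Set X)
  have hmem : ∀ l, l < 8 → f l ∈ H := fun l hl => Subgroup.subset_closure ⟨l, hl, rfl⟩
  have hCH : C ≤ H := by
    rw [Subgroup.closure_le]
    rintro x (rfl | rfl) <;> exact hmem _ (by norm_num)
  have hmem' : ∀ l, 8 ≤ l → f l ∈ H ∨ True := fun _ _ => Or.inr trivial
  let f' : Nat → H := fun l => if h : f l ∈ H then ⟨f l, h⟩ else 1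
  have hf' : ∀ l, f' (H68.J1.inv l) = (f' l)⁻¹ := by
    intro l
    by_cases h : f l ∈ H
    · simp only [f', dif_pos h, dif_pos (show f (H68.J1.inv l) ∈ H by rw [hf]; exact inv_mem h)]
      exact Subtype.ext (hf l)
    · simp only [f', dif_neg h, dif_neg (show f (H68.J1.inv l) ∉ H by rw [hf, inv_mem_iff]; exact h),
        inv_one]
  have hw := allFrom_spec words_chk i (Nat.zero_le i) (by omega)
  simp only [Bool.and_eq_true] at hw
  obtain ⟨⟨⟨w1, w2⟩, w3⟩, w4⟩ := hw
  obtain ⟨hr, hs, hn, -⟩ := certAt_shape i hi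
  have hlow : ∀ w : List Nat, (∀ l ∈ w, l < 8) → ((ev f' w : H) : X) = ev f w := by
    intro w
    induction w with
    | nil => intro _; rfl
    | cons l w ih =>
      intro h
      simp only [H68.J1.Cert.ev, Subgroup.coe_mul]
      rw [ih fun m hm => h m (List.mem_cons_of_mem _ hm)]
      simp [f', dif_pos (hmem l (h l (List.mem_cons_self ..)))]
  have hlet : ∀ k, k < 15 → ∀ l ∈ (certAt i).words.get k, l < 8 := by
    intro k hk l hl
    have h := allFrom_spec (allFrom_spec (show allFrom (fun i => allFrom (fun k =>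
      List.rec (motive := fun _ => Bool) true (fun l _ ih => Nat.ble (Nat.succ l) 8 && ih)
        ((certAt i).words.get k)) 15 0) 24 0 = true by decide +kernel) i (Nat.zero_le i) (by omega))
      k (Nat.zero_le k) (by omega)
    generalize (certAt i).words.get k = w at h hl
    induction w with
    | nil => simp at hl
    | cons m w ih =>
      simp only [Bool.and_eq_true] at h
      rcases List.mem_cons.mp hl with rfl | hl
      · exact Nat.le_of_ble_eq_true h.1
      · exact ih h.2 hl
  have hgen : Subgroup.closure {x : H | ∃ l < 8, f' l = x} = ⊤ := by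
    rw [eq_top_iff, ← Subgroup.closure_closure_coe_preimage (k := {x | ∃ l < 8, f l = x})]
    refine Subgroup.closure_mono ?_
    rintro x ⟨l, hl, hle⟩
    exact ⟨l, hl, by simp only [f', dif_pos (hmem l hl)]; exact Subtype.ext hle⟩
  have hb := ((certAt_valid i hi).index_le (s := f') (C := C.subgroupOf H) hgen hf' ?_ ?_ ?_).2
  · rw [← Subgroup.card_mul_index (C.subgroupOf H), Nat.card_congr (Subgroup.subgroupOfEquivOfLe hCH).toEquiv,
      mul_comm]
    exact Nat.mul_le_mul_right _ hb
  · intro k hk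
    rw [hr] at hk
    apply Subtype.ext
    rw [hlow _ (hlet k hk), natListEq_eq (allFrom_spec w1 k (Nat.zero_le k) (by omega)), hrel k hk]
    rfl
  · intro k hk
    rw [hs] at hk
    by_cases hk15 : k < 15
    · have : ev f' ((certAt i).words.get k) = 1 := Subtype.ext (by
        rw [hlow _ (hlet k hk15), natListEq_eq (allFrom_spec w1 k (Nat.zero_le k) (by omega)),
          hrel k hk15]; rfl)
      rw [this]; exact one_mem _
    · rcases (show k = 15 ∨ k = 16 by omega) with rfl | rfl
      · rw [natListEq_eq w2, Subgroup.mem_subgroupOf, hlow _ (by simp)]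
        simp [H68.J1.Cert.ev]
        exact Subgroup.subset_closure (by simp)
      · rw [natListEq_eq w3, Subgroup.mem_subgroupOf, hlow _ (by simp)]
        simp [H68.J1.Cert.ev]
        exact Subgroup.subset_closure (by simp)
  · intro k hk1 hk2
    rw [hs] at hk1; rw [hn] at hk2
    exact trivial_word f' hf' (allFrom_spec w4 k hk1 (by omega))

/-- The first two generators generate a group of order at most 192. -/
theorem card_base_le {X : Type*} [Group X] [Finite X] (a b : X)
    (hrel : ∀ w ∈ lRels, ev (lett a b 1 1) w = 1) :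
    Nat.card (Subgroup.closure ({a, b} : Set X)) ≤ 192 := by
  set H := Subgroup.closure ({a, b} : Set X)
  let f : Nat → H := lett ⟨a, Subgroup.subset_closure (by simp)⟩ ⟨b, Subgroup.subset_closure (by simp)⟩ 1 1
  have hff : ∀ l, H.subtype (f l) = lett a b 1 1 l := by
    intro l
    match l with
    | 0 | 1 | 2 | 3 | 4 | 5 | 6 | 7 => simp [f, lett]
    | n + 8 => simp [f, lett]
  have hev : ∀ w, H.subtype (ev f w) = ev (lett a b 1 1) w := fun w => by
    rw [map_ev]; exact congrArg (fun s => ev s w) (funext hff)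
  have hgen : Subgroup.closure {x : H | ∃ l < 8, f l = x} = ⊤ := by
    rw [eq_top_iff, ← Subgroup.closure_closure_coe_preimage (k := ({a, b} : Set X))]
    refine Subgroup.closure_mono ?_
    rintro ⟨x, hx⟩ (h | h) <;> simp only at h <;> subst h
    · exact ⟨0, by norm_num, rfl⟩
    · exact ⟨2, by norm_num, rfl⟩
  have hb := base_words_chk
  rw [Bool.and_eq_true] at hb
  have hf := lett_inv (G := H) ⟨a, Subgroup.subset_closure (by simp)⟩ ⟨b, Subgroup.subset_closure (by simp)⟩ 1 1
  have hrel' : ∀ k, k < 6 → ev f (certL.words.get k) = 1 := by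
    intro k hk
    apply H.subtype_injective
    rw [hev, natListEq_eq (allFrom_spec hb.1 k (Nat.zero_le k) (by omega)), map_one]
    rcases (show k < 4 ∨ k = 4 ∨ k = 5 by omega) with h | rfl | rfl
    · rw [List.getD_eq_getElem _ _ (by simp [lRels]; omega),
        List.getElem_append_left (by simp [lRels]; omega)]
      exact hrel _ (List.getElem_mem _)
    · simp [lRels, H68.J1.Cert.ev, lett]
    · simp [lRels, H68.J1.Cert.ev, lett]
  have h := (certL_valid.index_le (s := f) (C := (⊥ : Subgroup H)) hgen hf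
    (fun k hk => hrel' k hk) (fun k hk => by rw [hrel' k hk]; exact one_mem _)
    (fun k h1 h2 => trivial_word f hf (allFrom_spec hb.2 k h1 (show k < 6 + 9 from h2)))).2
  rwa [Subgroup.index_bot] at h

namespace Amalgam

variable {G : Type*} [Group G] {s : G} {F : Frame s} {y : G}

theorem ev_small {a b y' g : G} (ha : a = F.ι gA) (hb : b = F.ι gB) :
    ∀ w : List Nat, List.rec (motive := fun _ => Bool) true
      (fun l _ ih => Nat.ble (Nat.succ l) 4 && ih) w = true →
      evL w < 192 ∧ ev (lett a b y' g) w = F.ι (evL w) := by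
  intro w
  induction w with
  | nil => intro _; exact ⟨by norm_num [evL], F.map_zero.symm⟩
  | cons l w ih =>
    intro h
    simp only [Bool.and_eq_true] at h
    obtain ⟨e1, e2⟩ := ih h.2
    have hl : l < 4 := Nat.le_of_ble_eq_true h.1
    have hA : gA < 192 := by decide
    have hB : gB < 192 := by decide
    interval_cases l
    · exact ⟨mul_lt hA e1, by
        show a * ev _ w = F.ι (mul gA (evL w))
        rw [F.map_mul _ _ hA e1, e2, ha]⟩
    · exact ⟨mul_lt (inv_lt hA) e1, by
        show a⁻¹ * ev _ w = F.ι (mul (inv gA) (evL w))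
        rw [F.map_mul _ _ (inv_lt hA) e1, F.map_inv hA, e2, ha]⟩
    · exact ⟨mul_lt hB e1, by
        show b * ev _ w = F.ι (mul gB (evL w))
        rw [F.map_mul _ _ hB e1, e2, hb]⟩
    · exact ⟨mul_lt (inv_lt hB) e1, by
        show b⁻¹ * ev _ w = F.ι (mul (inv gB) (evL w))
        rw [F.map_mul _ _ (inv_lt hB) e1, F.map_inv hB, e2, hb]⟩

theorem ev_lWord {a : Nat} (ha : a < 192) (g : G) :
    ev (lett (F.ι gA) (F.ι gB) y g) (lWords.get a) = F.ι a := by
  rw [(ev_small rfl rfl _ (allL_spec letters_chk ha)).2,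
    Nat.eq_of_beq_eq_true (allL_spec wordL_chk ha)]

theorem ev_wordP {p : Nat × Nat} (hp : p.1 < 192) (g : G) :
    ev (lett (F.ι gA) (F.ι gB) y g) (wordP p) = val F y p := by
  rw [wordP, H68.J1.Cert.ev_append, ev_lWord hp g, val]
  congr 1
  generalize p.2 = n
  induction n with
  | zero => rw [pow_zero]; rfl
  | succ n ih => rw [List.replicate_succ, pow_succ', H68.J1.Cert.ev, ih]; rfl

/-- Generators satisfying the relators of the large enumeration, generating the whole group. -/
theorem exists_generators [Finite G] (A : Amalgam F (caseAt 0) y) :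
    ∃ f : Nat → G, (∀ l, f (H68.J1.inv l) = (f l)⁻¹) ∧
      (∀ k, k < 15 → ev f ((relWords 23).getD k [9]) = 1) ∧
      Subgroup.closure {x | ∃ l < 8, f l = x} = ⊤ := by
  classical
  obtain ⟨g, Y⟩ := A.exists_fifth
  set a := F.ι gA
  set b := F.ι gB
  set f := lett a b y g with hfdef
  have hf : ∀ l, f (H68.J1.inv l) = (f l)⁻¹ := lett_inv a b y g
  have hk := five_chk
  simp only [Bool.and_eq_true, Bool.not_eq_true'] at hk
  obtain ⟨⟨⟨⟨⟨⟨⟨⟨⟨⟨⟨⟨⟨⟨⟨⟨⟨⟨⟨o1, o2⟩, o3⟩, oc⟩, q1⟩, -⟩, q3⟩, -⟩, -⟩, -⟩, -⟩, -⟩, -⟩, -⟩, -⟩, -⟩,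
    -⟩, -⟩, -⟩, -⟩ := hk
  have lt_of : ∀ {p : Nat × Nat}, okP p = true → p.1 < 192 := fun {p} h => by
    simp only [okP, Bool.and_eq_true] at h
    exact Nat.le_of_ble_eq_true h.1.1
  have hw : ∀ {p : Nat × Nat}, p.1 < 192 → ev f (wordP p) = val F y p := fun h => ev_wordP h g
  have hl : ∀ {x : Nat}, x < 192 → ev f (lWords.get x) = F.ι x := fun h => ev_lWord h g
  have e1 : ∀ l, ev f [l] = f l := fun l => mul_one _
  have hgr : ∀ {p : Nat × Nat}, p.1 < 192 → g * val F y p = val F y p * g →
      ev f (gRel p) = 1 := by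
    intro p hp hc
    rw [gRel, H68.J1.Cert.ev_append, H68.J1.Cert.ev_append, H68.J1.Cert.ev_append, e1, hw hp,
      ev_invW f hf, hw hp]
    show g * val F y p * g * (val F y p)⁻¹ = 1
    rw [hc, mul_assoc _ g g, Y.sq, mul_one, mul_inv_cancel]
  have hyr : ∀ x, x < 192 → memT x = true → ev f (yRel x) = 1 := by
    intro x hx hT
    rw [yRel, H68.J1.Cert.ev_append, H68.J1.Cert.ev_append, H68.J1.Cert.ev_append, e1, hl hx, e1,
      ev_invW f hf, hl (A.tab_T x hx hT).1, ← A.y_T x hx hT]
    show y * F.ι x * y⁻¹ * (y * F.ι x * y⁻¹)⁻¹ = 1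
    group
  have val_c : val F y (cI, 0) = F.ι cI := ok_L _ oc
  have hhchk := h_chk
  simp only [Bool.and_eq_true] at hhchk
  obtain ⟨⟨⟨⟨⟨h1o, h3o⟩, h20⟩, h2lt⟩, hm1⟩, hm2⟩ := hhchk
  have h2' : hStep2.1 < 192 := Nat.le_of_ble_eq_true h2lt
  set h := val F y hStep1 * F.ι hStep2.1 * val F y hStep3 with hh
  have hevh : ev f hWord = h := by
    rw [hWord, H68.J1.Cert.ev_append, H68.J1.Cert.ev_append, hw (lt_of h1o), hw h2', hw (lt_of h3o)]
    rw [hh]
    congr 2
    show val F y hStep2 = _
    rw [val, Nat.eq_of_beq_eq_true h20, pow_zero, mul_one]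
  have carry : ∀ (u v : Nat × Nat), okP u = true → okP v = true →
      anyL (fun b => okP (b, 0) && okP (conj hStep2.1 b, 0) &&
        peq ((caseAt 0).mm hStep3 u) ((caseAt 0).mm (b, 0) hStep3) &&
        peq ((caseAt 0).mm hStep1 (conj hStep2.1 b, 0)) ((caseAt 0).mm v hStep1)) = true →
      h * val F y u * h⁻¹ = val F y v := by
    intro u v hu hv hb
    obtain ⟨d, hd, hd'⟩ := anyL_spec hb
    simp only [Bool.and_eq_true] at hd'
    obtain ⟨⟨⟨d1, d2⟩, d3⟩, d4⟩ := hd'
    have a1 : val F y hStep3 * val F y u = F.ι d * val F y hStep3 := by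
      rw [← (A.mm_spec h3o hu).2, Amalgam.peq_spec d3, (A.mm_spec d1 h3o).2, ok_L _ d1]
    have a2 : val F y hStep1 * F.ι (conj hStep2.1 d) = val F y v * val F y hStep1 := by
      rw [← (A.mm_spec hv h1o).2, ← Amalgam.peq_spec d4, (A.mm_spec h1o d2).2, ok_L _ d2]
    rw [F.map_conj h2' hd] at a2
    rw [hh]
    calc _ = val F y hStep1 * F.ι hStep2.1 * (val F y hStep3 * val F y u) * (val F y hStep3)⁻¹ *
          (F.ι hStep2.1)⁻¹ * (val F y hStep1)⁻¹ := by group
      _ = val F y hStep1 * (F.ι hStep2.1 * F.ι d * (F.ι hStep2.1)⁻¹) * (val F y hStep1)⁻¹ := by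
          rw [a1]; group
      _ = _ := by rw [a2]; group
  have hc := carry (cI, 0) ((caseAt 0).mm pA1 (cI, 0)) oc (A.mm_spec o1 oc).1 hm1
  have ha := carry pA1 (cI, 0) o1 oc hm2
  rw [val_c, (A.mm_spec o1 oc).2, val_c] at hc
  rw [val_c] at ha
  set x := h * g * h⁻¹ with hxdef
  have xd : x * (val F y pA1 * F.ι cI) = val F y pA1 * F.ι cI * x := by
    rw [← hc]; exact comm_conj h Y.comm_c
  have xc : x * F.ι cI = F.ι cI * x := by
    rw [← ha]; exact comm_conj h Y.comm_1
  have x1 : x * val F y pA1 = val F y pA1 * x := by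
    apply mul_right_cancel (b := F.ι cI)
    rw [mul_assoc, xd, mul_assoc, mul_assoc, xc]
  obtain ⟨i, hi, hxi⟩ : ∃ i, i < 24 ∧ ev f (qWord i) = x := by
    obtain ⟨u, hu, v, hv, w, hw', hxe⟩ := Y.cent x xc x1
    have hS : ∃ j, j < 6 ∧ ev f ([[], wordP pA3, [6], wordP pA3 ++ [6], [6] ++ wordP pA3,
        wordP pA3 ++ [6] ++ wordP pA3].getD j []) = w := by
      simp only [List.mem_cons, List.not_mem_nil, or_false] at hw'
      rcases hw' with e | e | e | e | e | e <;> subst e
      · exact ⟨0, by norm_num, rfl⟩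
      · exact ⟨1, by norm_num, hw (lt_of o3)⟩
      · exact ⟨2, by norm_num, e1 6⟩
      · exact ⟨3, by norm_num, by
          show ev f (wordP pA3 ++ [6]) = _
          rw [H68.J1.Cert.ev_append, hw (lt_of o3), e1]; rfl⟩
      · exact ⟨4, by norm_num, by
          show ev f ([6] ++ wordP pA3) = _
          rw [H68.J1.Cert.ev_append, hw (lt_of o3), e1]; rfl⟩
      · exact ⟨5, by norm_num, by
          show ev f (wordP pA3 ++ [6] ++ wordP pA3) = _
          rw [H68.J1.Cert.ev_append, H68.J1.Cert.ev_append, hw (lt_of o3), e1]; rfl⟩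
    obtain ⟨j, hj, hje⟩ := hS
    simp only [List.mem_cons, List.not_mem_nil, or_false] at hu hv
    refine ⟨(if u = 1 then 0 else 12) + ((if v = 1 then 0 else 6) + j), by split_ifs <;> omega, ?_⟩
    rw [qWord, H68.J1.Cert.ev_append, H68.J1.Cert.ev_append, hxe]
    have hm : ((if u = 1 then 0 else 12) + ((if v = 1 then 0 else 6) + j)) % 6 = j := by
      split_ifs <;> omega
    rw [hm, hje]
    congr 1
    congr 1
    · by_cases hu1 : u = 1
      · rw [if_pos hu1, if_pos (by split_ifs <;> omega), hu1]; rfl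
      · rw [if_neg hu1, if_neg (by omega), hw (show ((cI, 0) : Nat × Nat).1 < 192 by decide), val_c,
          hu.resolve_left hu1]
    · by_cases hv1 : v = 1
      · rw [if_pos hv1, if_pos (by split_ifs <;> omega), hv1]; rfl
      · rw [if_neg hv1, if_neg (by split_ifs <;> omega), hw (lt_of o1), hv.resolve_left hv1]
  have hrels : ∀ k, k < 15 → ev f ((relWords i).getD k [9]) = 1 := by
    intro k hk
    rcases (show k < 4 ∨ 4 ≤ k by omega) with h4 | h4
    · have hc' := lRels_chk
      simp only [Bool.and_eq_true] at hc'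
      have e := natListEq_eq hc'.1
      have hlet := hc'.2
      simp only [lRels, List.map_cons, List.map_nil, List.cons.injEq, and_true] at e
      obtain ⟨z0, z1, z2, z3⟩ := e
      interval_cases k
      · show ev f (lRels.getD 0 [9]) = 1
        refine Eq.trans (ev_small rfl rfl _ (by decide +kernel)).2 ?_
        rw [show evL (lRels.getD 0 [9]) = 0 from z0, F.map_zero]
      · show ev f (lRels.getD 1 [9]) = 1
        refine Eq.trans (ev_small rfl rfl _ (by decide +kernel)).2 ?_
        rw [show evL (lRels.getD 1 [9]) = 0 from z1, F.map_zero]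
      · show ev f (lRels.getD 2 [9]) = 1
        refine Eq.trans (ev_small rfl rfl _ (by decide +kernel)).2 ?_
        rw [show evL (lRels.getD 2 [9]) = 0 from z2, F.map_zero]
      · show ev f (lRels.getD 3 [9]) = 1
        refine Eq.trans (ev_small rfl rfl _ (by decide +kernel)).2 ?_
        rw [show evL (lRels.getD 3 [9]) = 0 from z3, F.map_zero]
    · have hgens := gens_chk
      simp only [Bool.and_eq_true] at hgens
      interval_cases k
      · show y * (y * (y * 1)) = 1
        rw [mul_one, ← mul_assoc, A.y_yy]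
      · exact hyr gX (by decide) hgens.1.1.2
      · exact hyr gY (by decide) hgens.1.2
      · exact hyr gZ (by decide) hgens.2
      · show ev f ([4] ++ lWords.get hhI ++ [4] ++ lWords.get hhI) = 1
        rw [H68.J1.Cert.ev_append, H68.J1.Cert.ev_append, H68.J1.Cert.ev_append, e1,
          hl (by decide : hhI < 192)]
        show y * F.ι hhI * y * F.ι hhI = 1
        rw [A.y_hh, ← F.map_zero]
        exact congrArg F.ι (by decide +kernel)
      · show g * (g * 1) = 1
        rw [mul_one, Y.sq]
      · exact hgr (by decide : ((cI, 0) : Nat × Nat).1 < 192) (by rw [val_c]; exact Y.comm_c)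
      · exact hgr (lt_of o1) Y.comm_1
      · exact hgr (lt_of o2) Y.comm_2
      · show ev f ((wordP pA3 ++ [6]) ++ (wordP pA3 ++ [6]) ++ (wordP pA3 ++ [6])) = 1
        rw [H68.J1.Cert.ev_append, H68.J1.Cert.ev_append, H68.J1.Cert.ev_append, hw (lt_of o3), e1]
        exact Y.cube_3
      · show ev f (hWord ++ [6] ++ invW hWord ++ invW (qWord i)) = 1
        rw [H68.J1.Cert.ev_append, H68.J1.Cert.ev_append, H68.J1.Cert.ev_append, ev_invW f hf,
          ev_invW f hf, hevh, e1, hxi, hxdef]
        show h * g * h⁻¹ * (h * g * h⁻¹)⁻¹ = 1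
        group
  set H := Subgroup.closure {x | ∃ l < 8, f l = x}
  have hmem : ∀ l, l < 8 → f l ∈ H := fun l hl => Subgroup.subset_closure ⟨l, hl, rfl⟩
  have hevmem : ∀ w : List Nat, ev f w ∈ H := by
    intro w
    induction w with
    | nil => exact H.one_mem
    | cons l w ih =>
      refine H.mul_mem ?_ ih
      match l with
      | 0 => exact hmem 0 (by norm_num)
      | 1 => exact hmem 1 (by norm_num)
      | 2 => exact hmem 2 (by norm_num)
      | 3 => exact hmem 3 (by norm_num)
      | 4 => exact hmem 4 (by norm_num)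
      | 5 => exact hmem 5 (by norm_num)
      | 6 => exact hmem 6 (by norm_num)
      | 7 => exact hmem 7 (by norm_num)
      | n + 8 => exact H.one_mem
  -- only the last case is consistent
  have hi23 : i = 23 := by
    by_contra hne
    have hcard := card_le_of_relations f hf hi hrels
    rw [(certAt_shape i hi).2.2.2, if_neg hne, one_mul] at hcard
    have hCL : Subgroup.closure ({f 0, f 2} : Set G) ≤ Subgroup.centralizer ({s} : Set G) := by
      rw [Subgroup.closure_le]
      rintro z (rfl | rfl)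
      · exact F.mem_centralizer.mpr ⟨gA, by decide, rfl⟩
      · exact F.mem_centralizer.mpr ⟨gB, by decide, rfl⟩
    have hle : Subgroup.closure ({f 0, f 2} : Set G) ≤ H := by
      rw [Subgroup.closure_le]
      rintro z (rfl | rfl) <;> exact hmem _ (by norm_num)
    have heq := Subgroup.eq_of_le_of_card_ge hle hcard
    have hy : y ∈ Subgroup.centralizer ({s} : Set G) := hCL (heq ▸ hmem 4 (by norm_num))
    obtain ⟨d, hd, hde⟩ := F.mem_centralizer.mp hy
    exact absurd (A.not_mem (k := 1) (by norm_num) hd (by rw [pow_one, hde])) (by norm_num)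
  subst hi23
  refine ⟨f, hf, hrels, ?_⟩
  have hιH : ∀ x, x < 192 → F.ι x ∈ H := fun x hx => hl hx ▸ hevmem _
  have hyH : y ∈ H := hmem 4 (by norm_num)
  have hvH : ∀ p : Nat × Nat, p.1 < 192 → val F y p ∈ H := fun p hp =>
    mul_mem (hιH _ hp) (pow_mem hyH _)
  refine F.eq_top_of_centralizers H ?_ ?_ ⟨y⁻¹, inv_mem hyH, by rw [← A.y_s]; group⟩ ?_
    (F.not_isConj_three (by decide) (by decide +kernel))
  · intro x hx
    obtain ⟨d, hd, rfl⟩ := F.mem_centralizer.mp hx
    exact hιH d hd
  · refine Y.gen.trans ((Subgroup.closure_le _).mpr ?_)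
    rintro z (rfl | rfl | rfl | rfl | rfl)
    · exact hvH _ (lt_of o1)
    · exact hvH _ (lt_of o2)
    · exact hvH _ (lt_of o3)
    · exact hmem 6 (by norm_num)
    · exact hιH cI (by decide)
  · obtain ⟨d, hd, hd'⟩ := anyL_spec (show anyL (fun x => memT x && Nat.beq (cls x) 4 &&
      Nat.beq (cls (app (caseAt 0).tab x)) 2) = true by decide +kernel)
    simp only [Bool.and_eq_true] at hd'
    obtain ⟨⟨dT, d4⟩, d2⟩ := hd'
    obtain ⟨l, hl1, hle⟩ := anyL_spec (imp_spec (by
      have := allL_spec class_conj_chk hd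
      simp only [Bool.and_eq_true] at this
      exact this.2) d4)
    have hlt := (A.tab_T d hd dT).1
    obtain ⟨m, hm, hme⟩ := anyL_spec (imp_spec (by
      have := allL_spec class_conj_chk hlt
      simp only [Bool.and_eq_true] at this
      exact this.1.1) d2)
    refine ⟨y⁻¹ * (F.ι m)⁻¹ * y * F.ι l,
      mul_mem (mul_mem (mul_mem (inv_mem hyH) (inv_mem (hιH m hm))) hyH) (hιH l hl1), Or.inl ?_⟩
    have a1 : F.ι l * F.ι sigI * (F.ι l)⁻¹ = F.ι d := by
      rw [← F.map_conj hl1 (by decide), Nat.eq_of_beq_eq_true hle]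
    have a2 : F.ι m * F.ι eI * (F.ι m)⁻¹ = y * F.ι d * y⁻¹ := by
      rw [← F.map_conj hm (by decide), Nat.eq_of_beq_eq_true hme, A.y_T d hd dT]
    calc _ = y⁻¹ * (F.ι m)⁻¹ * (y * (F.ι l * F.ι sigI * (F.ι l)⁻¹) * y⁻¹) * F.ι m * y := by group
      _ = y⁻¹ * F.ι eI * y := by rw [a1, ← a2]; group
      _ = _ := by rw [← A.y_s]; group

end Amalgam

end Cfsg.Agent.H80.M12
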