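import Cfsg.Agent.H13.Engine

/-! Images of the four generators among the permutations of twenty-four points. -/

set_option autoImplicit false

namespace Cfsg.Agent.H80.M12

open Cfsg.Agent.H13

/-- the images of the letters -/
def modelPL : List PL :=
  [
   ([0, 2, 8, 3, 9, 10, 13, 23, 1, 12, 21, 14, 4, 18, 17, 15, 16, 11, 6, 19, 7, 5, 22, 20], [0, 8, 1, 3, 12, 21, 18, 20, 2, 4, 5, 17, 9, 6, 11, 15, 16, 14, 13, 19, 23, 10, 22, 7]),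
   ([0, 8, 1, 3, 12, 21, 18, 20, 2, 4, 5, 17, 9, 6, 11, 15, 16, 14, 13, 19, 23, 10, 22, 7], [0, 2, 8, 3, 9, 10, 13, 23, 1, 12, 21, 14, 4, 18, 17, 15, 16, 11, 6, 19, 7, 5, 22, 20]),
   ([1, 16, 2, 4, 9, 14, 6, 20, 8, 12, 17, 19, 3, 13, 5, 7, 18, 10, 0, 21, 23, 22, 11, 15], [18, 0, 2, 12, 3, 14, 6, 15, 8, 4, 17, 22, 9, 13, 5, 23, 1, 10, 16, 11, 7, 19, 21, 20]),
   ([18, 0, 2, 12, 3, 14, 6, 15, 8, 4, 17, 22, 9, 13, 5, 23, 1, 10, 16, 11, 7, 19, 21, 20], [1, 16, 2, 4, 9, 14, 6, 20, 8, 12, 17, 19, 3, 13, 5, 7, 18, 10, 0, 21, 23, 22, 11, 15]),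
   ([8, 4, 18, 16, 6, 17, 1, 19, 12, 2, 23, 7, 0, 3, 10, 22, 13, 20, 9, 11, 5, 15, 21, 14], [12, 6, 9, 13, 1, 20, 4, 11, 0, 18, 14, 19, 8, 16, 23, 21, 3, 5, 2, 7, 17, 22, 15, 10]),
   ([12, 6, 9, 13, 1, 20, 4, 11, 0, 18, 14, 19, 8, 16, 23, 21, 3, 5, 2, 7, 17, 22, 15, 10], [8, 4, 18, 16, 6, 17, 1, 19, 12, 2, 23, 7, 0, 3, 10, 22, 13, 20, 9, 11, 5, 15, 21, 14]),
   ([12, 2, 1, 13, 6, 7, 4, 5, 16, 18, 15, 14, 0, 3, 11, 10, 8, 22, 9, 20, 19, 23, 17, 21], [12, 2, 1, 13, 6, 7, 4, 5, 16, 18, 15, 14, 0, 3, 11, 10, 8, 22, 9, 20, 19, 23, 17, 21]),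
   ([12, 2, 1, 13, 6, 7, 4, 5, 16, 18, 15, 14, 0, 3, 11, 10, 8, 22, 9, 20, 19, 23, 17, 21], [12, 2, 1, 13, 6, 7, 4, 5, 16, 18, 15, 14, 0, 3, 11, 10, 8, 22, 9, 20, 19, 23, 17, 21])]

/-- words for the certified generators -/
def modelWords : List (List Nat) :=
  [[2, 0, 2, 0], [0, 2, 2, 6, 3, 4, 0]]

end Cfsg.Agent.H80.M12
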