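import Cfsg.Agent.H80.M12.Ident
import Cfsg.Agent.H80.M12.ModelData
import Cfsg.Agent.H13.Groups
import Cfsg.Agent.H13.Actions

/-! The permutation model satisfies the relators; identification with the given group. -/

set_option autoImplicit false
set_option maxRecDepth 8000
set_option maxHeartbeats 1000000

namespace Cfsg.Agent.H80.M12

open Cfsg.Agent.H16 Cfsg.Agent.H68.J1 Cfsg.Agent.H13 Cfsg.Agent.H13.Data
open Cfsg.Agent.H68.J1.Cert (ev)

/-- image pair of a letter -/
def imgLet (l : Nat) : PL := modelPL.getD l (oneP 24)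

/-- image pair of a word -/
def imgWord : List Nat → PL
  | [] => oneP 24
  | l :: w => mulP (imgLet l) (imgWord w)

theorem imgLet_chk : (modelPL.all (validB 24) &&
    allFrom (fun l => (imgLet l).1 == (imgLet (H68.J1.inv l)).2 &&
      sift 24 (chain 24 m12Levels g12) (imgLet l).1) 8 0) = true := by
  decide +kernel

theorem model_rels_chk :
    allFrom (fun k => (imgWord ((relWords 23).getD k [9])).1 == List.range 24) 15 0 = true := by
  decide +kernel

theorem model_words_chk :
    (modelWords.map fun w => (imgWord w).1) = g12.map Prod.fst := by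
  decide +kernel

theorem exists_model : ∃ f : Nat → ↥Spor.M12, (∀ l, f (H68.J1.inv l) = (f l)⁻¹) ∧
    ∀ l, (img (toFin (f l : Equiv.Perm GolayPt)), img (toFin (f l : Equiv.Perm GolayPt))⁻¹) =
      imgLet l := by
  have h := imgLet_chk
  rw [Bool.and_eq_true] at h
  have hv : ∀ l, Valid (⊤ : Subgroup (Equiv.Perm (Fin 24))) (imgLet l) :=
    fun l => valid_getD (valid_all h.1) l
  choose σ _ hσ using hv
  have e1 : ∀ l, img (σ l) = (imgLet l).1 := fun l => (congrArg Prod.fst (hσ l)).symm
  have e2 : ∀ l, img (σ l)⁻¹ = (imgLet l).2 := fun l => (congrArg Prod.snd (hσ l)).symm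
  have hmem : ∀ l, toFin.symm (σ l) ∈ Spor.M12 := by
    intro l
    rw [M12_eq]
    rcases lt_or_ge l 8 with h8 | h8
    · have hs := allFrom_spec h.2 l (Nat.zero_le l) (by omega)
      rw [Bool.and_eq_true] at hs
      refine mem_grp_of_sift _ g12_valid m12_check _ ?_
      rw [toFin.apply_symm_apply, e1]
      exact hs.2
    · rw [mem_grp, toFin.apply_symm_apply]
      have : σ l = 1 := img_injective (by
        rw [img_one, e1, imgLet, List.getD_eq_default _ _ (by
          show modelPL.length ≤ l
          exact le_trans (by decide) h8)]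
        rfl)
      rw [this]
      exact one_mem _
  refine ⟨fun l => ⟨toFin.symm (σ l), hmem l⟩, fun l => ?_, fun l => ?_⟩
  · apply Subtype.ext
    show toFin.symm (σ (H68.J1.inv l)) = (toFin.symm (σ l))⁻¹
    rw [← _root_.map_inv]
    refine congrArg toFin.symm (img_injective ?_)
    rw [e1, e2]
    rcases lt_or_ge l 8 with h8 | h8
    · have hs := allFrom_spec h.2 l (Nat.zero_le l) (by omega)
      rw [Bool.and_eq_true] at hs
      interval_cases l <;> decide +kernel
    · have h8' : 8 ≤ H68.J1.inv l := by
        by_contra hc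
        push Not at hc
        have h1 : H68.J1.inv (H68.J1.inv l) = l := by
          show (l ^^^ 1) ^^^ 1 = l
          rw [Nat.xor_assoc, Nat.xor_self, Nat.xor_zero]
        have hsmall : ∀ m, m < 8 → H68.J1.inv m < 8 := by decide
        have := hsmall _ hc
        omega
      rw [imgLet, imgLet, List.getD_eq_default _ _ (le_trans (by decide) h8'),
        List.getD_eq_default _ _ (le_trans (by decide) h8)]
      rfl
  · show (img (toFin (toFin.symm (σ l))), img (toFin (toFin.symm (σ l)))⁻¹) = _
    rw [toFin.apply_symm_apply, hσ l]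

theorem imgWord_spec {f : Nat → ↥Spor.M12}
    (hf : ∀ l, (img (toFin (f l : Equiv.Perm GolayPt)), img (toFin (f l : Equiv.Perm GolayPt))⁻¹) =
      imgLet l) :
    ∀ w, img (toFin ((ev f w : ↥Spor.M12) : Equiv.Perm GolayPt)) = (imgWord w).1
  | [] => by
    show img (toFin (1 : Equiv.Perm GolayPt)) = List.range 24
    rw [map_one, img_one]
  | l :: w => by
    show img (toFin ((f l : Equiv.Perm GolayPt) * ((ev f w : ↥Spor.M12) : Equiv.Perm GolayPt))) =
      mulL (imgLet l).1 (imgWord w).1
    rw [map_mul, ← mulL_img, imgWord_spec hf w, ← hf l]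

/-- The model: generators of the permutation group satisfying the relators. -/
theorem exists_model_generators : ∃ f : Nat → ↥Spor.M12,
    (∀ l, f (H68.J1.inv l) = (f l)⁻¹) ∧
    (∀ l, (img (toFin (f l : Equiv.Perm GolayPt)), img (toFin (f l : Equiv.Perm GolayPt))⁻¹) =
      imgLet l) ∧
    (∀ k, k < 15 → ev f ((relWords 23).getD k [9]) = 1) ∧
    Subgroup.closure {x | ∃ l < 8, f l = x} = ⊤ := by
  obtain ⟨f, hfi, hf⟩ := exists_model
  refine ⟨f, hfi, hf, fun k hk => ?_, ?_⟩
  · apply Subtype.ext
    apply toFin.injective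
    apply img_injective
    rw [imgWord_spec hf, beq_iff_eq.mp (allFrom_spec model_rels_chk k (Nat.zero_le k) (by omega)),
      OneMemClass.coe_one, map_one, img_one]
  · set H := Subgroup.closure {x | ∃ l < 8, f l = x}
    have hev : ∀ w : List Nat, (∀ l ∈ w, l < 8) → ev f w ∈ H := by
      intro w
      induction w with
      | nil => intro _; exact H.one_mem
      | cons l w ih =>
        intro h
        exact H.mul_mem (Subgroup.subset_closure ⟨l, h l (List.mem_cons_self ..), rfl⟩)
          (ih fun m hm => h m (List.mem_cons_of_mem _ hm))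
    have hle : Spor.M12 ≤ H.map Spor.M12.subtype := by
      refine le_trans M12_eq.le ?_
      refine grp_le g12_valid fun a ha g hg => ?_
      have h1 : a.1 ∈ modelWords.map fun w => (imgWord w).1 := by
        rw [model_words_chk]; exact List.mem_map_of_mem ha
      obtain ⟨w, hw, hwe⟩ := List.mem_map.mp h1
      have hlt : ∀ v ∈ modelWords, ∀ l ∈ v, l < 8 := by decide
      refine ⟨ev f w, hev w (hlt w hw), toFin.injective (img_injective ?_)⟩
      show img (toFin ((ev f w : ↥Spor.M12) : Equiv.Perm GolayPt)) = _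
      rw [imgWord_spec hf, hwe, hg]
    rw [eq_top_iff]
    intro x _
    obtain ⟨z, hz, hze⟩ := hle x.2
    rwa [← Subtype.ext hze]

theorem isSimpleGroup_M12 : IsSimpleGroup ↥Spor.M12 :=
  have := g12_simple
  (MulEquiv.subgroupCongr M12_eq).isSimpleGroup

theorem lett_congr {X : Type*} [Group X] (f : Nat → X) (hf : ∀ l, f (H68.J1.inv l) = (f l)⁻¹) :
    ∀ l, l < 4 → lett (f 0) (f 2) 1 1 l = f l := by
  intro l hl
  interval_cases l
  · rfl
  · exact (hf 0).symm
  · rfl
  · exact (hf 2).symm

theorem ev_congr_small {X : Type*} [Group X] {f g : Nat → X} (h : ∀ l, l < 4 → f l = g l) :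
    ∀ w : List Nat, List.rec (motive := fun _ => Bool) true
      (fun l _ ih => Nat.ble (Nat.succ l) 4 && ih) w = true → ev f w = ev g w
  | [], _ => rfl
  | l :: w, hw => by
    simp only [Bool.and_eq_true] at hw
    show f l * ev f w = g l * ev g w
    rw [h l (Nat.le_of_ble_eq_true hw.1), ev_congr_small h w hw.2]

/-- A simple group with generators satisfying the relators is the permutation group. -/
theorem isoM12_of_generators {G : Type*} [Group G] [Finite G] [Nontrivial G] (f : Nat → G)
    (hf : ∀ l, f (H68.J1.inv l) = (f l)⁻¹)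
    (hrel : ∀ k, k < 15 → ev f ((relWords 23).getD k [9]) = 1)
    (hgen : Subgroup.closure {x | ∃ l < 8, f l = x} = ⊤) : Spor.IsoM12 G := by
  obtain ⟨g, hgi, -, hgrel, hggen⟩ := exists_model_generators
  let p : Nat → G × ↥Spor.M12 := fun l => (f l, g l)
  have hp : ∀ l, p (H68.J1.inv l) = (p l)⁻¹ := fun l => Prod.ext (hf l) (hgi l)
  have hev1 : ∀ w, (ev p w).1 = ev f w := fun w => map_ev (MonoidHom.fst G ↥Spor.M12) p w
  have hev2 : ∀ w, (ev p w).2 = ev g w := fun w => map_ev (MonoidHom.snd G ↥Spor.M12) p w
  have hprel : ∀ k, k < 15 → ev p ((relWords 23).getD k [9]) = 1 := fun k hk =>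
    Prod.ext (by rw [hev1]; exact hrel k hk) (by rw [hev2]; exact hgrel k hk)
  set Γ := Subgroup.closure {x | ∃ l < 8, p l = x}
  have hbase : Nat.card (Subgroup.closure ({p 0, p 2} : Set (G × ↥Spor.M12))) ≤ 192 := by
    refine card_base_le _ _ fun w hw => ?_
    have hl : List.rec (motive := fun _ => Bool) true
        (fun l _ ih => Nat.ble (Nat.succ l) 4 && ih) w = true ∧
        ∃ k, k < 4 ∧ (relWords 23).getD k [9] = w := by
      obtain ⟨k, hk, rfl⟩ := List.getElem_of_mem hw
      have hlen : lRels.length = 4 := by decide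
      refine ⟨?_, k, hlen ▸ hk, ?_⟩
      · have hall : ∀ (L : List (List Nat)), List.rec (motive := fun _ => Bool) true (fun w _ ih =>
            List.rec (motive := fun _ => Bool) true (fun l _ ih => Nat.ble (Nat.succ l) 4 && ih) w &&
              ih) L = true → ∀ w ∈ L,
            List.rec (motive := fun _ => Bool) true
              (fun l _ ih => Nat.ble (Nat.succ l) 4 && ih) w = true := by
          intro L
          induction L with
          | nil => intro _ w hw; simp at hw
          | cons v L ih =>
            intro h w hw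
            simp only [Bool.and_eq_true] at h
            rcases List.mem_cons.mp hw with rfl | hw
            · exact h.1
            · exact ih h.2 w hw
        have hc := lRels_chk
        rw [Bool.and_eq_true] at hc
        exact hall _ hc.2 _ (List.getElem_mem _)
      · rw [relWords, List.getD_eq_getElem _ _ (by rw [List.length_append]; omega),
          List.getElem_append_left hk]
    obtain ⟨hs, k, hk, hke⟩ := hl
    rw [ev_congr_small (lett_congr p hp) w hs, ← hke]
    exact hprel k (by omega)
  have hcard : Nat.card Γ ≤ 95040 := by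
    refine (card_le_of_relations p hp (show 23 < 24 by norm_num) hprel).trans ?_
    rw [(certAt_shape 23 (by norm_num)).2.2.2, if_pos rfl]
    exact (Nat.mul_le_mul_left _ hbase).trans (by norm_num)
  let π : Γ →* ↥Spor.M12 := (MonoidHom.snd G ↥Spor.M12).comp Γ.subtype
  have hπ : Function.Surjective π := by
    rw [← MonoidHom.range_eq_top, eq_top_iff, ← hggen, Subgroup.closure_le]
    rintro x ⟨l, hl, rfl⟩
    exact ⟨⟨p l, Subgroup.subset_closure ⟨l, hl, rfl⟩⟩, rfl⟩
  have h95 : Nat.card ↥Spor.M12 = 95040 := by rw [M12_eq, card_g12]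
  have hge := Nat.card_le_card_of_surjective π hπ
  have hbij : Function.Bijective π :=
    (Nat.bijective_iff_surjective_and_card π).mpr ⟨hπ, by omega⟩
  let φ : ↥Spor.M12 →* G :=
    ((MonoidHom.fst G ↥Spor.M12).comp Γ.subtype).comp
      (MulEquiv.ofBijective π hbij).symm.toMonoidHom
  have hφs : Function.Surjective φ := by
    rw [← MonoidHom.range_eq_top, eq_top_iff, ← hgen, Subgroup.closure_le]
    rintro x ⟨l, hl, rfl⟩
    refine ⟨g l, ?_⟩
    have : (MulEquiv.ofBijective π hbij).symm (g l) =
        ⟨p l, Subgroup.subset_closure ⟨l, hl, rfl⟩⟩ :=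
      (MulEquiv.ofBijective π hbij).symm_apply_eq.mpr rfl
    show ((MulEquiv.ofBijective π hbij).symm (g l) : G × ↥Spor.M12).1 = f l
    rw [this]
  have := isSimpleGroup_M12
  have hφi : Function.Injective φ := by
    rw [← MonoidHom.ker_eq_bot_iff]
    refine (φ.normal_ker.eq_bot_or_eq_top).resolve_right fun htop => ?_
    obtain ⟨a, b, hab⟩ := exists_pair_ne G
    obtain ⟨a', rfl⟩ := hφs a
    obtain ⟨b', rfl⟩ := hφs b
    have hk : ∀ x, φ x = 1 := fun x => by rw [← MonoidHom.mem_ker, htop]; trivial
    exact hab (by rw [hk, hk])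
  exact ⟨(MulEquiv.ofBijective φ ⟨hφi, hφs⟩).symm⟩

/-- Identification from the canonical amalgam. -/
theorem Amalgam.isoM12 {G : Type*} [Group G] [Finite G] {s : G} {F : Frame s} {y : G}
    (A : Amalgam F (caseAt 0) y) : Spor.IsoM12 G := by
  obtain ⟨f, hf, hrel, hgen⟩ := A.exists_generators
  have : Nontrivial G := ⟨⟨s, 1, fun h => by
    have := F.orderOf_s
    rw [h, orderOf_one] at this
    omega⟩⟩
  exact isoM12_of_generators f hf hrel hgen

end Cfsg.Agent.H80.M12
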