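import Cfsg.Agent.H80.M12.Model
import Cfsg.Agent.H80.M12.CentData

/-! The involution centralizer of the permutation model is the table group. -/

set_option autoImplicit false
set_option maxRecDepth 20000
set_option maxHeartbeats 1000000

namespace Cfsg.Agent.H80.M12

open Cfsg.Agent.H16 Cfsg.Agent.H68.J1 Cfsg.Agent.H13 Cfsg.Agent.H13.Data
open Cfsg.Agent.H68.J1.Cert (ev)

/-- value of a letter in the table group -/
noncomputable def letVal (l : Nat) : Nat :=
  Bool.rec (Bool.rec (Bool.rec (inv gB) gB (Nat.beq l 2)) (inv gA) (Nat.beq l 1)) gA (Nat.beq l 0)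

theorem imgTab_step_chk : (imgTab.getD 0 [] == List.range 24 &&
    allFrom (fun l => allL fun a => Nat.ble (Nat.succ (letVal l)) 192 &&
      imgTab.getD (mul (letVal l) a) [] == mulL (imgLet l).1 (imgTab.getD a [])) 4 0) = true := by
  decide +kernel

theorem letter_assoc_chk : allFrom (fun l => allL fun a => allL fun b =>
    Nat.beq (mul (letVal l) (mul a b)) (mul (mul (letVal l) a) b)) 4 0 = true := by
  decide +kernel

theorem zero_mul_chk : allL (fun b => Nat.beq (mul 0 b) b) = true := by decide +kernel

theorem conj_step_chk : (conjTab.getD 0 [] == imgTab.getD sI [] &&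
    allFrom (fun i => Nat.ble (Nat.succ (conjStep.getD i (0, 0)).1) i &&
      conjTab.getD i [] == mulL (mulL (imgLet (conjStep.getD i (0, 0)).2).1
        (conjTab.getD (conjStep.getD i (0, 0)).1 []))
        (imgLet (conjStep.getD i (0, 0)).2).2) 494 1) = true := by
  decide +kernel

/-- base twenty-four code of a list -/
def packL (l : List Nat) : Nat := l.foldl (fun acc x => acc * 24 + x) 0

theorem conjTab_distinct : distinct (conjTab.map packL) = true := by decide +kernel

theorem imgTab_distinct : distinct (imgTab.map packL) = true := by decide +kernel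

theorem nodup_of_distinct : ∀ {l : List Nat}, distinct l = true → l.Nodup
  | [], _ => List.nodup_nil
  | a :: l, h => by
    rw [distinct, Bool.and_eq_true, List.all_eq_true] at h
    refine List.nodup_cons.mpr ⟨fun ha => ?_, nodup_of_distinct h.2⟩
    simpa using h.1 a ha

theorem getD_inj {L : List (List Nat)} (hd : distinct (L.map packL) = true) {i j : Nat}
    (hi : i < L.length) (hj : j < L.length) (h : L.getD i [] = L.getD j []) : i = j := by
  rw [List.getD_eq_getElem _ _ hi, List.getD_eq_getElem _ _ hj] at h
  have hn := nodup_of_distinct hd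
  have := hn.getElem_inj_iff (i := i) (j := j) (hi := by simpa using hi) (hj := by simpa using hj)
  exact this.mp (by simp [h])

/-- The centralizer of the model involution is the table group. -/
theorem exists_model_frame : ∃ u₀ : ↥Spor.M12, Nonempty (Frame u₀) := by
  obtain ⟨f, hfi, hf, -, -⟩ := exists_model_generators
  let T : Nat → List Nat := fun a => imgTab.getD a []
  let P : ↥Spor.M12 → List Nat := fun x => img (toFin (x : Equiv.Perm GolayPt))
  have Pinj : Function.Injective P := fun x y h =>
    Subtype.ext (toFin.injective (img_injective h))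
  have Pmul : ∀ x y, P (x * y) = mulL (P x) (P y) := fun x y => by
    show img (toFin ((x : Equiv.Perm GolayPt) * (y : Equiv.Perm GolayPt))) = _
    rw [map_mul, mulL_img]
  have hc := imgTab_step_chk
  simp only [Bool.and_eq_true] at hc
  have hstep : ∀ l, l < 4 → ∀ a, a < 192 → letVal l < 192 ∧
      T (mul (letVal l) a) = mulL (imgLet l).1 (T a) := by
    intro l hl a ha
    have := allL_spec (allFrom_spec hc.2 l (Nat.zero_le l) (by omega)) ha
    rw [Bool.and_eq_true] at this
    exact ⟨Nat.le_of_ble_eq_true this.1, beq_iff_eq.mp this.2⟩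
  -- left multiplication by words
  have hword : ∀ w : List Nat, List.rec (motive := fun _ => Bool) true
      (fun l _ ih => Nat.ble (Nat.succ l) 4 && ih) w = true → evL w < 192 ∧
      ∀ b, b < 192 → ∀ x, P x = T b → P (ev f w * x) = T (mul (evL w) b) := by
    intro w
    induction w with
    | nil =>
      intro _
      refine ⟨by decide, fun b hb x hx => ?_⟩
      show P (1 * x) = T (mul 0 b)
      rw [one_mul, hx, Nat.eq_of_beq_eq_true (allL_spec zero_mul_chk hb)]
    | cons l w ih =>
      intro h
      simp only [Bool.and_eq_true] at h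
      have hl : l < 4 := Nat.le_of_ble_eq_true h.1
      obtain ⟨i1, i2⟩ := ih h.2
      obtain ⟨hlv, -⟩ := hstep l hl 0 (by norm_num)
      have hev : evL (l :: w) = mul (letVal l) (evL w) := rfl
      refine ⟨hev ▸ mul_lt hlv i1, fun b hb x hx => ?_⟩
      show P (f l * ev f w * x) = _
      rw [mul_assoc, Pmul, i2 b hb x hx, hev,
        ← Nat.eq_of_beq_eq_true (allL_spec (allL_spec (allFrom_spec letter_assoc_chk l
          (Nat.zero_le l) (by omega)) i1) hb), (hstep l hl _ (mul_lt i1 hb)).2]
      exact congrArg (fun q => mulL q (T (mul (evL w) b))) (congrArg Prod.fst (hf l))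
  have T0 : P 1 = T 0 := by
    show img (toFin (1 : Equiv.Perm GolayPt)) = _
    rw [map_one, img_one]
    exact (beq_iff_eq.mp hc.1).symm
  let ι : Nat → ↥Spor.M12 := fun a => ev f (lWords.get a)
  have hι : ∀ a, a < 192 → ∀ b, b < 192 → ∀ x, P x = T b → P (ι a * x) = T (mul a b) := by
    intro a ha b hb x hx
    have h := (hword _ (allL_spec letters_chk ha)).2 b hb x hx
    rwa [Nat.eq_of_beq_eq_true (allL_spec wordL_chk ha)] at h
  have hmul0 : ∀ a, a < 192 → mul a 0 = a := fun a ha => by
    have : allL (fun a => Nat.beq (mul a 0) a) = true := by decide +kernel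
    exact Nat.eq_of_beq_eq_true (allL_spec this ha)
  have hP : ∀ a, a < 192 → P (ι a) = T a := by
    intro a ha
    have h := hι a ha 0 (by norm_num) 1 T0
    rwa [mul_one, hmul0 a ha] at h
  have hmul : ∀ a b, a < 192 → b < 192 → ι (mul a b) = ι a * ι b := fun a b ha hb =>
    Pinj (by rw [hP _ (mul_lt ha hb), hι a ha b hb _ (hP b hb)])
  have hlen : imgTab.length = 192 := by decide +kernel
  have hinj : ∀ a b, a < 192 → b < 192 → ι a = ι b → a = b := fun a b ha hb h =>
    getD_inj imgTab_distinct (hlen ▸ ha) (hlen ▸ hb)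
      (by show T a = T b; rw [← hP a ha, ← hP b hb, h])
  set u₀ := ι sI with hu₀
  have hcomm : ∀ a, a < 192 → ι a * u₀ = u₀ * ι a := by
    intro a ha
    have := allL_spec central_chk ha
    simp only [Bool.and_eq_true] at this
    rw [hu₀, ← hmul _ _ ha (by decide), ← hmul _ _ (by decide) ha,
      Nat.eq_of_beq_eq_true this.1.1.1.1]
  -- the conjugates
  have hcs := conj_step_chk
  rw [Bool.and_eq_true] at hcs
  have hconj : ∀ i, i < 495 → ∃ g : ↥Spor.M12, P (g * u₀ * g⁻¹) = conjTab.getD i [] := by
    intro i
    induction i using Nat.strong_induction_on with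
    | _ i ih =>
      intro hi
      rcases Nat.eq_zero_or_pos i with h0 | hpos
      · subst h0
        exact ⟨1, by rw [one_mul, inv_one, mul_one, hu₀, hP sI (by decide),
          beq_iff_eq.mp hcs.1]⟩
      · have h := allFrom_spec hcs.2 i hpos (by omega)
        rw [Bool.and_eq_true] at h
        have hp : (conjStep.getD i (0, 0)).1 < i := Nat.le_of_ble_eq_true h.1
        obtain ⟨g, hg⟩ := ih _ hp (by omega)
        refine ⟨f (conjStep.getD i (0, 0)).2 * g, ?_⟩
        rw [beq_iff_eq.mp h.2, ← hg]
        generalize (conjStep.getD i (0, 0)).2 = l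
        rw [show f l * g * u₀ * (f l * g)⁻¹ = f l * (g * u₀ * g⁻¹) * (f l)⁻¹ by group, Pmul,
          Pmul]
        have e1 : (imgLet l).1 = P (f l) := (congrArg Prod.fst (hf l)).symm
        have e2 : (imgLet l).2 = P (f l)⁻¹ := by
          rw [← congrArg Prod.snd (hf l)]
          show _ = img (toFin ((f l : Equiv.Perm GolayPt))⁻¹)
          rw [map_inv]
        rw [e1, e2]
  choose g hg using hconj
  set C := Subgroup.centralizer ({u₀} : Set ↥Spor.M12)
  have hidx : 495 ≤ C.index := by
    rw [Subgroup.index]
    let q : Fin 495 → ↥Spor.M12 ⧸ C := fun i => QuotientGroup.mk (g i i.2)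
    have hq : Function.Injective q := by
      intro i j hij
      have hm := QuotientGroup.eq.mp hij
      rw [Subgroup.mem_centralizer_singleton_iff] at hm
      have hlen' : conjTab.length = 495 := by decide +kernel
      refine Fin.ext (getD_inj conjTab_distinct (by rw [hlen']; exact i.2) (by rw [hlen']; exact j.2) ?_)
      rw [← hg i i.2, ← hg j j.2]
      have hm' : (g i i.2)⁻¹ * g j j.2 * u₀ = u₀ * ((g i i.2)⁻¹ * g j j.2) := by
        first
          | exact hm
          | exact hm.symm
      congr 1
      calc g i i.2 * u₀ * (g i i.2)⁻¹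
          = g i i.2 * (u₀ * ((g i i.2)⁻¹ * g j j.2)) * (g j j.2)⁻¹ := by group
        _ = g i i.2 * ((g i i.2)⁻¹ * g j j.2 * u₀) * (g j j.2)⁻¹ := by rw [hm']
        _ = _ := by group
    have := Nat.card_le_card_of_injective q hq
    rwa [Nat.card_fin] at this
  have h95 : Nat.card ↥Spor.M12 = 95040 := by rw [M12_eq, card_g12]
  have hC : Nat.card C ≤ 192 := by
    have h1 := C.card_mul_index
    rw [h95] at h1
    by_contra hlt
    have : 193 * 495 ≤ Nat.card C * C.index := Nat.mul_le_mul (by omega) hidx
    omega
  have hsurj : ∀ x, x * u₀ = u₀ * x → ∃ a, a < 192 ∧ ι a = x := by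
    intro x hx
    let q : Fin 192 → C := fun a => ⟨ι a, Subgroup.mem_centralizer_singleton_iff.mpr (by
      first
        | exact hcomm a a.2
        | exact (hcomm a a.2).symm)⟩
    have hqi : Function.Injective q := fun a b h =>
      Fin.ext (hinj _ _ a.2 b.2 (congrArg Subtype.val h))
    have hqs : Function.Surjective q :=
      ((Nat.bijective_iff_injective_and_card q).mpr ⟨hqi, by
        have := Nat.card_le_card_of_injective q hqi
        rw [Nat.card_fin] at this ⊢
        omega⟩).2
    obtain ⟨a, ha⟩ := hqs ⟨x, Subgroup.mem_centralizer_singleton_iff.mpr (by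
      first
        | exact hx
        | exact hx.symm)⟩
    exact ⟨a, a.2, congrArg Subtype.val ha⟩
  exact ⟨u₀, ⟨⟨ι, hmul, hinj, hsurj, rfl⟩⟩⟩

end Cfsg.Agent.H80.M12
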