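import Cfsg.Agent.H80.M12.Classes
import Cfsg.Agent.S3035
import Cfsg.Agent.S0111
import Cfsg.Agent.H50.AltEight.Classify

/-!
The centralizer of the second class of involutions in the twisted case: its quotient by the
involution is `S₄` or `S₅`.
-/

set_option autoImplicit false
set_option maxRecDepth 8000

namespace Cfsg.Agent.H80.M12

open Cfsg.Agent.H16

/-- representatives of the dihedral group of order eight in the centralizer of `cI` -/
def dReps : List Nat := [0, 18, 24, 42, 54, 84, 78, 60]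

/-- representative of an element of the dihedral group -/
def dRep : DihedralGroup 4 → Nat
  | .r i => dReps.getD i.val 0
  | .sr i => dReps.getD (4 + i.val) 0

/-- equal modulo `cI` -/
noncomputable def eqModC (a b : Nat) : Bool := Nat.beq a b || Nat.beq a (mul b cI)

theorem dih_chk : ∀ d e : DihedralGroup 4,
    (commB (dRep d) cI && Nat.ble (Nat.succ (dRep d)) 192 &&
      eqModC (mul (dRep d) (dRep e)) (dRep (d * e)) &&
      imp (eqModC (dRep d) 0) (decide (d = 1))) = true := by
  decide +kernel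

theorem dih_surj_chk : allL (fun a => imp (commB a cI)
    (!allFrom (fun i => !eqModC a (dReps.getD i 0)) 8 0)) = true := by
  decide +kernel

theorem second_chk : (Nat.beq (app (caseAt 0).tab cI) cI && memT cI &&
    allT (fun x => !allT (fun x => !(Nat.beq (cls x) 4 && Nat.beq (cls (app (caseAt 0).tab x)) 2))) &&
    memT 24 && commB 24 cI &&
    !eqModC (mul (app (caseAt 0).tab 24) (inv 24)) 0 &&
    eqModC (mul (mul (app (caseAt 0).tab 24) (inv 24)) (mul (app (caseAt 0).tab 24) (inv 24))) 0 &&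
    Nat.beq (cls (mul sI cI)) 3 &&
    commB 150 cI && Nat.beq (cls 150) 3 && Nat.beq (cls (mul 150 cI)) 3 &&
    allFrom (fun i => imp (Nat.beq (mul (dReps.getD i 0) (dReps.getD i 0)) 0 ||
      Nat.beq (mul (dReps.getD i 0) (dReps.getD i 0)) cI) (Nat.beq i 0 || Nat.beq i 2)) 4 0 &&
    allFrom (fun i => !eqModC 150 (dReps.getD i 0)) 4 0 &&
    eqModC 24 (dReps.getD 2 0) && eqModC sI (dReps.getD 2 0)) = true := by
  decide +kernel

theorem zmod_two_one : ∀ r : ZMod 2, r ≠ 0 → r = 1 := by decide

theorem dih_pow_eight : ∀ d : DihedralGroup 4, d ^ 8 = 1 := by decide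

namespace Amalgam

variable {G : Type*} [Group G] {s : G} {F : Frame s} {y : G}

theorem isConj_sig (A : Amalgam F (caseAt 0) y) : IsConj s (F.ι sigI) := by
  have h := allT_spec (show allT (fun x => !allT (fun x => !(Nat.beq (cls x) 4 &&
      Nat.beq (cls (app (caseAt 0).tab x)) 2))) = true by decide +kernel)
    (show (0 : Nat) < 192 by norm_num) (by decide +kernel)
  obtain ⟨x, hx, hxT, hx4, hx2⟩ : ∃ x, x < 192 ∧ memT x = true ∧ cls x = 4 ∧
      cls (app (caseAt 0).tab x) = 2 := by
    by_contra hc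
    push Not at hc
    rw [show allT (fun x => !(Nat.beq (cls x) 4 && Nat.beq (cls (app (caseAt 0).tab x)) 2)) = true
      from allFrom_of_forall fun x _ hx => ?_] at h
    · simp at h
    cases hm : memT x with
    | false => rfl
    | true =>
      by_cases h4 : cls x = 4
      · simp [beq_false (hc x (by omega) hm h4)]
      · simp [beq_false h4]
  have hlt := (A.tab_T x hx hxT).1
  have he : IsConj s (F.ι eI) := isConj_iff.mpr ⟨y, A.y_s⟩
  exact ((he.trans (F.isConj_of_cls_eq (by decide) hlt (cls_eI.trans hx2.symm)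
    (by rw [cls_eI]; norm_num))).trans (isConj_iff.mpr ⟨y, A.y_T x hx hxT⟩).symm).trans
    (F.isConj_of_cls_eq hx (by decide) (hx4.trans sig_cls.symm) (by rw [hx4]; norm_num))

/-- conjugates of the central involution in its centralizer -/
theorem isConj_iff_sType (A : Amalgam F (caseAt 0) y) {a : Nat} (ha : a < 192) :
    IsConj s (F.ι a) ↔ isSType a = true := by
  have he : IsConj s (F.ι eI) := isConj_iff.mpr ⟨y, A.y_s⟩
  constructor
  · intro hc
    have h0 : cls a ≠ 0 := (F.orderOf_two ha).mp (by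
      obtain ⟨g, hg⟩ := isConj_iff.mp hc
      rw [← hg]; exact ((MulAut.conj g).orderOf_eq s).trans F.orderOf_s)
    rcases cls_cases ha h0 with h | h | h | h
    · simp [isSType, h, cls_sI]
    · simp [isSType, h]
    · exact absurd hc (F.not_isConj_three ha h)
    · simp [isSType, h]
  · intro h
    simp only [isSType, Bool.or_eq_true] at h
    rcases h with (h | h) | h <;> have h' := Nat.eq_of_beq_eq_true h
    · rcases cls_cases ha (by omega) with e | e | e | e
      · rw [e, F.map_s]
      all_goals omega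
    · exact he.trans (F.isConj_of_cls_eq (by decide) ha (cls_eI.trans h'.symm)
        (by rw [cls_eI]; norm_num))
    · exact A.isConj_sig.trans (F.isConj_of_cls_eq (by decide) ha (sig_cls.trans h'.symm)
        (by rw [sig_cls]; norm_num))

/-- the centralizer of the second involution -/
def cC (F : Frame s) : Subgroup G := Subgroup.centralizer ({F.ι cI} : Set G)

theorem mem_cC {x : G} : x ∈ cC F ↔ x * F.ι cI = F.ι cI * x := by
  rw [cC, Subgroup.mem_centralizer_singleton_iff]

/-- the involution as an element of its centralizer -/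
def cElt (F : Frame s) : cC F := ⟨F.ι cI, mem_cC.mpr rfl⟩

instance : (Subgroup.zpowers (cElt F)).Normal := by
  refine ⟨fun n hn g => ?_⟩
  obtain ⟨k, rfl⟩ := Subgroup.mem_zpowers_iff.mp hn
  have hc : Commute g (cElt F) := Subtype.ext (mem_cC.mp g.2)
  rw [(hc.zpow_right k).eq, mul_inv_cancel_right]
  exact Subgroup.zpow_mem _ (Subgroup.mem_zpowers _) k

theorem mem_zc {x : cC F} : x ∈ Subgroup.zpowers (cElt F) ↔ (x : G) = 1 ∨ (x : G) = F.ι cI := by
  have h2 : cElt F * cElt F = 1 := Subtype.ext (by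
    show F.ι cI * F.ι cI = 1
    rw [← F.map_mul _ _ (by decide) (by decide), ← F.map_zero]
    exact congrArg F.ι (by decide +kernel))
  constructor
  · intro hx
    obtain ⟨k, rfl⟩ := Subgroup.mem_zpowers_iff.mp hx
    rcases Int.even_or_odd k with ⟨j, rfl⟩ | ⟨j, rfl⟩
    · left; rw [← two_mul, zpow_mul, zpow_two, h2, one_zpow]; rfl
    · right; rw [zpow_add, zpow_mul, zpow_two, h2, one_zpow, one_mul, zpow_one]; rfl
  · rintro (h | h)
    · rw [show x = 1 from Subtype.ext h]; exact one_mem _
    · rw [show x = cElt F from Subtype.ext h]; exact Subgroup.mem_zpowers _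

theorem eqModC_iff (F : Frame s) {a b : Nat} (ha : a < 192) (hb : b < 192) (hac : F.ι a ∈ cC F)
    (hbc : F.ι b ∈ cC F) : eqModC a b = true ↔
      (QuotientGroup.mk ⟨F.ι a, hac⟩ : cC F ⧸ Subgroup.zpowers (cElt F)) =
        QuotientGroup.mk ⟨F.ι b, hbc⟩ := by
  rw [QuotientGroup.eq, mem_zc, eqModC, Bool.or_eq_true]
  simp only [Subgroup.coe_mul, Subgroup.coe_inv]
  rw [inv_mul_eq_one, inv_mul_eq_iff_eq_mul]
  constructor
  · rintro (h | h)
    · left; rw [Nat.eq_of_beq_eq_true h]
    · right
      have hc2 : F.ι cI * F.ι cI = 1 := by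
        rw [← F.map_mul _ _ (by decide) (by decide), ← F.map_zero]
        exact congrArg F.ι (by decide +kernel)
      rw [Nat.eq_of_beq_eq_true h, F.map_mul _ _ hb (by decide), mul_assoc, hc2, mul_one]
  · rintro (h | h)
    · left; exact beq_true (F.inj a b ha hb h)
    · right
      have hc2 : F.ι cI * F.ι cI = 1 := by
        rw [← F.map_mul _ _ (by decide) (by decide), ← F.map_zero]
        exact congrArg F.ι (by decide +kernel)
      refine beq_true (F.inj _ _ ha (mul_lt hb (by decide)) ?_)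
      rw [F.map_mul _ _ hb (by decide), h, mul_assoc, hc2, mul_one]

theorem commB_mem {a : Nat} (ha : a < 192) (h : commB a cI = true) : F.ι a ∈ cC F :=
  mem_cC.mpr ((F.commB_iff ha (by decide)).mp h)

/-- The quotient by the involution is `S₄` or `S₅`. -/
theorem second_quotient [Finite G] (A : Amalgam F (caseAt 0) y) :
    Nonempty (cC F ⧸ Subgroup.zpowers (cElt F) ≃* Equiv.Perm (Fin 4)) ∨
      Nonempty (cC F ⧸ Subgroup.zpowers (cElt F) ≃* Equiv.Perm (Fin 5)) := by
  have hk := second_chk
  simp only [Bool.and_eq_true] at hk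
  obtain ⟨⟨⟨⟨⟨⟨⟨⟨⟨⟨⟨⟨⟨⟨hφc, hcT⟩, -⟩, h24T⟩, h24c⟩, hw1⟩, hw2⟩, hsc3⟩, h150c⟩, h150a⟩,
    h150b⟩, hcyc⟩, h150n⟩, h24s⟩, hss⟩ := hk
  set Z := cC F ⧸ Subgroup.zpowers (cElt F) with hZ
  let π : cC F →* Z := QuotientGroup.mk' _
  have hscK : F.ι sI ∈ cC F := commB_mem (by decide) (by decide +kernel)
  set z : Z := π ⟨F.ι sI, hscK⟩ with hzdef
  have hnsc : ¬ IsConj s (F.ι (mul sI cI)) :=
    F.not_isConj_three (mul_lt (by decide) (by decide)) (Nat.eq_of_beq_eq_true hsc3)
  have lift : ∀ x : cC F, ∀ b, b < 192 → ∀ hb : F.ι b ∈ cC F,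
      π x * z * (π x)⁻¹ = π ⟨F.ι b, hb⟩ →
      (x : G) * s * (x : G)⁻¹ = F.ι b ∨ (x : G) * s * (x : G)⁻¹ = F.ι b * F.ι cI := by
    intro x b hb' hb h
    rw [hzdef, ← map_inv, ← map_mul, ← map_mul] at h
    have h2 := QuotientGroup.eq.mp h.symm
    rw [mem_zc] at h2
    simp only [Subgroup.coe_mul, Subgroup.coe_inv, F.map_s] at h2
    rcases h2 with h2 | h2
    · left; exact (inv_mul_eq_one.mp h2).symm
    · right; exact inv_mul_eq_iff_eq_mul.mp h2
  -- the centralizer of `z`
  have hmem : ∀ x : cC F, π x * z = z * π x → ∃ a, a < 192 ∧ F.ι a = x := by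
    intro x hx
    rcases lift x sI (by decide) hscK (mul_inv_eq_iff_eq_mul.mpr hx) with h | h
    · exact F.surj _ (by rw [F.map_s] at h; exact mul_inv_eq_iff_eq_mul.mp h)
    · exfalso
      refine hnsc (isConj_iff.mpr ⟨x, ?_⟩)
      rw [h, F.map_mul _ _ (by decide) (by decide)]
  have hrep : ∀ d, dRep d < 192 ∧ F.ι (dRep d) ∈ cC F := by
    intro d
    have h := dih_chk d d
    simp only [Bool.and_eq_true] at h
    exact ⟨Nat.le_of_ble_eq_true h.1.1.2, commB_mem (Nat.le_of_ble_eq_true h.1.1.2) h.1.1.1⟩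
  let δ : DihedralGroup 4 →* Z := MonoidHom.mk' (fun d => π ⟨F.ι (dRep d), (hrep d).2⟩) (by
    intro d e
    have h := dih_chk d e
    simp only [Bool.and_eq_true] at h
    have hm : mul (dRep d) (dRep e) < 192 := mul_lt (hrep d).1 (hrep e).1
    have hmc : F.ι (mul (dRep d) (dRep e)) ∈ cC F := by
      rw [F.map_mul _ _ (hrep d).1 (hrep e).1]; exact mul_mem (hrep d).2 (hrep e).2
    have h2 := (eqModC_iff F hm (hrep (d * e)).1 hmc (hrep (d * e)).2).mp h.1.2
    rw [← map_mul]
    refine h2.symm.trans ?_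
    exact congrArg _ (Subtype.ext (F.map_mul _ _ (hrep d).1 (hrep e).1)))
  have δinj : Function.Injective δ := by
    rw [← MonoidHom.ker_eq_bot_iff, Subgroup.eq_bot_iff_forall]
    intro d hd
    have h := dih_chk d d
    simp only [Bool.and_eq_true] at h
    have hd' : π ⟨F.ι (dRep d), (hrep d).2⟩ = 1 := hd
    have h0 : F.ι 0 ∈ cC F := by rw [F.map_zero]; exact one_mem _
    refine of_decide_eq_true (imp_spec h.2 ((eqModC_iff F (hrep d).1 (by norm_num) (hrep d).2 h0).mpr ?_))
    refine hd'.trans ?_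
    rw [show (⟨F.ι 0, h0⟩ : cC F) = 1 from Subtype.ext F.map_zero]
    rfl
  have δimg : ∀ a, a < 192 → ∀ hac : F.ι a ∈ cC F, ∃ d, δ d = π ⟨F.ι a, hac⟩ := by
    intro a ha hac
    have hc : commB a cI = true := (F.commB_iff ha (by decide)).mpr (mem_cC.mp hac)
    have h := imp_spec (allL_spec dih_surj_chk ha) hc
    obtain ⟨i, hi, hie⟩ : ∃ i, i < 8 ∧ eqModC a (dReps.getD i 0) = true := by
      by_contra hcon
      push Not at hcon
      rw [allFrom_of_forall (p := fun i => !eqModC a (dReps.getD i 0))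
        (fun i _ hi => by simpa using hcon i (by omega))] at h
      simp at h
    obtain ⟨d, hd⟩ : ∃ d, dRep d = dReps.getD i 0 := by
      by_cases h4 : i < 4
      · exact ⟨.r (i : ZMod 4), by simp [dRep, ZMod.val_natCast, Nat.mod_eq_of_lt h4]⟩
      · exact ⟨.sr ((i - 4 : ℕ) : ZMod 4), by
          simp [dRep, ZMod.val_natCast, Nat.mod_eq_of_lt (by omega : i - 4 < 4),
            Nat.add_sub_cancel' (by omega : 4 ≤ i)]⟩
    rw [← hd] at hie
    exact ⟨d, ((eqModC_iff F ha (hrep d).1 hac (hrep d).2).mp hie).symm⟩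
  have δrange : δ.range = Subgroup.centralizer ({z} : Set Z) := by
    apply le_antisymm
    · rintro _ ⟨d, rfl⟩
      rw [Subgroup.mem_centralizer_singleton_iff]
      show π _ * z = z * π _
      rw [hzdef, ← map_mul, ← map_mul]
      refine congrArg π (Subtype.ext ?_)
      show F.ι (dRep d) * F.ι sI = F.ι sI * F.ι (dRep d)
      rw [F.map_s]; exact F.comm_s (hrep d).1
    · intro w hw
      obtain ⟨x, rfl⟩ := QuotientGroup.mk_surjective w
      rw [Subgroup.mem_centralizer_singleton_iff] at hw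
      obtain ⟨a, ha, hae⟩ := hmem x (by first | exact hw | exact hw.symm)
      obtain ⟨d, hd⟩ := δimg a ha (hae ▸ x.2)
      exact ⟨d, hd.trans (congrArg π (Subtype.ext hae))⟩
  have eD : DihedralGroup 4 ≃* Subgroup.centralizer ({z} : Set Z) :=
    (MonoidHom.ofInjective δinj).trans (MulEquiv.subgroupCongr δrange)
  have hz2 : orderOf z = 2 := by
    rw [orderOf_eq_prime_iff]
    refine ⟨?_, fun e => ?_⟩
    · rw [pow_two, hzdef, ← map_mul, ← map_one π]
      refine congrArg π (Subtype.ext ?_)
      show F.ι sI * F.ι sI = 1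
      have := pow_orderOf_eq_one s
      rw [F.orderOf_s, pow_two] at this
      rw [F.map_s, this]
    · have h0 : F.ι 0 ∈ cC F := by rw [F.map_zero]; exact one_mem _
      have := (eqModC_iff F (a := sI) (b := 0) (by decide) (by norm_num) hscK h0).mpr (by
        refine e.trans ?_
        rw [show (⟨F.ι 0, h0⟩ : cC F) = 1 from Subtype.ext F.map_zero]
        rfl)
      rw [show eqModC sI 0 = false by decide +kernel] at this
      simp at this
  -- the element of order three
  have hyc : y ∈ cC F := by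
    rw [mem_cC]
    have := A.y_T cI (by decide) hcT
    rw [Nat.eq_of_beq_eq_true hφc] at this
    exact mul_inv_eq_iff_eq_mul.mp this
  have h24K : F.ι 24 ∈ cC F := commB_mem (by decide) h24c
  obtain hZcase | h4 | h5 | hL | hA :=
    S3035.result z hz2 ⟨eD.symm⟩
  · exfalso
    set O := Cfsg.oddCore Z with hO
    haveI : O.Normal := H19.pPrimeCore_normal 2 Z
    have hoddO : Odd (Nat.card O) := Nat.coprime_two_right.mp (H19.pPrimeCore_coprime 2)
    have hyO : π ⟨y, hyc⟩ ∈ O := by
      have hmem' : π ⟨y, hyc⟩ ∈ Subgroup.centralizer ({z} : Set Z) ⊔ O := by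
        rw [hZcase]; exact Subgroup.mem_top _
      rw [sup_comm, ← SetLike.mem_coe, Subgroup.normal_mul O] at hmem'
      obtain ⟨o, ho, h, hh, hoh⟩ := Set.mem_mul.mp hmem'
      obtain ⟨d, hd⟩ : ∃ d, δ d = h := by rw [← MonoidHom.mem_range, δrange]; exact hh
      let q : Z →* Z ⧸ O := QuotientGroup.mk' O
      have e1 : q (π ⟨y, hyc⟩) = q (δ d) := by
        rw [← hoh, map_mul, (QuotientGroup.eq_one_iff o).mpr ho |> fun e => (show q o = 1 from e),
          one_mul, hd]
      have e3 : (q (π ⟨y, hyc⟩)) ^ 3 = 1 := by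
        rw [← map_pow, ← map_pow, show (⟨y, hyc⟩ : cC F) ^ 3 = 1 from Subtype.ext A.y_cube,
          map_one, map_one]
      have e8 : (q (π ⟨y, hyc⟩)) ^ 8 = 1 := by
        rw [e1, ← map_pow, ← map_pow]
        have : d ^ 8 = 1 := dih_pow_eight d
        rw [this, map_one, map_one]
      refine (QuotientGroup.eq_one_iff _).mp ?_
      show q (π ⟨y, hyc⟩) = 1
      rw [← pow_one (q (π ⟨y, hyc⟩)), show (1 : ℕ) = Nat.gcd 3 8 by norm_num]
      exact pow_gcd_eq_one.mpr ⟨e3, e8⟩
    set w : Z := π ⟨y, hyc⟩ * π ⟨F.ι 24, h24K⟩ * (π ⟨y, hyc⟩)⁻¹ * (π ⟨F.ι 24, h24K⟩)⁻¹ with hw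
    have hwO : w ∈ O := by
      rw [hw, mul_assoc, mul_assoc]
      exact mul_mem hyO (by
        simpa [mul_assoc] using Subgroup.Normal.conj_mem inferInstance _ (inv_mem hyO)
          (π ⟨F.ι 24, h24K⟩))
    have hwlt : mul (app (caseAt 0).tab 24) (inv 24) < 192 :=
      mul_lt (A.tab_T 24 (by decide) h24T).1 (inv_lt (by decide))
    have hwv : F.ι (mul (app (caseAt 0).tab 24) (inv 24)) =
        y * F.ι 24 * y⁻¹ * (F.ι 24)⁻¹ := by
      rw [F.map_mul _ _ (A.tab_T 24 (by decide) h24T).1 (inv_lt (by decide)),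
        F.map_inv (by decide), A.y_T 24 (by decide) h24T]
    have hwK : F.ι (mul (app (caseAt 0).tab 24) (inv 24)) ∈ cC F := by
      rw [hwv]; exact mul_mem (mul_mem (mul_mem hyc h24K) (inv_mem hyc)) (inv_mem h24K)
    have hwπ : π ⟨_, hwK⟩ = w := by
      rw [hw, ← map_inv, ← map_inv, ← map_mul, ← map_mul, ← map_mul]
      exact congrArg π (Subtype.ext hwv)
    have h0 : F.ι 0 ∈ cC F := by rw [F.map_zero]; exact one_mem _
    have hone : (QuotientGroup.mk (⟨F.ι 0, h0⟩ : cC F) : Z) = 1 := by
      rw [show (⟨F.ι 0, h0⟩ : cC F) = 1 from Subtype.ext F.map_zero]; rfl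
    have hwne : w ≠ 1 := by
      intro e
      have := (eqModC_iff F hwlt (by norm_num) hwK h0).mpr (hwπ.trans (e.trans hone.symm))
      simp [this] at hw1
    have hw2' : w ^ 2 = 1 := by
      have hm : F.ι (mul (mul (app (caseAt 0).tab 24) (inv 24)) (mul (app (caseAt 0).tab 24) (inv 24))) ∈
          cC F := by rw [F.map_mul _ _ hwlt hwlt]; exact mul_mem hwK hwK
      have h2 := (eqModC_iff F (mul_lt hwlt hwlt) (by norm_num) hm h0).mp hw2
      rw [pow_two, ← hwπ, ← map_mul]
      refine (congrArg π (Subtype.ext ?_)).trans (h2.trans hone)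
      exact (F.map_mul _ _ hwlt hwlt).symm
    have hord : orderOf w = 2 := orderOf_eq_prime hw2' hwne
    have hdvd : orderOf w ∣ Nat.card O := by
      rw [← Subgroup.orderOf_mk w hwO]; exact orderOf_dvd_natCard _
    rw [hord] at hdvd
    exact (Nat.not_even_iff_odd.mpr hoddO) (even_iff_two_dvd.mpr hdvd)
  · exact Or.inl h4
  · exact Or.inr h5
  all_goals
  · exfalso
    haveI := Fact.mk Nat.prime_two
    have hsimple : IsSimpleGroup Z ∧ Nat.card Z % 16 = 8 := by
      first
        | obtain ⟨e⟩ := hA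
          haveI : IsSimpleGroup (alternatingGroup (Fin 6)) := alternatingGroup.isSimpleGroup (by simp)
          refine ⟨e.isSimpleGroup, ?_⟩
          rw [Nat.card_congr e.toEquiv, nat_card_alternatingGroup]
          norm_num [Nat.card_eq_fintype_card, Nat.factorial]
        | obtain ⟨e⟩ := hL
          have hone := zmod_two_one
          let ι : Matrix.SpecialLinearGroup (Fin 3) (ZMod 2) →* GL (Fin 3) (ZMod 2) :=
            Matrix.SpecialLinearGroup.toGL
          have hιs : Function.Surjective ι := fun g =>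
            ⟨⟨(g : Matrix (Fin 3) (Fin 3) (ZMod 2)),
              hone _ (g.isUnit.map Matrix.detMonoidHom).ne_zero⟩, Units.ext rfl⟩
          have hιi : Function.Injective ι := fun a b h => Subtype.ext (congrArg Units.val h)
          obtain ⟨hS, hc⟩ := H50.AltEight.gl_three_two
          haveI := hS
          have e' := e.trans (MulEquiv.ofBijective ι ⟨hιi, hιs⟩)
          exact ⟨e'.isSimpleGroup, by rw [Nat.card_congr e'.toEquiv, hc]⟩
    obtain ⟨hS, h16⟩ := hsimple
    haveI := hS
    have hcardC : Nat.card (Subgroup.centralizer ({z} : Set Z)) = 2 ^ 3 := by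
      rw [← Nat.card_congr eD.toEquiv, DihedralGroup.nat_card]; norm_num
    obtain ⟨P, hP⟩ := (IsPGroup.of_card hcardC).exists_le_sylow
    have hPeq : (P : Subgroup Z) = Subgroup.centralizer ({z} : Set Z) := by
      refine (Subgroup.eq_of_le_of_card_ge hP ?_).symm
      rw [hcardC]
      obtain ⟨k, hk⟩ := IsPGroup.iff_card.mp P.isPGroup'
      rw [hk]
      by_contra hlt
      have hk4 : 4 ≤ k := by
        by_contra h
        exact hlt (Nat.pow_le_pow_right (by norm_num) (by omega))
      have := ((pow_dvd_pow 2 hk4).trans (hk ▸ Subgroup.card_subgroup_dvd_card (P : Subgroup Z)))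
      omega
    have hr : ∀ j : ZMod 4, δ (DihedralGroup.r j) ∈ Subgroup.zpowers (δ (DihedralGroup.r 1)) := by
      intro j
      refine ⟨(j.val : ℤ), ?_⟩
      show δ (DihedralGroup.r 1) ^ (j.val : ℤ) = _
      rw [zpow_natCast, ← map_pow, DihedralGroup.r_one_pow, ZMod.natCast_zmod_val]
    set Q := Subgroup.zpowers (δ (DihedralGroup.r 1)) with hQ
    have hQP : Q ≤ (P : Subgroup Z) := by
      rw [hQ, Subgroup.zpowers_le, hPeq, ← δrange]; exact ⟨_, rfl⟩
    have hQcard : Nat.card Q = 4 := by
      rw [hQ, Nat.card_zpowers, orderOf_injective δ δinj, DihedralGroup.orderOf_r_one]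
    have hQi : Q.relIndex (P : Subgroup Z) = 2 := by
      have hi := Subgroup.relIndex_mul_relIndex (⊥ : Subgroup Z) Q (P : Subgroup Z) bot_le hQP
      rw [Subgroup.relIndex_bot_left, Subgroup.relIndex_bot_left, hQcard, hPeq, hcardC, ← hPeq] at hi
      omega
    have h150K : F.ι 150 ∈ cC F := commB_mem (by decide) h150c
    obtain ⟨du, hdu⟩ := δimg 150 (by decide) h150K
    have hu2 : orderOf (δ du) = 2 := by
      rw [orderOf_eq_prime_iff]
      refine ⟨?_, fun e => ?_⟩
      · rw [hdu, pow_two, ← map_mul, ← map_one π]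
        refine congrArg π (Subtype.ext ?_)
        show F.ι 150 * F.ι 150 = 1
        rw [← F.map_mul _ _ (by decide) (by decide), ← F.map_zero]
        exact congrArg F.ι (by decide +kernel)
      · have := allFrom_spec h150n 0 le_rfl (by norm_num)
        have h0 : F.ι 0 ∈ cC F := by rw [F.map_zero]; exact one_mem _
        rw [(eqModC_iff F (by decide : 150 < 192) (by norm_num : 0 < 192) h150K h0).mpr (by
          refine (hdu.symm.trans e).trans ?_
          rw [show (⟨F.ι 0, h0⟩ : cC F) = 1 from Subtype.ext F.map_zero]; rfl) |>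
          fun e => (show eqModC 150 (dReps.getD 0 0) = true from e)] at this
        simp at this
    have huP : δ du ∈ (P : Subgroup Z) := by rw [hPeq, ← δrange]; exact ⟨_, rfl⟩
    have huQ : δ du ∉ Q := by
      rintro ⟨k, hk⟩
      obtain ⟨j, hj⟩ : ∃ j : ZMod 4, DihedralGroup.r j = (DihedralGroup.r 1 : DihedralGroup 4) ^ k :=
        ⟨k, by rw [DihedralGroup.r_one_zpow]⟩
      have hd : du = DihedralGroup.r j := δinj (by
        rw [hj, map_zpow]; exact hk.symm)
      have hjv : j.val < 4 := ZMod.val_lt j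
      have h := allFrom_spec h150n j.val (Nat.zero_le _) (by omega)
      rw [hd] at hdu
      rw [(eqModC_iff F (by decide : 150 < 192) (hrep (.r j)).1 h150K (hrep (.r j)).2).mpr
        hdu.symm |> fun e => (show eqModC 150 (dReps.getD j.val 0) = true from e)] at h
      simp at h
    rcases S0111.result P Q hQP hQi (δ du) hu2 huP huQ with ⟨M, hMn, hMi, huM⟩ | ⟨g, hg⟩
    · rcases hMn.eq_bot_or_eq_top with e | e
      · rw [e, Subgroup.index_bot] at hMi; omega
      · exact huM (e ▸ Subgroup.mem_top _)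
    · obtain ⟨k, hk⟩ := hg
      obtain ⟨j, hj⟩ : ∃ j : ZMod 4, DihedralGroup.r j = (DihedralGroup.r 1 : DihedralGroup 4) ^ k :=
        ⟨k, by rw [DihedralGroup.r_one_zpow]⟩
      have hge : g * δ du * g⁻¹ = δ (DihedralGroup.r j) := by rw [hj, map_zpow]; exact hk.symm
      have hjo : orderOf (DihedralGroup.r j : DihedralGroup 4) = 2 := by
        rw [← orderOf_injective δ δinj, ← hge]
        exact ((MulAut.conj g).orderOf_eq _).trans hu2
      have hj2 : j = 2 := by
        have h4 : ∀ j : ZMod 4, (DihedralGroup.r j : DihedralGroup 4) ^ 2 = 1 → j = 0 ∨ j = 2 := by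
          decide
        rcases h4 j (hjo ▸ pow_orderOf_eq_one _) with e | e
        · rw [e, show (DihedralGroup.r 0 : DihedralGroup 4) = 1 from rfl, orderOf_one] at hjo
          omega
        · exact e
      rw [hj2] at hge
      have hz : δ (DihedralGroup.r 2) = z := by
        have := (eqModC_iff F (a := sI) (by decide) (hrep (.r 2)).1 hscK (hrep (.r 2)).2).mp hss
        exact this.symm
      rw [hz, hdu] at hge
      obtain ⟨x, rfl⟩ := QuotientGroup.mk_surjective g
      have h' : π x⁻¹ * z * (π x⁻¹)⁻¹ = π ⟨F.ι 150, h150K⟩ := by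
        change π x * π ⟨F.ι 150, h150K⟩ * (π x)⁻¹ = z at hge
        rw [← hge, map_inv]
        group
      rcases lift x⁻¹ 150 (by decide) h150K h' with h | h
      · exact F.not_isConj_three (by decide) (Nat.eq_of_beq_eq_true h150a)
          (isConj_iff.mpr ⟨_, h⟩)
      · refine F.not_isConj_three (mul_lt (by decide) (by decide)) (Nat.eq_of_beq_eq_true h150b)
          (isConj_iff.mpr ⟨((x⁻¹ : cC F) : G), ?_⟩)
        rw [h, F.map_mul _ _ (by decide) (by decide)]

end Amalgam

end Cfsg.Agent.H80.M12
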