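import Cfsg.Agent.H80.M12.Frame

/-! Fusion of the central involution, and the element of order three. -/

set_option autoImplicit false

namespace Cfsg.Agent.H80.M12

open Cfsg.Agent.H16

/-- the centralizer of an element in the table group, as a set of numbers -/
noncomputable def centF (a : Nat) : Finset Nat :=
  (Finset.Ico 0 (0 + 192)).filter fun x => commB x a = true

theorem card_centF (a : Nat) : (centF a).card = countFrom (fun x => commB x a) 192 0 :=
  (countFrom_spec 192 0).symm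

theorem mem_centF {a x : Nat} : x ∈ centF a ↔ x < 192 ∧ commB x a = true := by
  simp [centF]

theorem comm_pair_chk : allL (fun x => imp (Nat.beq (cls x) 3) (anyL fun a => commB a x &&
    anyL fun b => commB b x && !commB a b)) = true := by
  decide +kernel

theorem cls_cases {a : Nat} (ha : a < 192) (h0 : cls a ≠ 0) :
    a = sI ∨ cls a = 2 ∨ cls a = 3 ∨ cls a = 4 := by
  have h1 := allL_spec cls_chk ha
  simp only [beq_false h0, Bool.not_false, Bool.and_eq_true, Bool.or_eq_true,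
    Bool.not_eq_true'] at h1
  have h4 : cls a ≤ 4 := Nat.le_of_ble_eq_true h1.1.2
  interval_cases hq : cls a
  · exact absurd rfl h0
  · rcases h1.2 with h | h
    · exact Or.inl (Nat.eq_of_beq_eq_true h)
    · simp at h
  · exact Or.inr (Or.inl rfl)
  · exact Or.inr (Or.inr (Or.inl rfl))
  · exact Or.inr (Or.inr (Or.inr rfl))

theorem cls_sI : cls sI = 1 := by decide +kernel
theorem cls_eI : cls eI = 2 := by decide +kernel
theorem cls_esI : cls esI = 2 := by decide +kernel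

theorem comm_conj {G : Type*} [Group G] (k : G) {u v : G} (h : u * v = v * u) :
    k * u * k⁻¹ * (k * v * k⁻¹) = k * v * k⁻¹ * (k * u * k⁻¹) := by
  rw [conj_mul, conj_mul, h]

namespace Frame

variable {G : Type*} [Group G] {s : G} (F : Frame s)

include F in
theorem orderOf_s : orderOf s = 2 := by
  rw [← F.map_s]; exact (F.orderOf_two (by decide)).mpr (by rw [cls_sI]; norm_num)

/-- A conjugation carrying `ι a` to the centre and the centre to `ι b` matches the centralizers. -/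
theorem card_centF_eq {a b : Nat} (ha : a < 192) (hb : b < 192) {h : G}
    (h1 : h * F.ι a * h⁻¹ = s) (h2 : h * s * h⁻¹ = F.ι b) : (centF a).card = (centF b).card := by
  have key : ∀ (u v : Nat), u < 192 → v < 192 → ∀ k : G, k * F.ι u * k⁻¹ = s →
      k * s * k⁻¹ = F.ι v → ∀ x ∈ centF u, ∃ y ∈ centF v, F.ι y = k * F.ι x * k⁻¹ := by
    intro u v hu hv k k1 k2 x hx
    obtain ⟨hx, hxc⟩ := mem_centF.mp hx
    have hxu := (F.commB_iff hx hu).mp hxc
    have e1 : k * F.ι x * k⁻¹ * s = s * (k * F.ι x * k⁻¹) := by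
      have := comm_conj k hxu
      rwa [k1] at this
    obtain ⟨y, hy, hyx⟩ := F.surj _ e1
    refine ⟨y, mem_centF.mpr ⟨hy, (F.commB_iff hy hv).mpr ?_⟩, hyx⟩
    rw [hyx, ← k2]
    exact comm_conj k (F.comm_s hx)
  have h1' : h⁻¹ * F.ι b * h⁻¹⁻¹ = s := by rw [← h2]; group
  have h2' : h⁻¹ * s * h⁻¹⁻¹ = F.ι a := by
    have e0 : h⁻¹ * (h * F.ι a * h⁻¹) * h⁻¹⁻¹ = F.ι a := by group
    rwa [h1] at e0
  have k1 := key a b ha hb h h1 h2
  have k2 := key b a hb ha h⁻¹ h1' h2'
  choose f hf hfe using k1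
  refine Finset.card_bij f hf ?_ ?_
  · intro x hx y hy he
    have := congrArg F.ι he
    rw [hfe x hx, hfe y hy] at this
    exact F.inj x y (mem_centF.mp hx).1 (mem_centF.mp hy).1 (conj_injective.eq_iff.mp this)
  · intro y hy
    obtain ⟨x, hx, hxe⟩ := k2 y hy
    refine ⟨x, hx, F.inj _ _ (mem_centF.mp (hf x hx)).1 (mem_centF.mp hy).1 ?_⟩
    rw [hfe x hx, hxe]; group

theorem exists_swapped {a : Nat} (ha : a < 192) (hne : a ≠ sI) {h : G}
    (h1 : h * F.ι a * h⁻¹ = s) :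
    ∃ b, b < 192 ∧ cls b ≠ 0 ∧ b ≠ sI ∧ F.ι b = h * s * h⁻¹ := by
  have e1 : h * s * h⁻¹ * s = s * (h * s * h⁻¹) := by
    have := comm_conj h (F.comm_s ha).symm
    rwa [h1] at this
  obtain ⟨b, hb, hbe⟩ := F.surj _ e1
  refine ⟨b, hb, (F.orderOf_two hb).mp ?_, fun e => hne (F.inj a sI ha (by decide) ?_), hbe⟩
  · rw [hbe]
    exact ((MulAut.conj h).orderOf_eq s).trans F.orderOf_s
  · rw [F.map_s]
    have : h * s * h⁻¹ = h * F.ι a * h⁻¹ := by rw [← hbe, e, F.map_s, h1]
    exact (conj_injective.eq_iff.mp this).symm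

theorem card_centF_cls {b : Nat} (hb : b < 192) :
    (cls b = 2 → (centF b).card = 32) ∧ (cls b = 3 → (centF b).card = 16) ∧
      (cls b = 4 → (centF b).card = 8) := by
  have h := allL_spec cent_size hb
  simp only [Bool.and_eq_true] at h
  refine ⟨fun e => ?_, fun e => ?_, fun e => ?_⟩ <;> rw [card_centF]
  · exact Nat.eq_of_beq_eq_true (imp_spec h.1.1 (beq_true e))
  · exact Nat.eq_of_beq_eq_true (imp_spec h.1.2 (beq_true e))
  · exact Nat.eq_of_beq_eq_true (imp_spec h.2 (beq_true e))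

/-- The twelve noncentral involutions of the core that are not normalised are not conjugate to
the centre. -/
theorem not_isConj_three {a : Nat} (ha : a < 192) (h3 : cls a = 3) : ¬ IsConj s (F.ι a) := by
  intro hc
  obtain ⟨h, h1⟩ := isConj_iff.mp hc.symm
  have hne : a ≠ sI := fun e => by rw [e, cls_sI] at h3; omega
  obtain ⟨b, hb, hb0, hbs, hbe⟩ := F.exists_swapped ha hne h1
  have hcard := F.card_centF_eq ha hb h1 hbe.symm
  rw [(card_centF_cls ha).2.1 h3] at hcard
  have hb3 : cls b = 3 := by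
    rcases cls_cases hb hb0 with h | h | h | h
    · exact absurd h hbs
    · rw [(card_centF_cls hb).1 h] at hcard; omega
    · exact h
    · rw [(card_centF_cls hb).2.2 h] at hcard; omega
  obtain ⟨p, hp, hp'⟩ := anyL_spec (imp_spec (allL_spec comm_pair_chk ha) (beq_true h3))
  rw [Bool.and_eq_true] at hp'
  obtain ⟨q, hq, hq'⟩ := anyL_spec hp'.2
  rw [Bool.and_eq_true, Bool.not_eq_true'] at hq'
  have hk := allL_spec (imp_spec (allL_spec (imp_spec (allL_spec comm_chk ha) (beq_true h3)) hp)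
    hp'.1) hq
  have hk2 := imp_spec hk hq'.1
  rw [Bool.or_eq_true, hq'.2] at hk2
  have hpq : F.ι p * F.ι q = s * (F.ι q * F.ι p) := by
    rcases hk2 with h | h
    · simp at h
    rw [← F.map_mul p q hp hq, Nat.eq_of_beq_eq_true h, F.map_mul _ _ (by decide) (mul_lt hq hp),
      F.map_mul q p hq hp, F.map_s]
  have img : ∀ x, x < 192 → commB x a = true →
      ∃ y, y < 192 ∧ commB y b = true ∧ F.ι y = h * F.ι x * h⁻¹ := by
    intro x hx hxc
    have e1 : h * F.ι x * h⁻¹ * s = s * (h * F.ι x * h⁻¹) := by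
      have := comm_conj h ((F.commB_iff hx ha).mp hxc)
      rwa [h1] at this
    obtain ⟨y, hy, hye⟩ := F.surj _ e1
    exact ⟨y, hy, (F.commB_iff hy hb).mpr (by rw [hye, hbe]; exact comm_conj h (F.comm_s hx)),
      hye⟩
  obtain ⟨P, hP, hPc, hPe⟩ := img p hp hp'.1
  obtain ⟨R, hR, hRc, hRe⟩ := img q hq hq'.1
  have hk3 := imp_spec (allL_spec (imp_spec (allL_spec (imp_spec (allL_spec comm_chk hb)
    (beq_true hb3)) hP) hPc) hR) hRc
  have e2 : F.ι P * F.ι R = F.ι b * (F.ι R * F.ι P) := by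
    rw [hPe, hRe, hbe]
    simp only [conj_mul, hpq]
  rw [Bool.or_eq_true] at hk3
  rcases hk3 with h | h
  · have e3 := (F.commB_iff hP hR).mp h
    rw [e3] at e2
    have : F.ι b = F.ι 0 := by
      rw [F.map_zero]; exact mul_right_cancel (b := F.ι R * F.ι P) (by rw [one_mul, ← e2])
    rw [F.inj b 0 hb (by norm_num) this] at hb0
    exact hb0 (by decide +kernel)
  · have e3 : F.ι P * F.ι R = s * (F.ι R * F.ι P) := by
      rw [← F.map_mul _ _ hP hR, Nat.eq_of_beq_eq_true h,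
        F.map_mul _ _ (by decide) (mul_lt hR hP), F.map_mul _ _ hR hP, F.map_s]
    rw [e3] at e2
    exact hbs (F.inj b sI hb (by decide) (by rw [F.map_s]; exact (mul_right_cancel e2).symm))

/-- If the centre fuses in its centralizer then it fuses with a noncentral involution of the
normal elementary subgroup of order eight. -/
theorem isConj_eI (hex : ∃ g : G, g * s * g⁻¹ * s = s * (g * s * g⁻¹) ∧ g * s * g⁻¹ ≠ s) :
    IsConj s (F.ι eI) := by
  have fin : ∀ b, b < 192 → (cls b = 2 ∨ cls b = 3) → IsConj s (F.ι b) → IsConj s (F.ι eI) := by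
    intro b hb h23 hc
    rcases h23 with h | h
    · exact hc.trans (F.isConj_of_cls_eq hb (by decide) (h.trans cls_eI.symm) (by omega))
    · exact absurd hc (F.not_isConj_three hb h)
  obtain ⟨g, hgc, hgne⟩ := hex
  obtain ⟨a, ha, hae⟩ := F.surj _ hgc
  have hconj : IsConj s (F.ι a) := isConj_iff.mpr ⟨g, hae.symm⟩
  have ha0 : cls a ≠ 0 := (F.orderOf_two ha).mp (by
    rw [hae]; exact ((MulAut.conj g).orderOf_eq s).trans F.orderOf_s)
  rcases cls_cases ha ha0 with h | h | h | h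
  · exact absurd (by rw [← hae, h, F.map_s]) hgne
  · exact fin a ha (Or.inl h) hconj
  · exact fin a ha (Or.inr h) hconj
  -- an involution outside the core
  have hsig : IsConj s (F.ι sigI) :=
    hconj.trans (F.isConj_of_cls_eq ha (by decide) (h.trans sig_cls.symm) ha0)
  obtain ⟨k, hk⟩ := isConj_iff.mp hsig.symm
  have hsne : sigI ≠ sI := by decide
  obtain ⟨c, hc, hc'⟩ := anyL_spec sigma_chk
  simp only [Bool.and_eq_true, Bool.or_eq_true] at hc'
  obtain ⟨⟨hcc, hc23⟩, hc4⟩ := hc'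
  have hcc' := (F.commB_iff hc (by decide : sigI < 192)).mp hcc
  have e1 : k * F.ι c * k⁻¹ * s = s * (k * F.ι c * k⁻¹) := by
    have := comm_conj k hcc'
    rwa [hk] at this
  obtain ⟨c', hc'lt, hc'e⟩ := F.surj _ e1
  have hc23' : cls c = 2 ∨ cls c = 3 :=
    hc23.imp Nat.eq_of_beq_eq_true Nat.eq_of_beq_eq_true
  have hc0 : cls c' ≠ 0 := (F.orderOf_two hc'lt).mp (by
    rw [hc'e]
    exact ((MulAut.conj k).orderOf_eq (F.ι c)).trans ((F.orderOf_two hc).mpr (by omega)))
  have hk' : IsConj (F.ι c) (F.ι c') := isConj_iff.mpr ⟨k, hc'e.symm⟩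
  rcases cls_cases hc'lt hc0 with h' | h' | h' | h'
  · exfalso
    rw [h', F.map_s] at hc'e
    have := F.inj _ _ (by decide) hc (conj_injective.eq_iff.mp (hk.trans hc'e))
    rw [← this, sig_cls] at hc23'
    omega
  rotate_left 2
  · exact fin c hc hc23' ((hsig.trans (F.isConj_of_cls_eq (by decide) hc'lt
      (sig_cls.trans h'.symm) (by rw [sig_cls]; norm_num))).trans hk'.symm)
  all_goals
  · have hm : IsConj s (F.ι (mul c' sI)) := by
      rw [F.map_mul _ _ hc'lt (by decide), F.map_s]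
      refine (hsig.trans (F.isConj_of_cls_eq (by decide) (mul_lt hc (by decide))
        (sig_cls.trans (Nat.eq_of_beq_eq_true hc4).symm) (by rw [sig_cls]; norm_num))).trans
        (isConj_iff.mpr ⟨k, ?_⟩)
      rw [F.map_mul _ _ hc (by decide), ← conj_mul, hk, hc'e]
    have := imp_spec (allL_spec (allL_spec core_closed hc'lt) (show sI < 192 by decide))
      (by simp [h'])
    rw [Bool.or_eq_true] at this
    exact fin _ (mul_lt hc'lt (by decide))
      (this.imp Nat.eq_of_beq_eq_true Nat.eq_of_beq_eq_true) hm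

/-- The element of order three cycling the four group. -/
theorem exists_cycle [Finite G] (hc : IsConj s (F.ι eI)) :
    ∃ y : G, y ^ 3 = 1 ∧ y * s * y⁻¹ = F.ι eI ∧ y * F.ι eI * y⁻¹ = F.ι esI := by
  obtain ⟨h, h1⟩ := isConj_iff.mp hc.symm
  obtain ⟨b, hb, hb0, hbs, hbe⟩ := F.exists_swapped (by decide : eI < 192) (by decide) h1
  have hcard := F.card_centF_eq (by decide) hb h1 hbe.symm
  rw [(card_centF_cls (by decide)).1 cls_eI] at hcard
  have hb2 : cls b = 2 := by
    rcases cls_cases hb hb0 with h | h | h | h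
    · exact absurd h hbs
    · exact h
    · rw [(card_centF_cls hb).2.1 h] at hcard; omega
    · rw [(card_centF_cls hb).2.2 h] at hcard; omega
  -- an element of `C(s)` moving `b` to `b * s`
  obtain ⟨k, hk⟩ := isConj_iff.mp (F.isConj_of_cls_eq (by decide : eI < 192) hb
    (cls_eI.trans hb2.symm) (by rw [cls_eI]; norm_num))
  have hmid : F.ι esI = F.ι eI * s := by
    have := F.map_mul eI sI (by decide) (by decide)
    rw [F.map_s] at this
    rw [← this]
    exact congrArg F.ι (by decide +kernel)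
  have hse : s * F.ι eI = F.ι eI * s := (F.comm_s (by decide)).symm
  -- a conjugate `ι l` of the swap fixing `s`
  obtain ⟨l, hl, hl'⟩ := anyL_spec (imp_spec (allL_spec (show allL (fun b' =>
    imp (Nat.beq (cls b') 2) (anyL fun l => Nat.beq (conj l b') (mul b' sI))) = true by
      decide +kernel) hb) (beq_true hb2))
  have e_l : F.ι l * F.ι b * (F.ι l)⁻¹ = F.ι b * s := by
    rw [← F.map_conj hl hb, Nat.eq_of_beq_eq_true hl', F.map_mul _ _ hb (by decide), F.map_s]
  set τ₁ := F.ι hhI with hτ₁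
  set τ₂ := h⁻¹ * F.ι l * h with hτ₂
  have a1 : τ₁ * s * τ₁⁻¹ = s := by rw [hτ₁, F.comm_s (by decide : hhI < 192)]; group
  have a2 : τ₁ * F.ι eI * τ₁⁻¹ = F.ι esI := by
    rw [← F.map_conj (by decide) (by decide)]
    exact congrArg F.ι (by decide +kernel)
  have e3 : h * F.ι esI * h⁻¹ = F.ι b * s := by
    rw [hmid, ← hse, ← conj_mul, h1, ← hbe]
  have a3 : τ₂ * F.ι eI * τ₂⁻¹ = F.ι eI := by
    have : F.ι eI = h⁻¹ * s * h := by
      have e0 : F.ι eI = h⁻¹ * (h * F.ι eI * h⁻¹) * h := by group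
      rwa [h1] at e0
    rw [this, hτ₂]
    calc _ = h⁻¹ * (F.ι l * s * (F.ι l)⁻¹) * h := by group
      _ = _ := by rw [F.comm_s hl]; group
  have a4 : τ₂ * s * τ₂⁻¹ = F.ι esI := by
    calc τ₂ * s * τ₂⁻¹ = h⁻¹ * (F.ι l * (h * s * h⁻¹) * (F.ι l)⁻¹) * h := by rw [hτ₂]; group
      _ = h⁻¹ * (h * F.ι esI * h⁻¹) * h := by rw [← hbe, e_l, e3]
      _ = _ := by group
  set y0 := τ₁ * τ₂ with hy0
  have b2 : y0 * F.ι eI * y0⁻¹ = F.ι esI := by
    calc _ = τ₁ * (τ₂ * F.ι eI * τ₂⁻¹) * τ₁⁻¹ := by rw [hy0]; group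
      _ = _ := by rw [a3, a2]
  have b1 : y0 * s * y0⁻¹ = F.ι eI := by
    calc _ = τ₁ * (τ₂ * s * τ₂⁻¹) * τ₁⁻¹ := by rw [hy0]; group
      _ = (τ₁ * F.ι eI * τ₁⁻¹) * (τ₁ * s * τ₁⁻¹) := by rw [a4, hmid, conj_mul]
      _ = F.ι eI := by
        rw [a2, a1, hmid, mul_assoc, show s * s = 1 from ?_, mul_one]
        have := pow_orderOf_eq_one s
        rwa [F.orderOf_s, pow_two] at this
  have hiter : ∀ n : ℕ, y0 ^ (3 * n) * s * (y0 ^ (3 * n))⁻¹ = s ∧
      y0 ^ (3 * n) * F.ι eI * (y0 ^ (3 * n))⁻¹ = F.ι eI := by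
    have b3 : y0 * F.ι esI * y0⁻¹ = s := by
      rw [hmid, ← conj_mul, b2, b1, hmid, mul_assoc, hse, ← mul_assoc]
      have e4 : F.ι eI * F.ι eI = 1 := by
        have := pow_orderOf_eq_one (F.ι eI)
        rwa [(F.orderOf_two (by decide)).mpr (by rw [cls_eI]; norm_num), pow_two] at this
      rw [e4, one_mul]
    intro n
    induction n with
    | zero => simp
    | succ n ih =>
      have q3 : ∀ x, y0 ^ (3 * (n + 1)) * x * (y0 ^ (3 * (n + 1)))⁻¹ =
          y0 ^ (3 * n) * (y0 * (y0 * (y0 * x * y0⁻¹) * y0⁻¹) * y0⁻¹) * (y0 ^ (3 * n))⁻¹ := by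
        intro x
        rw [show 3 * (n + 1) = 3 * n + 1 + 1 + 1 by ring, pow_succ, pow_succ, pow_succ]
        group
      exact ⟨by rw [q3, b1, b2, b3, ih.1], by rw [q3, b2, b3, b1, ih.2]⟩
  obtain ⟨t, ht, hte⟩ := F.surj (y0 ^ (3 * 1)) (mul_inv_eq_iff_eq_mul.mp (hiter 1).1)
  have htT : commB t eI = true := (F.commB_iff ht (by decide)).mpr (by
    rw [hte]; exact mul_inv_eq_iff_eq_mul.mp (hiter 1).2)
  have ht8 := imp_spec (allL_spec (show allL (fun t => imp (commB t eI)
    (Nat.beq (mul (mul (mul t t) (mul t t)) (mul (mul t t) (mul t t))) 0)) = true by decide +kernel)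
    ht) htT
  have h24 : y0 ^ 24 = 1 := by
    rw [show y0 ^ 24 = (y0 ^ (3 * 1) * y0 ^ (3 * 1) * (y0 ^ (3 * 1) * y0 ^ (3 * 1))) *
        (y0 ^ (3 * 1) * y0 ^ (3 * 1) * (y0 ^ (3 * 1) * y0 ^ (3 * 1))) by group,
      ← hte, ← F.map_mul _ _ ht ht, ← F.map_mul _ _ (mul_lt ht ht) (mul_lt ht ht),
      ← F.map_mul _ _ (mul_lt (mul_lt ht ht) (mul_lt ht ht))
        (mul_lt (mul_lt ht ht) (mul_lt ht ht)), Nat.eq_of_beq_eq_true ht8, F.map_zero]
  refine ⟨y0 ^ 16, ?_, ?_, ?_⟩
  · rw [← pow_mul, show 16 * 3 = 24 * 2 by norm_num, pow_mul, h24, one_pow]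
  · calc _ = y0 ^ (3 * 5) * (y0 * s * y0⁻¹) * (y0 ^ (3 * 5))⁻¹ := by
          rw [show 16 = 3 * 5 + 1 by norm_num, pow_succ]; group
      _ = _ := by rw [b1, (hiter 5).2]
  · calc _ = y0 ^ (3 * 5) * (y0 * F.ι eI * y0⁻¹) * (y0 ^ (3 * 5))⁻¹ := by
          rw [show 16 = 3 * 5 + 1 by norm_num, pow_succ]; group
      _ = _ := by rw [b2, hmid, ← conj_mul, (hiter 5).1, (hiter 5).2]

end Frame

end Cfsg.Agent.H80.M12
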